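import Mathlib
import Cfsg.Agent.Lib.Critical.Basic

/-!
Cubic edge-transitive actions with faithful `2`-group edge stabilisers and self-centralising kernels:
the local structure at a vertex.
-/

set_option autoImplicit false
set_option linter.unusedSectionVars false
set_option linter.unusedVariables false
set_option linter.style.haveILetI false

namespace CfsgLib.Goldschmidt

variable {X : Type*} [Group X] {V : Type*} [MulAction X V]

local notation "St" => MulAction.stabilizer X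

theorem mem_normalizer_finite {H : Subgroup X} [Finite H] {g : X}
    (hg : ∀ x ∈ H, g * x * g⁻¹ ∈ H) : g ∈ Subgroup.normalizer (H : Set X) := by
  rw [Subgroup.mem_normalizer_iff]
  refine fun x => ⟨hg x, fun h => ?_⟩
  have hinj : Function.Injective (fun y : H => (⟨g * y * g⁻¹, hg _ y.2⟩ : H)) := fun a b e => by
    simpa using congrArg Subtype.val e
  obtain ⟨y, hy⟩ := Finite.surjective_of_injective hinj ⟨_, h⟩
  have e : g * (y : X) * g⁻¹ = g * x * g⁻¹ := congrArg Subtype.val hy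
  rw [mul_right_cancel_iff, mul_left_cancel_iff] at e
  exact e ▸ y.2

/-- In a subgroup where products of two elements outside `H` lie in `H`, the elements in `H` are at
least half. -/
theorem card_le_two_mul {H K : Subgroup X} [Finite K]
    (h : ∀ x ∈ K, ∀ y ∈ K, x ∉ H → y ∉ H → x * y ∈ H) :
    Nat.card K ≤ 2 * Nat.card ↥(K ⊓ H) := by
  have hmul := Subgroup.card_mul_index (H.subgroupOf K)
  have hcard : Nat.card (H.subgroupOf K) = Nat.card ↥(K ⊓ H) := by
    rw [← Subgroup.inf_subgroupOf_left]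
    exact Nat.card_congr (Subgroup.subgroupOfEquivOfLe inf_le_left).toEquiv
  have hidx : (H.subgroupOf K).index ≤ 2 := by
    by_cases hle : K ≤ H
    · rw [Subgroup.subgroupOf_eq_top.2 hle, Subgroup.index_top]; omega
    · obtain ⟨a, ha, haH⟩ := SetLike.not_le_iff_exists.1 hle
      refine le_of_eq (Subgroup.relIndex_eq_two_iff.2 ⟨a, ha, fun b hb => ?_⟩)
      by_cases hbH : b ∈ H
      · exact Or.inr ⟨hbH, fun e => haH (by simpa using mul_mem (inv_mem hbH) e)⟩
      · exact Or.inl ⟨h b hb a ha hbH haH, hbH⟩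
  rw [← hmul, hcard, mul_comm]
  exact Nat.mul_le_mul_right _ hidx

theorem card_eq_two_mul {H K : Subgroup X} [Finite K] (hle : H ≤ K) (hne : ¬ K ≤ H)
    (h : ∀ x ∈ K, ∀ y ∈ K, x ∉ H → y ∉ H → x * y ∈ H) :
    Nat.card K = 2 * Nat.card H := by
  obtain ⟨a, ha, haH⟩ := SetLike.not_le_iff_exists.1 hne
  have h2 : H.relIndex K = 2 := Subgroup.relIndex_eq_two_iff.2 ⟨a, ha, fun b hb => by
    by_cases hbH : b ∈ H
    · exact Or.inr ⟨hbH, fun e => haH (by simpa using mul_mem (inv_mem hbH) e)⟩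
    · exact Or.inl ⟨h b hb a ha hbH haH, hbH⟩⟩
  have hmul := Subgroup.card_mul_index (H.subgroupOf K)
  rw [Subgroup.relIndex] at h2
  rw [Nat.card_congr (Subgroup.subgroupOfEquivOfLe hle).toEquiv, h2] at hmul
  omega

theorem eq_of_le_card {H K : Subgroup X} [Finite K] (hle : H ≤ K) (hc : Nat.card K ≤ Nat.card H) :
    H = K := by
  haveI : Finite H := Finite.of_injective _ (Subgroup.inclusion_injective hle)
  exact Subgroup.eq_of_le_of_card_ge hle hc

/-- The elements fixing a vertex and all its neighbours. -/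
def kerNbr (Adj : V → V → Prop) (a : V) : Subgroup X where
  carrier := {g | g • a = a ∧ ∀ w, Adj a w → g • w = w}
  one_mem' := by simp
  mul_mem' := by
    rintro x y ⟨hx, hx'⟩ ⟨hy, hy'⟩
    exact ⟨by rw [mul_smul, hy, hx], fun w hw => by rw [mul_smul, hy' w hw, hx' w hw]⟩
  inv_mem' := by
    rintro x ⟨hx, hx'⟩
    exact ⟨inv_smul_eq_iff.2 hx.symm, fun w hw => inv_smul_eq_iff.2 (hx' w hw).symm⟩

/-- The hypotheses: an action on the vertices of a cubic bipartite graph, transitive on edges, with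
`2`-groups as edge stabilisers, self-centralising neighbour kernels, no common normal subgroup in an
edge stabiliser, and central involutions of edge stabilisers central at the vertices outside `A`. -/
structure Ctx (X : Type*) [Group X] (V : Type*) [MulAction X V] where
  Adj : V → V → Prop
  A : V → Prop
  symm : ∀ {a b : V}, Adj a b → Adj b a
  smul_adj : ∀ (g : X) {a b : V}, Adj a b → Adj (g • a) (g • b)
  smul_A : ∀ (g : X) (a : V), A (g • a) ↔ A a
  side : ∀ {a b : V}, Adj a b → (A a ↔ ¬ A b)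
  edge : ∀ {a b c d : V}, Adj a b → Adj c d → (A a ↔ A c) → ∃ g : X, g • a = c ∧ g • b = d
  nbr : ∀ a : V, ∃ x y z : V, x ≠ y ∧ x ≠ z ∧ y ≠ z ∧ ∀ w, Adj a w ↔ (w = x ∨ w = y ∨ w = z)
  fin : ∀ a : V, Finite ↥(MulAction.stabilizer X a)
  ed_two : ∀ {a b : V}, Adj a b →
    IsPGroup 2 ↥(MulAction.stabilizer X a ⊓ MulAction.stabilizer X b)
  swap : ∀ {a b : V}, Adj a b → ∃ g : X, g • a = a ∧ g • b = b ∧ ∃ w, Adj a w ∧ g • w ≠ w
  charp : ∀ (a : V) (g : X), g • a = a → (∀ q ∈ kerNbr Adj a, g * q = q * g) → g ∈ kerNbr Adj a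
  faithful : ∀ {a b : V}, Adj a b → ∀ N : Subgroup X,
    N ≤ MulAction.stabilizer X a ⊓ MulAction.stabilizer X b →
    MulAction.stabilizer X a ≤ Subgroup.normalizer (N : Set X) →
    MulAction.stabilizer X b ≤ Subgroup.normalizer (N : Set X) → N = ⊥
  passive : ∀ {a b : V}, Adj a b → A a → ∀ x : X, x • a = a → x • b = b → x * x = 1 →
    (∀ e : X, e • a = a → e • b = b → e * x = x * e) → ∀ g : X, g • b = b → g * x = x * g

namespace Ctx

variable (C : Ctx X V)

/-- The edge stabiliser. -/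
abbrev Ed (a b : V) : Subgroup X := St a ⊓ St b

/-- The kernel on the neighbours. -/
abbrev Q (a : V) : Subgroup X := kerNbr C.Adj a

theorem mem_Ed {a b : V} {g : X} : g ∈ (Ed a b : Subgroup X) ↔ g • a = a ∧ g • b = b := Iff.rfl

theorem Ed_comm (a b : V) : (Ed a b : Subgroup X) = Ed b a := inf_comm _ _

theorem Ed_swap {a b : V} {g : X} (h : g ∈ (Ed a b : Subgroup X)) : g ∈ (Ed b a : Subgroup X) :=
  ⟨h.2, h.1⟩

include C

theorem mem_Q {a : V} {g : X} : g ∈ C.Q a ↔ g • a = a ∧ ∀ w, C.Adj a w → g • w = w := Iff.rfl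

theorem Q_le_St (a : V) : C.Q a ≤ St a := fun _ h => h.1

theorem Q_le_Ed {a b : V} (h : C.Adj a b) : C.Q a ≤ Ed a b := fun _ hg => ⟨hg.1, hg.2 b h⟩

theorem finite_le {a : V} {H : Subgroup X} (h : H ≤ St a) : Finite H := by
  haveI := C.fin a
  exact Finite.of_injective _ (Subgroup.inclusion_injective h)

theorem finite_Ed (a b : V) : Finite ↥(Ed a b : Subgroup X) := C.finite_le inf_le_left

theorem finite_Q (a : V) : Finite ↥(C.Q a) := C.finite_le (C.Q_le_St a)

theorem A_iff_of_two {a b c : V} (h1 : C.Adj a b) (h2 : C.Adj b c) : C.A a ↔ C.A c := by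
  have e1 := C.side h1; have e2 := C.side h2; tauto

theorem not_A {a b : V} (h : C.Adj a b) (ha : C.A a) : ¬ C.A b := (C.side h).1 ha

theorem A_of_not {a b : V} (h : C.Adj a b) (hb : ¬ C.A b) : C.A a := (C.side h).2 hb

theorem exists_nbr (a : V) : ∃ b, C.Adj a b := by
  obtain ⟨x, y, z, -, -, -, h⟩ := C.nbr a
  exact ⟨x, (h x).2 (Or.inl rfl)⟩

theorem exists_others {a b : V} (h : C.Adj a b) :
    ∃ u w, C.Adj a u ∧ C.Adj a w ∧ u ≠ b ∧ w ≠ b ∧ u ≠ w := by
  obtain ⟨x, y, z, hxy, hxz, hyz, hw⟩ := C.nbr a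
  have hx := (hw x).2 (Or.inl rfl)
  have hy := (hw y).2 (Or.inr (Or.inl rfl))
  have hz := (hw z).2 (Or.inr (Or.inr rfl))
  rcases (hw b).1 h with rfl | rfl | rfl
  · exact ⟨y, z, hy, hz, hxy.symm, hxz.symm, hyz⟩
  · exact ⟨x, z, hx, hz, hxy, hyz.symm, hxz⟩
  · exact ⟨x, y, hx, hy, hxz, hyz, hxy⟩

theorem three {a b u w v : V} (hb : C.Adj a b) (hu : C.Adj a u) (hw : C.Adj a w) (hv : C.Adj a v)
    (h1 : u ≠ b) (h2 : w ≠ b) (h3 : u ≠ w) : v = b ∨ v = u ∨ v = w := by
  obtain ⟨x, y, z, -, -, -, h⟩ := C.nbr a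
  rcases (h b).1 hb with rfl | rfl | rfl <;> rcases (h u).1 hu with rfl | rfl | rfl <;>
    rcases (h w).1 hw with rfl | rfl | rfl <;> rcases (h v).1 hv with rfl | rfl | rfl <;>
    first
      | exact Or.inl rfl
      | exact Or.inr (Or.inl rfl)
      | exact Or.inr (Or.inr rfl)
      | exact absurd rfl h1
      | exact absurd rfl h2
      | exact absurd rfl h3

theorem smul_nbr {a w : V} {g : X} (hg : g • a = a) (hw : C.Adj a w) : C.Adj a (g • w) := by
  simpa [hg] using C.smul_adj g hw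

theorem moves {a b u : V} {g : X} (hb : C.Adj a b) (hu : C.Adj a u) (hub : u ≠ b)
    (hg : g ∈ (Ed a b : Subgroup X)) (hgQ : g ∉ C.Q a) :
    g • u ≠ u ∧ g • u ≠ b ∧ C.Adj a (g • u) ∧ g • g • u = u := by
  have hne : ∀ v, v ≠ b → g • v ≠ b := fun v hv e =>
    hv (MulAction.injective g (e.trans hg.2.symm))
  have hu' := C.smul_nbr hg.1 hu
  have key : g • u ≠ u := fun e => hgQ ⟨hg.1, fun v hv => by
    by_cases hvb : v = b
    · exact hvb ▸ hg.2
    by_cases hvu : v = u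
    · exact hvu ▸ e
    rcases C.three hb hu hv (C.smul_nbr hg.1 hv) hub hvb (Ne.symm hvu) with h | h | h
    · exact absurd h (hne v hvb)
    · exact absurd (MulAction.injective g (h.trans e.symm)) hvu
    · exact h⟩
  refine ⟨key, hne u hub, hu', ?_⟩
  rcases C.three hb hu hu' (C.smul_nbr hg.1 hu') hub (hne u hub) key.symm with h | h | h
  · exact absurd h (hne _ (hne u hub))
  · exact h
  · exact absurd (MulAction.injective g h) key

theorem mem_Q_of_fix {a b u : V} {g : X} (hb : C.Adj a b) (hu : C.Adj a u) (hub : u ≠ b)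
    (hg : g • a = a) (hgb : g • b = b) (hgu : g • u = u) : g ∈ C.Q a :=
  by_contra fun h => (C.moves hb hu hub ⟨hg, hgb⟩ h).1 hgu

theorem two_coset {a b : V} (h : C.Adj a b) {x y : X} (hx : x ∈ (Ed a b : Subgroup X))
    (hy : y ∈ (Ed a b : Subgroup X)) (hxQ : x ∉ C.Q a) (hyQ : y ∉ C.Q a) : x * y ∈ C.Q a := by
  obtain ⟨u, w, hu, hw, hub, hwb, huw⟩ := C.exists_others h
  refine C.mem_Q_of_fix h hu hub (mul_mem hx hy).1 (mul_mem hx hy).2 ?_
  have other : ∀ {z : X}, z ∈ (Ed a b : Subgroup X) → z ∉ C.Q a → z • u = w := fun hz hzQ => by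
    obtain ⟨m1, m2, m3, -⟩ := C.moves h hu hub hz hzQ
    rcases C.three h hu hw m3 hub hwb huw with e | e | e
    · exact absurd e m2
    · exact absurd e m1
    · exact e
  rw [mul_smul, other hy hyQ, ← other hx hxQ]
  exact (C.moves h hu hub hx hxQ).2.2.2

theorem exists_Ed_not_Q {a b : V} (h : C.Adj a b) : ∃ g ∈ (Ed a b : Subgroup X), g ∉ C.Q a := by
  obtain ⟨g, ha, hb, w, hw, hne⟩ := C.swap h
  exact ⟨g, ⟨ha, hb⟩, fun e => hne (e.2 w hw)⟩

theorem card_Ed {a b : V} (h : C.Adj a b) :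
    Nat.card ↥(Ed a b : Subgroup X) = 2 * Nat.card ↥(C.Q a) := by
  haveI := C.finite_Ed a b
  obtain ⟨g, hg, hgQ⟩ := C.exists_Ed_not_Q h
  exact card_eq_two_mul (C.Q_le_Ed h) (fun e => hgQ (e hg)) fun x hx y hy => C.two_coset h hx hy

theorem card_Q_eq {a b : V} (h : C.Adj a b) : Nat.card ↥(C.Q a) = Nat.card ↥(C.Q b) := by
  have e1 := C.card_Ed h
  have e2 := C.card_Ed (C.symm h)
  rw [Ed_comm] at e2
  omega

/-- A subgroup containing an edge stabiliser and an element moving the other end contains the vertex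
stabiliser. -/
theorem St_le {a b : V} (h : C.Adj a b) {H : Subgroup X} (hE : Ed a b ≤ H) {g : X} (hg : g ∈ H)
    (hga : g • a = a) (hgb : g • b ≠ b) : St a ≤ H := by
  intro x hx
  have hu := C.smul_nbr hga h
  obtain ⟨e, he, heQ⟩ := C.exists_Ed_not_Q h
  obtain ⟨m1, m2, m3, -⟩ := C.moves h hu hgb he heQ
  have key : ∀ k ∈ H, k • a = a → k • b = x • b → x ∈ H := fun k hk hka hkb => by
    have : k⁻¹ * x ∈ H := hE ⟨by
      show (k⁻¹ * x) • a = a
      rw [mul_smul, show x • a = a from hx, inv_smul_eq_iff, hka],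
      by show (k⁻¹ * x) • b = b; rw [mul_smul, inv_smul_eq_iff, hkb]⟩
    simpa using mul_mem hk this
  rcases C.three h hu m3 (C.smul_nbr hx h) hgb m2 m1.symm with k | k | k
  · exact key 1 (one_mem _) (one_smul _ _) (by rw [one_smul, k])
  · exact key g hg hga k.symm
  · exact key (e * g) (mul_mem (hE he) hg) (by rw [mul_smul, hga, he.1]) (by rw [mul_smul, k])

theorem St_le_of_two {a b b' : V} (h : C.Adj a b) (h' : C.Adj a b') (hne : b ≠ b') {H : Subgroup X}
    (hE : Ed a b ≤ H) (hE' : Ed a b' ≤ H) : St a ≤ H := by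
  obtain ⟨g, hg, hgQ⟩ := C.exists_Ed_not_Q h'
  exact C.St_le h hE (hE' hg) hg.1 (C.moves h' h hne hg hgQ).1

theorem smul_Q {a : V} {g x : X} (hx : x ∈ C.Q a) : g * x * g⁻¹ ∈ C.Q (g • a) := by
  refine ⟨by rw [mul_smul, mul_smul, inv_smul_smul, hx.1], fun w hw => ?_⟩
  have h' := C.smul_adj g⁻¹ hw
  rw [inv_smul_smul] at h'
  rw [mul_smul, mul_smul, hx.2 _ h', smul_inv_smul]

theorem conj_Q {a : V} {g x : X} (hg : g • a = a) (hx : x ∈ C.Q a) : g * x * g⁻¹ ∈ C.Q a := by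
  simpa [hg] using C.smul_Q (g := g) hx

theorem smul_Q_iff {a : V} {g x : X} : g * x * g⁻¹ ∈ C.Q (g • a) ↔ x ∈ C.Q a :=
  ⟨fun h => by simpa [mul_assoc] using C.smul_Q (g := g⁻¹) h, C.smul_Q⟩

theorem smul_Ed {a b : V} {g x : X} (hx : x ∈ (Ed a b : Subgroup X)) :
    g * x * g⁻¹ ∈ (Ed (g • a) (g • b) : Subgroup X) :=
  ⟨by show (g * x * g⁻¹) • g • a = g • a; rw [mul_smul, mul_smul, inv_smul_smul, hx.1],
   by show (g * x * g⁻¹) • g • b = g • b; rw [mul_smul, mul_smul, inv_smul_smul, hx.2]⟩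

/-- A nontrivial subgroup of an edge stabiliser normalised by it holds a central involution. -/
theorem exists_central {a b : V} (h : C.Adj a b) {K : Subgroup X} (hK : K ≤ Ed a b) (hne : K ≠ ⊥)
    (hn : ∀ e ∈ (Ed a b : Subgroup X), ∀ x ∈ K, e * x * e⁻¹ ∈ K) :
    ∃ z ∈ K, z ≠ 1 ∧ z * z = 1 ∧ ∀ e ∈ (Ed a b : Subgroup X), e * z = z * e := by
  haveI := C.finite_Ed a b
  haveI : Group.IsNilpotent ↥(Ed a b : Subgroup X) := (C.ed_two h).isNilpotent
  haveI : (K.subgroupOf (Ed a b)).Normal := ⟨fun x hx e => hn e e.2 _ hx⟩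
  obtain ⟨x, hx, hx1⟩ := (Subgroup.bot_or_exists_ne_one K).resolve_left hne
  have hne' : K.subgroupOf (Ed a b) ≠ ⊥ := fun e => hx1 (by
    have : (⟨x, hK hx⟩ : ↥(Ed a b : Subgroup X)) ∈ K.subgroupOf (Ed a b) := hx
    rw [e, Subgroup.mem_bot] at this
    exact congrArg Subtype.val this)
  obtain ⟨⟨w, hwK, hwc⟩, hw1⟩ :=
    Subgroup.ne_bot_iff_exists_ne_one.1 (CfsgLib.Critical.inf_center_ne_bot _ hne')
  obtain ⟨k, hk⟩ := IsPGroup.iff_orderOf.1 (C.ed_two h) w
  have hk0 : k ≠ 0 := fun e => hw1 (Subtype.ext (orderOf_eq_one_iff.1 (by rw [hk, e, pow_zero])))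
  obtain ⟨m, rfl⟩ : ∃ m, k = m + 1 := ⟨k - 1, by omega⟩
  refine ⟨((w ^ 2 ^ m : ↥(Ed a b : Subgroup X)) : X), (show w ^ 2 ^ m ∈ K.subgroupOf (Ed a b) from pow_mem hwK _),
    fun e => ?_, ?_, fun e he => ?_⟩
  · have e' : w ^ 2 ^ m = 1 := Subtype.ext e
    have h1 := orderOf_le_of_pow_eq_one (by positivity) e'
    rw [hk, pow_succ] at h1
    have := Nat.two_pow_pos m
    omega
  · have e' : w ^ 2 ^ m * w ^ 2 ^ m = 1 := by
      rw [← pow_add, ← two_mul, ← pow_succ', ← hk, pow_orderOf_eq_one]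
    exact congrArg Subtype.val e'
  · exact congrArg Subtype.val (Subgroup.mem_center_iff.1 (pow_mem hwc (2 ^ m)) ⟨e, he⟩)

end Ctx

end CfsgLib.Goldschmidt
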