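import Cfsg.Agent.Lib.Amalgam.Goldschmidt.Five

/-!
Critical length three.
-/

set_option autoImplicit false
set_option linter.unusedSectionVars false
set_option linter.unusedVariables false
set_option linter.style.haveILetI false

namespace CfsgLib.Goldschmidt

variable {X : Type*} [Group X] {V : Type*} [MulAction X V]

local notation "St" => MulAction.stabilizer X

namespace Ctx

variable (C : Ctx X V)

/-- An element treats the two further neighbours of `a` alike. -/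
def Bal (β a : V) (u : X) : Prop :=
  ∀ μ μ', C.Adj a μ → μ ≠ β → C.Adj a μ' → μ' ≠ β → (u ∈ C.Q μ ↔ u ∈ C.Q μ')

include C

variable {p : ℕ → V}

theorem CP_three (hp : C.CP p) (h3 : C.bb = 3) {a b c d : V} (hab : C.Adj a b) (hbc : C.Adj b c)
    (hcd : C.Adj c d) (h1 : c ≠ a) (h2 : d ≠ b) (hA : C.A a) : C.CP (cons a (w3 b c d)) := by
  have hb : 3 ≤ C.bb := h3.ge
  have ho : Odd C.bb := h3 ▸ ⟨1, rfl⟩
  have h01 : C.Adj (p 0) (p 1) := C.CP_adj hp (by omega)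
  obtain ⟨g, g1, g2, g3⟩ := C.pair_map (C.CP_adj hp (i := 1) (by omega))
    (C.CP_adj hp (i := 2) (by omega)) (C.CP_nb hp 1 (by omega)) hbc hcd h2
    (iff_of_false (C.not_A h01 hp.2.1) (C.not_A hab hA))
  have hμ : C.Adj (p 1) (g⁻¹ • a) := by
    have := C.smul_adj g⁻¹ (C.symm hab)
    rwa [inv_smul_eq_iff.2 g1.symm] at this
  have hne : g⁻¹ • a ≠ p 2 := fun e => h1 (by rw [inv_smul_eq_iff.1 e]; exact g2.symm)
  refine ⟨?_, hA, ?_⟩
  · rw [h3]; exact C.isW_cons hab (C.isW_w3 hbc hcd)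
  · have h' := C.not_le_of_smul g
      ((C.A_iff_of_two h01 hμ).1 hp.2.1) (C.near hp hb ho hμ hne)
    rw [smul_inv_smul, h3, g3] at h'
    rw [h3]
    exact h'

/-- A central involution is outside the kernels two steps beyond. -/
theorem gen_notQ (hp : C.CP p) (h3 : C.bb = 3) {o β w a μ : V} (hA : C.A o) (hoβ : C.Adj o β)
    (how : C.Adj o w) (hwβ : w ≠ β) (ha : C.Adj β a) (hao : a ≠ o) (hμ : C.Adj a μ) (hμβ : μ ≠ β)
    {z : X} (hz : z ∈ C.cB w) (hz1 : z ≠ 1) : z ∉ C.Q μ := fun e => by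
  have hb : 3 ≤ C.bb := h3.ge
  have hq := C.CP_three hp h3 hoβ ha hμ hao hμβ hA
  exact hz1 (C.cB_inf how hoβ hwβ hz (C.comm_self hq hb
    (C.card_cB_odd hp hb (h3 ▸ ⟨1, rfl⟩) hoβ hA) (C.cB_le_Z how hz)
    (by rw [h3]; exact e)))

theorem Z_three (hp : C.CP p) (h3 : C.bb = 3) {o β w w' : V} (hA : C.A o) (hoβ : C.Adj o β)
    (how : C.Adj o w) (how' : C.Adj o w') (h1 : w ≠ β) (h2 : w' ≠ β) (h12 : w ≠ w') {x : X}
    (hx : x ∈ C.Z o) : x ∈ C.cB β ∨ x ∈ C.cB w ∨ x ∈ C.cB w' := by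
  have kk : ∀ {b : V}, C.Adj o b → Nat.card ↥(C.cB b) = 2 := fun h =>
    C.card_cB_odd hp h3.ge (h3 ▸ ⟨1, rfl⟩) h hA
  refine or_iff_not_imp_left.2 fun hxβ => or_iff_not_imp_left.2 fun hxw => ?_
  obtain ⟨z, hz, hz1⟩ := (Subgroup.bot_or_exists_ne_one _).resolve_left (C.cB_ne_bot how hA)
  obtain ⟨z', hz', hz1'⟩ := (Subgroup.bot_or_exists_ne_one _).resolve_left (C.cB_ne_bot how' hA)
  have nz : z ∉ C.cB β := fun e => hz1 (C.cB_inf how hoβ h1 hz e)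
  have nz' : z' ∉ C.cB β := fun e => hz1' (C.cB_inf how' hoβ h2 hz' e)
  have hzZ := C.cB_le_Z how hz
  have e1 := C.Z_mul hoβ hA (kk hoβ) hx hzZ hxβ nz
  have e2 := C.Z_mul hoβ hA (kk hoβ) (C.cB_le_Z how' hz') hzZ nz' nz
  have n1 : x * z ≠ 1 := fun e => hxw (by
    rw [mul_eq_one_iff_eq_inv.1 e]; exact inv_mem hz)
  have n2 : z' * z ≠ 1 := fun e => hz1' (C.cB_inf how' how h12.symm hz' (by
    rw [mul_eq_one_iff_eq_inv.1 e]; exact inv_mem hz))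
  rw [mul_right_cancel (eq_of_card_two (kk hoβ) e1 e2 n1 n2)]
  exact hz'

theorem Zo_le_CC (h3 : C.bb = 3) {o β : V} (hA : C.A o) (h : C.Adj o β) : C.Z o ≤ C.CC β :=
  fun x hx => C.mem_CC.2 ⟨C.le_Q_one (by omega) h hA hx, fun a ha => C.le_Q_two h3.ge h ha hA hx⟩

/-- The far `Z` at distance three from `β` along `o`, `w`. -/
theorem t_facts (hp : C.CP p) (h3 : C.bb = 3) {β o w ν : V} (hA : C.A o) (hoβ : C.Adj o β)
    (how : C.Adj o w) (hwβ : w ≠ β) (hν : C.Adj w ν) (hνo : ν ≠ o) {t : X} (ht : t ∈ C.Z ν) :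
    C.A ν ∧ t • β = β ∧ t ∈ C.Q o ∧ (t ∉ C.cB w → t ∉ C.Q β) := by
  have hνA : C.A ν := (C.A_iff_of_two how hν).1 hA
  have hq := C.CP_three hp h3 (C.symm hν) (C.symm how) hoβ hνo.symm hwβ.symm hνA
  refine ⟨hνA, ?_, C.le_Q_two h3.ge (C.symm hν) (C.symm how) hνA ht, fun hc e => hc ?_⟩
  · have := C.CP_le_St hq (i := 0) (j := 3) (Nat.zero_le _) h3.ge Even.zero ht
    simpa [cons, w3] using this
  · have := C.comm_self hq h3.ge (x := t)
      (C.card_cB_odd hp h3.ge (h3 ▸ ⟨1, rfl⟩) (C.symm hν) hνA) ht (by rw [h3]; exact e)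
    exact this

theorem W_split (hp : C.CP p) (h3 : C.bb = 3) (hd : C.Dim) {o w ν : V} (hA : C.A o)
    (how : C.Adj o w) (hν : C.Adj w ν) (hνo : ν ≠ o) {t : X} (ht : t ∈ C.Z ν) (ht' : t ∉ C.cB w)
    {x : X} (hx : x ∈ C.W w) : x ∈ C.Z o ∨ x * t ∈ C.Z o := by
  have hb : 3 ≤ C.bb := h3.ge
  have ho : Odd C.bb := h3 ▸ ⟨1, rfl⟩
  have hB : ¬ C.A w := C.not_A how hA
  have hνA : C.A ν := (C.A_iff_of_two how hν).1 hA
  have htW := C.Z_le_W hν ht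
  have kk : ∀ {a : V}, C.Adj a w → C.A a → Nat.card ↥(C.cB w) = 2 := fun h h' =>
    C.card_cB_odd hp hb ho h h'
  have tt : t * t = 1 := C.Z_sq hνA ht
  have hoW : C.Z o ≤ C.W w := C.Z_le_W (C.symm how)
  let H : Subgroup X :=
    { carrier := {x | x ∈ C.W w ∧ (x ∈ C.Z o ∨ x * t ∈ C.Z o)}
      one_mem' := ⟨one_mem _, Or.inl (one_mem _)⟩
      mul_mem' := by
        rintro a b ⟨ha, ha'⟩ ⟨hb', hb''⟩
        refine ⟨mul_mem ha hb', ?_⟩
        rcases ha' with ha' | ha' <;> rcases hb'' with hb'' | hb''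
        · exact Or.inl (mul_mem ha' hb'')
        · exact Or.inr (by rw [mul_assoc]; exact mul_mem ha' hb'')
        · refine Or.inr ?_
          rw [mul_assoc, C.W_comm hb hB hb' htW, ← mul_assoc]
          exact mul_mem ha' hb''
        · left
          have e : a * t * (b * t) = a * b := by
            rw [C.W_comm hb hB hb' htW, ← mul_assoc, mul_assoc a, tt, mul_one]
          exact e ▸ mul_mem ha' hb''
      inv_mem' := by
        rintro a ⟨ha, ha'⟩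
        refine ⟨inv_mem ha, ?_⟩
        rcases ha' with ha' | ha'
        · exact Or.inl (inv_mem ha')
        · right
          have := inv_mem ha'
          rwa [mul_inv_rev, inv_eq_of_mul_eq_one_right tt,
            C.W_comm hb hB htW (inv_mem ha)] at this }
  have hle : C.W w ≤ H := iSup₂_le fun a ha y hy => by
    refine ⟨C.Z_le_W ha hy, ?_⟩
    have haA := C.A_of_not (C.symm ha) hB
    by_cases hao : a = o
    · exact Or.inl (hao ▸ hy)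
    by_cases hyc : y ∈ C.cB w
    · exact Or.inl (C.cB_le_Z how hyc)
    right
    by_cases haν : a = ν
    · subst haν
      exact C.cB_le_Z how (C.Z_mul (C.symm ha) haA (kk (C.symm ha) haA) hy ht hyc ht')
    obtain ⟨b, hb2, hb'⟩ := C.exists_Z_not_cB how hA
    have hr : C.IsR w (b * y * t) := ⟨o, a, ν, b, y, t, C.symm how, ha, hν, hao, hνo, haν,
      hb2, hb', hy, hyc, ht, ht', rfl⟩
    have := mul_mem (inv_mem hb2) (C.cB_le_Z how (C.Dim_mem hp hb ho hd hB hr))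
    rwa [← mul_assoc, ← mul_assoc, inv_mul_cancel, one_mul] at this
  exact (hle hx).2

theorem comm_mem_Z (hp : C.CP p) (h3 : C.bb = 3) (hd : C.Dim) {β o w ν : V} (hA : C.A o)
    (hoβ : C.Adj o β) (how : C.Adj o w) (hwβ : w ≠ β) (hν : C.Adj w ν) (hνo : ν ≠ o) {u t : X}
    (hu : u ∈ C.CC β) (ht : t ∈ C.Z ν) : u * t * u⁻¹ * t⁻¹ ∈ C.Z o := by
  obtain ⟨hνA, tβ, tQ, tnQ⟩ := C.t_facts hp h3 hA hoβ how hwβ hν hνo ht
  have hB : ¬ C.A w := C.not_A how hA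
  have huo : u ∈ C.Q o := C.CC_le_nbr (C.symm hoβ) hu
  have htW := C.Z_le_W hν ht
  have hxW : u * t * u⁻¹ * t⁻¹ ∈ C.W w :=
    mul_mem (C.conj_W hB (huo.2 w how) htW) (inv_mem htW)
  have hxC : u * t * u⁻¹ * t⁻¹ ∈ C.CC β := by
    rw [show u * t * u⁻¹ * t⁻¹ = u * (t * u⁻¹ * t⁻¹) by group]
    exact mul_mem hu (C.conj_CC tβ (inv_mem hu))
  by_cases htc : t ∈ C.cB w
  · rw [C.Z_comm_Q hA huo (C.cB_le_Z how htc), mul_inv_cancel_right, mul_inv_cancel]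
    exact one_mem _
  refine (C.W_split hp h3 hd hA how hν hνo ht htc hxW).resolve_right fun e => ?_
  obtain ⟨a, -, ha, -, hao, -, -⟩ := C.exists_others (C.symm hoβ)
  have h1 : t ∈ C.Q a := by
    have := mul_mem (inv_mem (C.CC_le_nbr ha hxC)) (C.le_Q_two h3.ge hoβ ha hA e)
    rwa [← mul_assoc, inv_mul_cancel, one_mul] at this
  exact (C.moves (C.symm hoβ) ha hao ⟨tβ, tQ.1⟩ (tnQ htc)).1 h1.1

theorem exists_e (hp : C.CP p) (h3 : C.bb = 3) (hd : C.Dim) {β o w w' a ν : V} (hA : C.A o)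
    (hoβ : C.Adj o β) (how : C.Adj o w) (how' : C.Adj o w') (hwβ : w ≠ β) (hw'β : w' ≠ β)
    (hww : w ≠ w') (ha : C.Adj β a) (hao : a ≠ o) (hν : C.Adj w ν) (hνo : ν ≠ o) {s t : X}
    (hs : s ∈ C.Z a) (hs' : s ∉ C.cB β) (ht : t ∈ C.Z ν) (ht' : t ∉ C.cB w) :
    s * (t * s * t⁻¹) ∈ C.cB w' ∧ s * (t * s * t⁻¹) ≠ 1 := by
  have hb : 3 ≤ C.bb := h3.ge
  have ho : Odd C.bb := h3 ▸ ⟨1, rfl⟩
  have haA : C.A a := (C.A_iff_of_two hoβ ha).1 hA
  have hq := C.CP_three hp h3 (C.symm ha) (C.symm hoβ) how hao.symm hwβ haA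
  have hν' : C.Adj (cons a (w3 β o w) C.bb) ν := by rw [h3]; exact hν
  have hsQ : s ∉ C.Q (cons a (w3 β o w) C.bb) := fun e =>
    hs' (C.comm_self hq hb (C.card_cB_odd hp hb ho (C.symm ha) haA) hs e)
  obtain ⟨hνA, tβ, tQ, tnQ⟩ := C.t_facts hp h3 hA hoβ how hwβ hν hνo ht
  obtain ⟨f1, f2, -⟩ := C.Dim_e hq hb ho hd hν' hs hsQ ht (tnQ ht')
  obtain ⟨e12, -, -⟩ := C.IsR_ends hq hb ho hν' hs hsQ ht (tnQ ht')
  refine ⟨?_, fun e => f2 (e ▸ one_mem _)⟩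
  rcases C.Z_three hp h3 hA hoβ how how' hwβ hw'β hww f1 with h | h | h
  · exact absurd h f2
  · exfalso
    obtain ⟨m1, -, m3, -⟩ := C.moves_far hq hb hs hsQ hν'
      (by simpa [h3, cons, w3] using hνo)
    rw [h3] at m3
    rw [e12] at h
    have h1 : s * t * s⁻¹ ∈ C.Z ν := by
      have := mul_mem (C.cB_le_Z (C.symm hν) h) (inv_mem ht)
      rwa [mul_inv_cancel_right] at this
    have h2 := C.Z_inter hp hb ho (C.symm hν) hνA m3 m1 h1 (C.smul_Z hνA ht)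
    refine ht' ?_
    have h4 := mul_mem (inv_mem h2) h
    rwa [← mul_assoc, inv_mul_cancel, one_mul] at h4
  · exact h

theorem q_facts (hp : C.CP p) (h3 : C.bb = 3) (hd : C.Dim) {β o w w' a ν ν' : V} (hA : C.A o)
    (hoβ : C.Adj o β) (how : C.Adj o w) (how' : C.Adj o w') (hwβ : w ≠ β) (hw'β : w' ≠ β)
    (hww : w ≠ w') (ha : C.Adj β a) (hao : a ≠ o) (hν : C.Adj w ν) (hνo : ν ≠ o)
    (hν' : C.Adj w' ν') (hνo' : ν' ≠ o) {t t' : X} (ht : t ∈ C.Z ν) (htc : t ∉ C.cB w)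
    (ht' : t' ∈ C.Z ν') (htc' : t' ∉ C.cB w') :
    (t * t') • a = a ∧ (t * t') • β = β ∧ t * t' ∉ C.Q a := by
  obtain ⟨hνA, tβ, tQ, tnQ⟩ := C.t_facts hp h3 hA hoβ how hwβ hν hνo ht
  obtain ⟨hνA', tβ', tQ', tnQ'⟩ := C.t_facts hp h3 hA hoβ how' hw'β hν' hνo' ht'
  have haA : C.A a := (C.A_iff_of_two hoβ ha).1 hA
  have hoE : ∀ {x : X}, x • β = β → x ∈ C.Q o → x ∈ (Ed β o : Subgroup X) := fun h h' => ⟨h, h'.1⟩
  obtain ⟨m1, m2, m3, m4⟩ := C.moves (C.symm hoβ) ha hao (hoE tβ tQ) (tnQ htc)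
  obtain ⟨n1, n2, n3, n4⟩ := C.moves (C.symm hoβ) ha hao (hoE tβ' tQ') (tnQ' htc')
  have hsame : t' • a = t • a := by
    rcases C.three (C.symm hoβ) ha m3 n3 hao m2 m1.symm with e | e | e
    · exact absurd e n2
    · exact absurd e n1
    · exact e
  refine ⟨by rw [mul_smul, hsame, m4], by rw [mul_smul, tβ', tβ], fun hq => ?_⟩
  obtain ⟨s, hs, hs'⟩ := C.exists_Z_not_cB (C.symm ha) haA
  obtain ⟨e1, e1n⟩ := C.exists_e hp h3 hd hA hoβ how how' hwβ hw'β hww ha hao hν hνo hs hs' ht htc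
  obtain ⟨e2, -⟩ := C.exists_e hp h3 hd hA hoβ how' how hw'β hwβ hww.symm ha hao hν' hνo' hs hs'
    ht' htc'
  refine e1n (C.cB_inf how' how hww.symm e1 ?_)
  have hc : t * t' * s * (t * t')⁻¹ = s := by rw [C.Z_comm_Q haA hq hs, mul_inv_cancel_right]
  have ti : t⁻¹ = t := C.Z_inv hνA ht
  have h1 : t * s * t⁻¹ = t' * s * t'⁻¹ := by
    calc t * s * t⁻¹ = t⁻¹ * s * t⁻¹⁻¹ := by rw [inv_inv, ti]
      _ = t⁻¹ * (t * t' * s * (t * t')⁻¹) * t⁻¹⁻¹ := by rw [hc]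
      _ = t' * s * t'⁻¹ := by group
  rwa [h1]

/-- The common kernel of the vertices at distance at most two. -/
def S6 (β : V) : Subgroup X := C.CC β ⊓ ⨅ a, ⨅ (_ : C.Adj β a), ⨅ μ, ⨅ (_ : C.Adj a μ), C.Q μ

theorem mem_S6 {β : V} {x : X} :
    x ∈ C.S6 β ↔ x ∈ C.CC β ∧ ∀ a, C.Adj β a → ∀ μ, C.Adj a μ → x ∈ C.Q μ := by
  simp only [S6, Subgroup.mem_inf, Subgroup.mem_iInf]

theorem smul_S6 {β : V} {g x : X} (hx : x ∈ C.S6 β) : g * x * g⁻¹ ∈ C.S6 (g • β) := by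
  rw [mem_S6] at hx ⊢
  refine ⟨C.smul_CC hx.1, fun a ha μ hμ => ?_⟩
  have h1 := C.smul_adj g⁻¹ ha
  rw [inv_smul_smul] at h1
  simpa using C.smul_Q (g := g) (hx.2 _ h1 _ (C.smul_adj g⁻¹ hμ))

theorem flip_Q {a μ : V} (h : C.Adj μ a) {u z : X} (hu : u ∈ (Ed μ a : Subgroup X))
    (hz : z ∈ (Ed μ a : Subgroup X)) (hzQ : z ∉ C.Q μ) : u * z ∈ C.Q μ ↔ u ∉ C.Q μ :=
  ⟨fun e h' => hzQ ((mul_mem_cancel_left h').1 e), fun h' => C.two_coset h hu hz h' hzQ⟩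

theorem side_Ed {β a μ : V} (ha : C.Adj β a) (hμ : C.Adj a μ) {u : X} (hu : u ∈ C.CC β) :
    u ∈ (Ed μ a : Subgroup X) :=
  ⟨(C.CC_le_nbr ha hu).2 μ hμ, (C.CC_le_nbr ha hu).1⟩

theorem N2_step (hp : C.CP p) (h3 : C.bb = 3) (hd : C.Dim) {β o w w' : V} (hA : C.A o)
    (hoβ : C.Adj o β) (how : C.Adj o w) (how' : C.Adj o w') (hwβ : w ≠ β) (hw'β : w' ≠ β)
    (hww : w ≠ w') {z : X} (hz : z ∈ C.cB w) (hz1 : z ≠ 1) {n : X} (hn : n ∈ C.CC β)
    (hnw : n ∈ C.CC w) (hnw' : n ∈ C.CC w') : n ∈ C.S6 β ∨ n * z ∈ C.S6 β := by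
  obtain ⟨ν, -, hν, -, hνo, -, -⟩ := C.exists_others (C.symm how)
  obtain ⟨ν', -, hν', -, hνo', -, -⟩ := C.exists_others (C.symm how')
  obtain ⟨t, ht, htc⟩ := C.exists_Z_not_cB (C.symm hν) ((C.A_iff_of_two how hν).1 hA)
  obtain ⟨t', ht', htc'⟩ := C.exists_Z_not_cB (C.symm hν') ((C.A_iff_of_two how' hν').1 hA)
  obtain ⟨hνA, tβ, tQ, tnQ⟩ := C.t_facts hp h3 hA hoβ how hwβ hν hνo ht
  have hnt : Commute n t := C.Z_comm_Q hνA (C.CC_le_nbr hν hnw) ht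
  have hnt' : Commute n t' :=
    C.Z_comm_Q ((C.A_iff_of_two how' hν').1 hA) (C.CC_le_nbr hν' hnw') ht'
  obtain ⟨a, -, ha, -, hao, -, -⟩ := C.exists_others (C.symm hoβ)
  obtain ⟨μ, μ', hμ, hμ', hμβ, hμβ', hμμ⟩ := C.exists_others (C.symm ha)
  obtain ⟨qa, qβ, qQ⟩ := C.q_facts hp h3 hd hA hoβ how how' hwβ hw'β hww ha hao hν hνo hν' hνo'
    ht htc ht' htc'
  obtain ⟨m1, m2, m3, -⟩ := C.moves (C.symm hoβ) ha hao ⟨tβ, tQ.1⟩ (tnQ htc)
  have inv_mov : ∀ {g : X}, Commute n g → ∀ v, n ∈ C.Q (g • v) ↔ n ∈ C.Q v := fun {g} hg v => by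
    have e : g * n * g⁻¹ = n := by rw [← hg.eq, mul_inv_cancel_right]
    constructor
    · intro h
      exact (C.smul_Q_iff (g := g)).1 (by rw [e]; exact h)
    · intro h
      exact e ▸ C.smul_Q (g := g) h
  have hall_a : ∀ v, C.Adj a v → v ≠ β → (n ∈ C.Q v ↔ n ∈ C.Q μ) := by
    intro v hv hvβ
    by_cases h : v = μ
    · rw [h]
    obtain ⟨k1, k2, k3, -⟩ := C.moves (C.symm ha) hμ hμβ ⟨qa, qβ⟩ qQ
    rcases C.three (C.symm ha) hμ hv k3 hμβ hvβ (Ne.symm h) with e | e | e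
    · exact absurd e k2
    · exact absurd e k1
    · rw [← e]; exact inv_mov (hnt.mul_right hnt') μ
  have hall : ∀ b, C.Adj β b → b ≠ o → ∀ v, C.Adj b v → v ≠ β → (n ∈ C.Q v ↔ n ∈ C.Q μ) := by
    intro b hb hbo v hv hvβ
    rcases C.three (C.symm hoβ) ha m3 hb hao m2 m1.symm with e | e | e
    · exact absurd e hbo
    · subst e; exact hall_a v hv hvβ
    · subst e
      have h' := C.smul_adj t⁻¹ hv
      rw [inv_smul_smul] at h'
      rw [← hall_a (t⁻¹ • v) h' fun e => hvβ (by rw [inv_smul_eq_iff.1 e, tβ]),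
        ← inv_mov hnt (t⁻¹ • v), smul_inv_smul]
  have hzC : z ∈ C.CC β := C.Zo_le_CC h3 hA hoβ (C.cB_le_Z how hz)
  have at_o : ∀ v, C.Adj o v → n ∈ C.Q v ∧ z ∈ C.Q v := fun v hv => by
    refine ⟨?_, C.le_Q_one (by omega) hv hA (C.cB_le_Z how hz)⟩
    rcases C.three hoβ how how' hv hwβ hw'β hww with rfl | rfl | rfl
    · exact C.CC_le_Q _ hn
    · exact C.CC_le_Q _ hnw
    · exact C.CC_le_Q _ hnw'
  by_cases hnμ : n ∈ C.Q μ
  · refine Or.inl (C.mem_S6.2 ⟨hn, fun b hb v hv => ?_⟩)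
    by_cases hvβ : v = β
    · exact hvβ ▸ C.CC_le_Q _ hn
    by_cases hbo : b = o
    · exact (at_o v (hbo ▸ hv)).1
    · exact (hall b hb hbo v hv hvβ).2 hnμ
  · refine Or.inr (C.mem_S6.2 ⟨mul_mem hn hzC, fun b hb v hv => ?_⟩)
    by_cases hvβ : v = β
    · exact hvβ ▸ C.CC_le_Q _ (mul_mem hn hzC)
    by_cases hbo : b = o
    · exact mul_mem (at_o v (hbo ▸ hv)).1 (at_o v (hbo ▸ hv)).2
    · exact (C.flip_Q (C.symm hv) (C.side_Ed hb hv hn) (C.side_Ed hb hv hzC)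
        (C.gen_notQ hp h3 hA hoβ how hwβ hb hbo hv hvβ hz hz1)).2
          fun e => hnμ ((hall b hb hbo v hv hvβ).1 e)

theorem card_N2_le (hp : C.CP p) (h3 : C.bb = 3) (hd : C.Dim) {β o w w' : V} (hA : C.A o)
    (hoβ : C.Adj o β) (how : C.Adj o w) (how' : C.Adj o w') (hwβ : w ≠ β) (hw'β : w' ≠ β)
    (hww : w ≠ w') : Nat.card ↥(C.CC β ⊓ C.CC w ⊓ C.CC w') ≤ 4 := by
  set N := C.CC β ⊓ C.CC w ⊓ C.CC w' with hN
  have hNE : N ≤ Ed o w' := fun x hx => C.Q_le_Ed how' (C.CC_le_nbr (C.symm hoβ) hx.1.1)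
  haveI := C.finite_le (hNE.trans inf_le_left)
  have hoQ : ∀ {n : X}, n ∈ N → n ∈ C.Q o := fun hn => C.CC_le_nbr (C.symm hoβ) hn.1.1
  obtain ⟨z, hz, hz1⟩ := (Subgroup.bot_or_exists_ne_one _).resolve_left (C.cB_ne_bot how hA)
  obtain ⟨y, hy, hy1⟩ := (Subgroup.bot_or_exists_ne_one _).resolve_left (C.cB_ne_bot hoβ hA)
  have prod : ∀ {H : Subgroup X} {z x x' : X}, z ∈ C.Z o → x' ∈ N → x * z ∈ H → x' * z ∈ H →
      x * x' ∈ H := fun {H z x x'} hz hx' h1 h2 => by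
    have e : x * z * (x' * z) = x * x' := by
      rw [C.Z_comm_Q hA (hoQ hx') hz, ← mul_assoc, mul_assoc x, C.Z_sq hA hz, mul_one]
    exact e ▸ mul_mem h1 h2
  have c1 := card_le_two_mul (H := C.S6 β) (K := N) fun x hx x' hx' h h' =>
    prod (C.cB_le_Z how hz) hx'
      ((C.N2_step hp h3 hd hA hoβ how how' hwβ hw'β hww hz hz1 hx.1.1 hx.1.2 hx.2).resolve_left h)
      ((C.N2_step hp h3 hd hA hoβ how how' hwβ hw'β hww hz hz1 hx'.1.1 hx'.1.2 hx'.2).resolve_left h')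
  haveI : Finite ↥(N ⊓ C.S6 β) := C.finite_le ((inf_le_left.trans hNE).trans inf_le_left)
  have c2 := card_le_two_mul (H := C.S6 w) (K := N ⊓ C.S6 β) fun x hx x' hx' h h' =>
    prod (C.cB_le_Z hoβ hy) hx'.1
      ((C.N2_step hp h3 hd hA how hoβ how' hwβ.symm hww.symm hw'β.symm hy hy1 hx.1.1.2 hx.1.1.1
        hx.1.2).resolve_left h)
      ((C.N2_step hp h3 hd hA how hoβ how' hwβ.symm hww.symm hw'β.symm hy hy1 hx'.1.1.2 hx'.1.1.1
        hx'.1.2).resolve_left h')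
  have hJ : N ⊓ C.S6 β ⊓ C.S6 w = ⊥ := by
    by_contra hne
    have hJE : N ⊓ C.S6 β ⊓ C.S6 w ≤ Ed o w' := (inf_le_left.trans inf_le_left).trans hNE
    obtain ⟨j, hj, hj1, hj2, hjc⟩ := C.exists_central how' hJE hne fun e he x hx => by
      have ew : ∀ v, C.Adj o v → v ≠ w' → e • v = β ∨ e • v = w := fun v hv hvw => by
        rcases C.three hoβ how how' (C.smul_nbr he.1 hv) hwβ hw'β hww with h | h | h
        · exact Or.inl h
        · exact Or.inr h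
        · exact absurd (MulAction.injective e (h.trans he.2.symm)) hvw
      have c0 := C.smul_CC (g := e) hx.1.1.1.1
      have c1 := C.smul_CC (g := e) hx.1.1.1.2
      have s0 := C.smul_S6 (g := e) hx.1.2
      have s1 := C.smul_S6 (g := e) hx.2
      have c2 : e * x * e⁻¹ ∈ C.CC w' := C.conj_CC he.2 hx.1.1.2
      rcases ew β hoβ hw'β.symm with h | h <;> rcases ew w how hww with h' | h'
      · exact absurd (MulAction.injective e (h.trans h'.symm)) hwβ.symm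
      · rw [h] at c0 s0; rw [h'] at c1 s1
        exact ⟨⟨⟨⟨c0, c1⟩, c2⟩, s0⟩, s1⟩
      · rw [h] at c0 s0; rw [h'] at c1 s1
        exact ⟨⟨⟨⟨c1, c0⟩, c2⟩, s1⟩, s0⟩
      · exact absurd (MulAction.injective e (h.trans h'.symm)) hwβ.symm
    have hjZ : j ∈ C.Z o := by
      rw [C.Z_eq_K2 hA]
      exact ⟨hoQ hj.1.1, hj2, fun q hq => hjc q (C.Q_le_Ed how' hq)⟩
    have hjw : j ∈ C.cB w' := C.mem_cB_of_central how' hA (hJE hj) hj2 hjc
    obtain ⟨a, -, ha, -, hao, -, -⟩ := C.exists_others (C.symm hoβ)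
    obtain ⟨μ, -, hμ, -, hμβ, -, -⟩ := C.exists_others (C.symm ha)
    exact C.gen_notQ hp h3 hA hoβ how' hw'β ha hao hμ hμβ hjw hj1 ((C.mem_S6.1 hj.1.2).2 a ha μ hμ)
  rw [hJ, Subgroup.card_bot] at c2
  omega

theorem Bal_mul {β a : V} (ha : C.Adj β a) {u z : X} (hu : u ∈ C.CC β) (hz : z ∈ C.CC β)
    (h : (∀ μ, C.Adj a μ → μ ≠ β → z ∈ C.Q μ) ∨ ∀ μ, C.Adj a μ → μ ≠ β → z ∉ C.Q μ) :
    C.Bal β a (u * z) ↔ C.Bal β a u := by
  unfold Bal
  refine forall₂_congr fun μ μ' => forall_congr' fun h1 => forall_congr' fun h2 =>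
    forall_congr' fun h3 => forall_congr' fun h4 => ?_
  rcases h with h | h
  · rw [mul_mem_cancel_right (h μ h1 h2), mul_mem_cancel_right (h μ' h3 h4)]
  · rw [C.flip_Q (C.symm h1) (C.side_Ed ha h1 hu) (C.side_Ed ha h1 hz) (h μ h1 h2),
      C.flip_Q (C.symm h3) (C.side_Ed ha h3 hu) (C.side_Ed ha h3 hz) (h μ' h3 h4)]
    exact not_iff_not

theorem Bal_trans (hp : C.CP p) (h3 : C.bb = 3) (hd : C.Dim) {β a a' a'' : V} (hA : C.A a)
    (ha : C.Adj β a) (ha' : C.Adj β a') (ha'' : C.Adj β a'') (h1 : a' ≠ a) (h2 : a'' ≠ a)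
    (h12 : a' ≠ a'') {u : X} (hu : u ∈ C.CC β) (hb : C.Bal β a' u) : C.Bal β a'' u := by
  obtain ⟨μ₀, -, hμ₀, -, hμ₀β, -, -⟩ := C.exists_others (C.symm ha)
  obtain ⟨ν₀, -, hν₀, -, hν₀a, -, -⟩ := C.exists_others (C.symm hμ₀)
  obtain ⟨x, hx, hxc⟩ := C.exists_Z_not_cB (C.symm hν₀) ((C.A_iff_of_two hμ₀ hν₀).1 hA)
  obtain ⟨hνA, xβ, xQ, xnQ⟩ := C.t_facts hp h3 hA (C.symm ha) hμ₀ hμ₀β hν₀ hν₀a hx
  obtain ⟨m1, m2, m3, -⟩ := C.moves ha ha' h1 ⟨xβ, xQ.1⟩ (xnQ hxc)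
  have hxa : x • a' = a'' := by
    rcases C.three ha ha' ha'' m3 h1 h2 h12 with e | e | e
    · exact absurd e m2
    · exact absurd e m1
    · exact e
  have hA' : C.A a' := (C.A_iff_of_two (C.symm ha) ha').1 hA
  obtain ⟨w, -, hw, -, hwβ, -, -⟩ := C.exists_others (C.symm ha')
  obtain ⟨z, hz, hz1⟩ := (Subgroup.bot_or_exists_ne_one _).resolve_left (C.cB_ne_bot hw hA')
  have hzC : z ∈ C.CC β := C.Zo_le_CC h3 hA' (C.symm ha') (C.cB_le_Z hw hz)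
  have hz' : ∀ b, C.Adj β b → b ≠ a' → ∀ μ, C.Adj b μ → μ ≠ β → z ∉ C.Q μ :=
    fun b hb hne μ hμ hμβ => C.gen_notQ hp h3 hA' (C.symm ha') hw hwβ hb hne hμ hμβ hz hz1
  suffices key : ∀ u ∈ C.CC β, u ∈ C.Q μ₀ → C.Bal β a' u → C.Bal β a'' u by
    by_cases h : u ∈ C.Q μ₀
    · exact key u hu h hb
    · have i1 := C.Bal_mul ha' hu hzC
        (Or.inl fun μ hμ _ => C.le_Q_one (by omega) hμ hA' (C.cB_le_Z hw hz))
      have i2 := C.Bal_mul ha'' hu hzC (Or.inr (hz' a'' ha'' h12.symm))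
      exact i2.1 (key _ (mul_mem hu hzC)
        ((C.flip_Q (C.symm hμ₀) (C.side_Ed ha hμ₀ hu) (C.side_Ed ha hμ₀ hzC)
          (hz' a ha h1.symm μ₀ hμ₀ hμ₀β)).2 h) (i1.2 hb))
  intro u hu hu₀ hb μ μ' hμ hμβ hμ' hμβ'
  set y := x * u * x⁻¹ * u⁻¹ with hy
  have hyc : y ∈ C.cB μ₀ := by
    have hxA := (C.A_iff_of_two hμ₀ hν₀).1 hA
    have e1 := C.mul_conj_mem (C.symm hν₀) hxA hx (g := u) ⟨hu₀.2 ν₀ hν₀, hu₀.1⟩
    have e : y = x * (u * x * u⁻¹) := by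
      rw [hy, C.Z_inv hxA hx]; group
    rw [e]; exact e1
  have hyC : y ∈ C.CC β := C.Zo_le_CC h3 hA (C.symm ha) (C.cB_le_Z hμ₀ hyc)
  have hxu : x * u * x⁻¹ = y * u := by rw [hy]; group
  have back : ∀ v, C.Adj a'' v → v ≠ β →
      C.Adj a' (x⁻¹ • v) ∧ x⁻¹ • v ≠ β ∧ (u ∈ C.Q (x⁻¹ • v) ↔ y * u ∈ C.Q v) := by
    intro v hv hvβ
    refine ⟨?_, fun e => hvβ (by rw [inv_smul_eq_iff.1 e, xβ]), ?_⟩
    · have := C.smul_adj x⁻¹ hv
      rwa [inv_smul_eq_iff.2 hxa.symm] at this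
    · rw [← hxu, ← C.smul_Q_iff (g := x), smul_inv_smul]
  obtain ⟨b1, b2, b3⟩ := back μ hμ hμβ
  obtain ⟨b1', b2', b3'⟩ := back μ' hμ' hμβ'
  have hbb : y * u ∈ C.Q μ ↔ y * u ∈ C.Q μ' := by rw [← b3, ← b3']; exact hb _ _ b1 b2 b1' b2'
  by_cases hy1 : y = 1
  · simpa [hy1] using hbb
  have hnot : ∀ v, C.Adj a'' v → v ≠ β → (y * u ∈ C.Q v ↔ u ∉ C.Q v) := by
    intro v hv hvβ
    rw [show y * u = u * y from (C.Z_comm_Q hA (C.CC_le_nbr ha hu) (C.cB_le_Z hμ₀ hyc)).symm]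
    exact C.flip_Q (C.symm hv) (C.side_Ed ha'' hv hu) (C.side_Ed ha'' hv hyC)
      (C.gen_notQ hp h3 hA (C.symm ha) hμ₀ hμ₀β ha'' h2 hv hvβ hyc hy1)
  rw [hnot μ hμ hμβ, hnot μ' hμ' hμβ'] at hbb
  exact not_iff_not.1 hbb

theorem v_mem_cB (hp : C.CP p) (h3 : C.bb = 3) (hd : C.Dim) {β o w w' ν' : V} (hA : C.A o)
    (hoβ : C.Adj o β) (how : C.Adj o w) (how' : C.Adj o w') (hwβ : w ≠ β) (hw'β : w' ≠ β)
    (hww : w ≠ w') (hν' : C.Adj w' ν') (hνo' : ν' ≠ o) {k t' : X} (hk : k ∈ C.CC β)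
    (hkw : k ∈ C.CC w) (ht' : t' ∈ C.Z ν') (htc' : t' ∉ C.cB w') :
    k * t' * k⁻¹ * t'⁻¹ ∈ C.cB w := by
  have hb : 3 ≤ C.bb := h3.ge
  have ho : Odd C.bb := h3 ▸ ⟨1, rfl⟩
  have hv := C.comm_mem_Z hp h3 hd hA hoβ how' hw'β hν' hνo' hk ht'
  set v := k * t' * k⁻¹ * t'⁻¹ with hvd
  rcases C.Z_three hp h3 hA hoβ how how' hwβ hw'β hww hv with h | h | h
  rotate_left
  · exact h
  all_goals by_cases hv1 : v = 1
  all_goals first | exact hv1 ▸ one_mem _ | skip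
  all_goals exfalso
  all_goals
    obtain ⟨a, a', ha, ha', hao, hao', haa⟩ := C.exists_others (C.symm hoβ)
  all_goals
    obtain ⟨ν, -, hν, -, hνo, -, -⟩ := C.exists_others (C.symm how)
  all_goals
    obtain ⟨t, ht, htc⟩ := C.exists_Z_not_cB (C.symm hν) ((C.A_iff_of_two how hν).1 hA)
  all_goals
    obtain ⟨qa, qβ, qQ⟩ := C.q_facts hp h3 hd hA hoβ how how' hwβ hw'β hww ha hao hν hνo hν' hνo'
      ht htc ht' htc'
  all_goals
    have hνA : C.A ν := (C.A_iff_of_two how hν).1 hA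
    have hνA' : C.A ν' := (C.A_iff_of_two how' hν').1 hA
    have hvi : v⁻¹ = v := C.Z_inv hA hv
    have htv : t * v = v * t :=
      C.Z_comm_Q hA (C.le_Q_two hb (C.symm hν) (C.symm how) hνA ht) hv
    have htk : t * k = k * t := (C.Z_comm_Q hνA (C.CC_le_nbr hν hkw) ht).symm
    have hqk : (t * t') * k * (t * t')⁻¹ = v * k := by
      have h1 : t' * k * t'⁻¹ = v * k := by
        rw [← hvi, hvd]; group
      calc t * t' * k * (t * t')⁻¹ = t * (t' * k * t'⁻¹) * t⁻¹ := by group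
        _ = (t * v) * k * t⁻¹ := by rw [h1]; group
        _ = v * (t * k) * t⁻¹ := by rw [htv]; group
        _ = v * k := by rw [htk]; group
    have hbal : C.Bal β o k ↔ C.Bal β a k :=
      ⟨C.Bal_trans hp h3 hd ((C.A_iff_of_two hoβ ha').1 hA) ha' (C.symm hoβ) ha hao'.symm haa hao.symm hk,
        C.Bal_trans hp h3 hd ((C.A_iff_of_two hoβ ha').1 hA) ha' ha (C.symm hoβ) haa hao'.symm hao hk⟩
    have hvC : v ∈ C.CC β := C.Zo_le_CC h3 hA hoβ hv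
    obtain ⟨μ, -, hμ, -, hμβ, -, -⟩ := C.exists_others (C.symm ha)
    obtain ⟨n1, n2, n3, -⟩ := C.moves (C.symm ha) hμ hμβ ⟨qa, qβ⟩ qQ
    have hsw : k ∈ C.Q μ ↔ v * k ∈ C.Q ((t * t') • μ) := by rw [← hqk, C.smul_Q_iff]
    have hcomm : v * k = k * v := (C.Z_comm_Q hA (C.CC_le_nbr (C.symm hoβ) hk) hv).symm
    have hko : ∀ x, C.Adj o x → x ≠ β → x = w ∨ x = w' := fun x hx hxβ =>
      (C.three hoβ how how' hx hwβ hw'β hww).resolve_left hxβ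
  swap
  · -- the commutator is central at `β`
    have hknot : k ∉ C.Q w' := fun e => hv1 (C.cB_inf hoβ how' hw'β.symm h (by
      have e1 := C.mul_conj_mem (C.symm hν') hνA' ht' (g := k) ⟨e.2 ν' hν', e.1⟩
      have e2 : v = t' * (k * t' * k⁻¹) := by
        have := C.Z_comm hνA' ht' (C.conj_Z hνA' (e.2 ν' hν') ht')
        rw [this, hvd, C.Z_inv hνA' ht']
      rw [e2]; exact e1))
    have hbo : ¬ C.Bal β o k := fun hh => hknot ((hh w w' how hwβ how' hw'β).1 (C.CC_le_Q _ hkw))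
    refine hbo (hbal.2 fun x x' hx hxβ hx' hxβ' => ?_)
    have hvQ : ∀ x, C.Adj a x → v ∈ C.Q x := fun x hx =>
      C.le_Q_one (by omega) hx ((C.A_iff_of_two hoβ ha).1 hA) (C.cB_le_Z (C.symm ha) h)
    have hkey : ∀ x, C.Adj a x → x ≠ β → (k ∈ C.Q x ↔ k ∈ C.Q μ) := by
      intro x hx hxβ
      by_cases e : x = μ
      · rw [e]
      rcases C.three (C.symm ha) hμ hx n3 hμβ hxβ (Ne.symm e) with e' | e' | e'
      · exact absurd e' n2
      · exact absurd e' n1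
      · rw [hsw, mul_mem_cancel_left (hvQ _ n3), e']
    rw [hkey x hx hxβ, hkey x' hx' hxβ']
  · -- the commutator is central at `w'`
    have hkw' : k ∈ C.Q w' := by
      by_contra e
      obtain ⟨k1, k2, k3, -⟩ := C.moves (C.symm how') hν' hνo'
        ⟨(C.CC_le_nbr (C.symm hoβ) hk).2 w' how', (C.CC_le_nbr (C.symm hoβ) hk).1⟩ e
      have h1 : k * t' * k⁻¹ ∈ C.Z ν' := by
        have h' := mul_mem (C.cB_le_Z (C.symm hν') h) ht'
        rwa [hvd, inv_mul_cancel_right] at h'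
      have h2 := C.Z_inter hp hb ho (C.symm hν') hνA' k3 k1 h1 (C.smul_Z hνA' ht')
      refine htc' ?_
      have h4 := mul_mem (inv_mem h) h2
      rwa [hvd, mul_inv_rev, inv_inv, inv_mul_cancel_right] at h4
    have hbo : C.Bal β o k := fun x x' hx hxβ hx' hxβ' => by
      rcases hko x hx hxβ with rfl | rfl <;> rcases hko x' hx' hxβ' with rfl | rfl <;>
        simp [hkw', C.CC_le_Q _ hkw]
    have hb' := hbal.1 hbo μ _ hμ hμβ n3 n2
    have hfl := C.flip_Q (C.symm n3) (C.side_Ed ha n3 hk) (C.side_Ed ha n3 hvC)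
      (C.gen_notQ hp h3 hA hoβ how' hw'β ha hao n3 n2 h hv1)
    rw [hcomm, hfl] at hsw
    tauto

theorem K13_le (hp : C.CP p) (h3 : C.bb = 3) (hd : C.Dim) {β o w w' : V} (hA : C.A o)
    (hoβ : C.Adj o β) (how : C.Adj o w) (how' : C.Adj o w') (hwβ : w ≠ β) (hw'β : w' ≠ β)
    (hww : w ≠ w') : C.CC β ⊓ C.CC w ≤ C.CC w' := by
  intro k hk
  have hb : 3 ≤ C.bb := h3.ge
  have ho : Odd C.bb := h3 ▸ ⟨1, rfl⟩
  have hB : ¬ C.A w' := C.not_A how' hA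
  obtain ⟨g, hg, hgQ⟩ := C.exists_Ed_not_Q how'
  obtain ⟨m1, m2, m3, m4⟩ := C.moves how' hoβ hw'β.symm hg hgQ
  have gβ : g • β = w := by
    rcases C.three hoβ how how' m3 hwβ hw'β hww with e | e | e
    · exact absurd e m1
    · exact e
    · exact absurd e m2
  have gw : g • w = β := by rwa [gβ] at m4
  have key : ∀ ν', C.Adj w' ν' → ν' ≠ o → ∀ t' ∈ C.Z ν', t' ∉ C.cB w' → k * t' = t' * k := by
    intro ν' hν' hνo' t' ht' htc'
    have h1 := C.v_mem_cB hp h3 hd hA hoβ how how' hwβ hw'β hww hν' hνo' hk.1 hk.2 ht' htc'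
    have h2 := C.v_mem_cB hp h3 hd hA hoβ how how' hwβ hw'β hww (ν' := g • ν')
      (k := g * k * g⁻¹) (t' := g * t' * g⁻¹)
      (by have := C.smul_adj g hν'; rwa [hg.2] at this)
      (fun e => hνo' (MulAction.injective g (e.trans hg.1.symm)))
      (gw ▸ C.smul_CC hk.2) (gβ ▸ C.smul_CC hk.1)
      (C.smul_Z ((C.A_iff_of_two how' hν').1 hA) ht')
      (fun e => htc' (by
        have := C.smul_cB (g := g⁻¹) e
        rw [inv_smul_eq_iff.2 hg.2.symm] at this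
        simpa [mul_assoc] using this))
    have h3' := C.smul_cB (g := g) h1
    rw [gw] at h3'
    rw [show g * k * g⁻¹ * (g * t' * g⁻¹) * (g * k * g⁻¹)⁻¹ * (g * t' * g⁻¹)⁻¹ =
      g * (k * t' * k⁻¹ * t'⁻¹) * g⁻¹ by group] at h2
    have h4 := C.cB_inf how hoβ hwβ h2 h3'
    have h5 : k * t' * k⁻¹ * t'⁻¹ = 1 := conj_eq_one_iff.1 h4
    calc k * t' = k * t' * k⁻¹ * t'⁻¹ * (t' * k) := by group
      _ = t' * k := by rw [h5, one_mul]
  have hko : k ∈ C.Q o := C.CC_le_nbr (C.symm hoβ) hk.1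
  have hkw' : k ∈ C.Q w' := by
    by_contra e
    obtain ⟨ν', -, hν', -, hνo', -, -⟩ := C.exists_others (C.symm how')
    have hνA' : C.A ν' := (C.A_iff_of_two how' hν').1 hA
    obtain ⟨t', ht', htc'⟩ := C.exists_Z_not_cB (C.symm hν') hνA'
    obtain ⟨k1, k2, k3, -⟩ := C.moves (C.symm how') hν' hνo' ⟨hko.2 w' how', hko.1⟩ e
    refine htc' (C.Z_inter hp hb ho (C.symm hν') hνA' k3 k1 ht' ?_)
    have := C.smul_Z hνA' (g := k) ht'
    rwa [key ν' hν' hνo' t' ht' htc', mul_inv_cancel_right] at this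
  refine C.mem_CC.2 ⟨hkw', fun x hx => ?_⟩
  by_cases hxo : x = o
  · exact hxo ▸ hko
  refine C.mem_Q_of_commute (C.A_of_not (C.symm hx) hB) (hkw'.2 x hx) fun t' ht' => ?_
  by_cases htc' : t' ∈ C.cB w'
  · exact C.cB_comm htc' hkw'.1
  · exact key x hx hxo t' ht' htc'

theorem card_le_of_three (hp : C.CP p) (h3 : C.bb = 3) :
    Nat.card ↥(Ed (p 0) (p 1) : Subgroup X) ≤ 2 ^ 7 := by
  by_cases hd : C.Dim
  swap
  · exact (C.three_impossible_not_Dim hp h3 hd).elim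
  have hb : 3 ≤ C.bb := h3.ge
  have ho : Odd C.bb := h3 ▸ ⟨1, rfl⟩
  have hαβ : C.Adj (p 0) (p 1) := C.CP_adj hp (by omega)
  have hβo : C.Adj (p 1) (p 2) := C.CP_adj hp (by omega)
  have hA : C.A (p 2) := (C.CP_A hp (by omega)).2 even_two
  have hαo : p 0 ≠ p 2 := fun e => C.CP_nb hp 0 (by omega) e.symm
  rw [C.card_Ed hαβ, C.card_Q_eq hαβ]
  have hαA := hp.2.1
  generalize p 0 = α, p 1 = β, p 2 = o at *
  have hoβ := C.symm hβo
  have hβB := C.not_A hαβ hαA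
  obtain ⟨w, w', how, how', hwβ, hw'β, hww⟩ := C.exists_others hoβ
  -- the common kernel
  haveI := C.finite_Q β
  haveI : Finite ↥(C.Q β ⊓ C.Q α) := C.finite_le (inf_le_left.trans (C.Q_le_St β))
  have c1 := card_le_two_mul (H := C.Q α) (K := C.Q β) fun x hx y hy => C.two_coset' hαβ hx hy
  have c2 := card_le_two_mul (H := C.Q o) (K := C.Q β ⊓ C.Q α) fun x hx y hy =>
    C.two_coset' hoβ hx.1 hy.1
  have hle : C.Q β ⊓ C.Q α ⊓ C.Q o ≤ C.CC β := by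
    rintro x ⟨⟨hxβ, hxα⟩, hxo⟩
    refine C.mem_CC.2 ⟨hxβ, fun g hg => ?_⟩
    by_cases e1 : g = α
    · exact e1 ▸ hxα
    by_cases e2 : g = o
    · exact e2 ▸ hxo
    have hgA := C.A_of_not (C.symm hg) hβB
    refine C.mem_Q_of_commute hgA (hxβ.2 g hg) fun z hz => ?_
    by_cases hzc : z ∈ C.cB β
    · exact C.cB_comm hzc hxβ.1
    obtain ⟨y, hy, hy'⟩ := C.exists_Z_not_cB hαβ hαA
    obtain ⟨b, hb2, hb'⟩ := C.exists_Z_not_cB hoβ hA
    have hr : C.IsR β (y * b * z) := ⟨α, o, g, y, b, z, C.symm hαβ, hβo, hg, hαo.symm, e1,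
      Ne.symm e2, hy, hy', hb2, hb', hz, hzc, rfl⟩
    have hd' := C.Dim_mem hp hb ho hd hβB hr
    generalize hc : y * b * z = c at hd'
    have hzd : z = (y * b)⁻¹ * c := by rw [← hc]; group
    rw [hzd]
    exact (Commute.mul_right
      (Commute.inv_right (Commute.mul_right (C.Z_comm_Q hαA hxα hy) (C.Z_comm_Q hA hxo hb2)))
      (C.cB_comm hd' hxβ.1)).eq
  haveI := C.finite_CC β
  have c3 : Nat.card ↥(C.Q β ⊓ C.Q α ⊓ C.Q o) ≤ Nat.card ↥(C.CC β) :=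
    Nat.card_le_card_of_injective _ (Subgroup.inclusion_injective hle)
  -- commutation with an element of order two
  obtain ⟨ν, -, hν, -, hνo, -, -⟩ := C.exists_others (C.symm how)
  have hνA : C.A ν := (C.A_iff_of_two how hν).1 hA
  obtain ⟨t, ht, htc⟩ := C.exists_Z_not_cB (C.symm hν) hνA
  set K := C.CC β ⊓ C.CC w with hK
  haveI : Finite ↥K := C.finite_le ((inf_le_left.trans (C.CC_le_Q β)).trans (C.Q_le_St β))
  have hK4 : Nat.card ↥K ≤ 4 := by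
    haveI : Finite ↥(C.CC β ⊓ C.CC w ⊓ C.CC w') :=
      C.finite_le ((inf_le_left.trans inf_le_left).trans ((C.CC_le_Q β).trans (C.Q_le_St β)))
    have hle' : K ≤ C.CC β ⊓ C.CC w ⊓ C.CC w' :=
      le_inf le_rfl (C.K13_le hp h3 hd hA hoβ how how' hwβ hw'β hww)
    exact (Nat.card_le_card_of_injective _ (Subgroup.inclusion_injective hle')).trans
      (C.card_N2_le hp h3 hd hA hoβ how how' hwβ hw'β hww)
  haveI := C.finite_Z hA
  classical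
  let v : ↥(C.CC β) → ↥(C.Z o) := fun u =>
    ⟨_, C.comm_mem_Z hp h3 hd hA hoβ how hwβ hν hνo u.2 ht⟩
  let rep : ↥(C.Z o) → ↥(C.CC β) := fun x => if h : ∃ u, v u = x then h.choose else 1
  have hrep : ∀ u, v (rep (v u)) = v u := fun u => by
    have h : ∃ u', v u' = v u := ⟨u, rfl⟩
    simp only [rep, dif_pos h]
    exact h.choose_spec
  have hfib : ∀ u u' : ↥(C.CC β), v u = v u' → (u : X)⁻¹ * u' ∈ K := by
    intro u u' e
    have e' : (u : X) * t * (u : X)⁻¹ * t⁻¹ = (u' : X) * t * (u' : X)⁻¹ * t⁻¹ :=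
      congrArg Subtype.val e
    set d := (u : X)⁻¹ * u' with hd'
    have hdt : d * t = t * d := by
      calc d * t = (u : X)⁻¹ * ((u' : X) * t * (u' : X)⁻¹ * t⁻¹) * t * u' := by rw [hd']; group
        _ = t * d := by rw [← e', hd']; group
    have hdC : d ∈ C.CC β := mul_mem (inv_mem u.2) u'.2
    have hdo : d ∈ C.Q o := C.CC_le_nbr hβo hdC
    have hwB : ¬ C.A w := C.not_A how hA
    have hdW : ∀ x ∈ C.W w, d * x = x * d := fun x hx => by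
      rcases C.W_split hp h3 hd hA how hν hνo ht htc hx with h | h
      · exact C.Z_comm_Q hA hdo h
      · have h1 := C.Z_comm_Q hA hdo h
        calc d * x = d * (x * t) * t⁻¹ := by group
          _ = x * (t * d) * t⁻¹ := by rw [h1]; group
          _ = x * d := by rw [← hdt]; group
    have hdw : d ∈ C.Q w := by
      by_contra e
      obtain ⟨k1, k2, k3, -⟩ := C.moves (C.symm how) hν hνo ⟨hdo.2 w how, hdo.1⟩ e
      refine htc (C.Z_inter hp hb ho (C.symm hν) hνA k3 k1 ht ?_)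
      have := C.smul_Z hνA (g := d) ht
      rwa [hdt, mul_inv_cancel_right] at this
    exact ⟨hdC, C.mem_CC.2 ⟨hdw, fun x hx =>
      C.mem_Q_of_commute (C.A_of_not (C.symm hx) hwB) (hdw.2 x hx)
        fun z hz => hdW z (C.Z_le_W hx hz)⟩⟩
  have c4 : Nat.card ↥(C.CC β) ≤ Nat.card (↥(C.Z o) × ↥K) := by
    refine Nat.card_le_card_of_injective
      (fun u => (v u, ⟨_, hfib (rep (v u)) u (hrep u)⟩)) fun u u' e => ?_
    obtain ⟨e1, e2⟩ := Prod.ext_iff.1 e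
    have e2' : ((rep (v u) : ↥(C.CC β)) : X)⁻¹ * u = ((rep (v u') : ↥(C.CC β)) : X)⁻¹ * u' :=
      congrArg Subtype.val e2
    rw [show v u = v u' from e1] at e2'
    exact Subtype.ext (mul_left_cancel e2')
  rw [Nat.card_prod, C.card_Z hoβ hA, C.card_cB_odd hp hb ho hoβ hA] at c4
  omega

end Ctx

end CfsgLib.Goldschmidt
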