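import Cfsg.Agent.Lib.Amalgam.Goldschmidt.Two
import Cfsg.Agent.Lib.Amalgam.Goldschmidt.Three

/-!
Edge stabilisers have order at most `2 ^ 7`.
-/

set_option autoImplicit false
set_option linter.unusedSectionVars false
set_option linter.unusedVariables false
set_option linter.style.haveILetI false

namespace CfsgLib.Goldschmidt

variable {X : Type*} [Group X] {V : Type*} [MulAction X V]

namespace Ctx

variable (C : Ctx X V)

include C

theorem card_Ed_le {a b : V} (h : C.Adj a b) :
    Nat.card ↥(Ed a b : Subgroup X) ≤ 2 ^ 7 := by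
  wlog ha : C.A a generalizing a b
  · rw [Ed_comm]
    exact this (C.symm h) (C.A_of_not (C.symm h) ha)
  obtain ⟨p, hp⟩ := C.exists_CP a
  have h1 := C.one_le_bb hp
  have h01 : C.Adj (p 0) (p 1) := C.CP_adj hp (by omega)
  obtain ⟨g, ga, gb⟩ := C.edge h h01 (iff_of_true ha hp.2.1)
  haveI := C.finite_Ed (p 0) (p 1)
  have hle : Nat.card ↥(Ed a b : Subgroup X) ≤ Nat.card ↥(Ed (p 0) (p 1) : Subgroup X) :=
    Nat.card_le_card_of_injective
      (fun x => ⟨g * x * g⁻¹, by rw [← ga, ← gb]; exact C.smul_Ed x.2⟩)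
      fun x y e => Subtype.ext
        (mul_left_cancel (mul_right_cancel (congrArg Subtype.val e : g * (x : X) * g⁻¹ = g * y * g⁻¹)))
  refine hle.trans ?_
  rcases Nat.even_or_odd C.bb with he | ho
  · exact C.card_le_of_two (C.bb_eq_two hp he) hp
  · by_cases hb : C.bb = 1
    · exact C.card_le_of_one hb hp
    · have h3 : 3 ≤ C.bb := by obtain ⟨m, hm⟩ := ho; omega
      exact C.card_le_of_three hp (C.bb_eq_three hp h3 ho)

end Ctx

end CfsgLib.Goldschmidt
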