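import Cfsg.Agent.Lib.Amalgam.Goldschmidt.Basic

/-!
The central involutions of edge stabilisers and the module they generate at the vertices in `A`.
-/

set_option autoImplicit false
set_option linter.unusedSectionVars false
set_option linter.unusedVariables false
set_option linter.style.haveILetI false

namespace CfsgLib.Goldschmidt

variable {X : Type*} [Group X] {V : Type*} [MulAction X V]

local notation "St" => MulAction.stabilizer X

theorem conj_sq {g x : X} (h : x * x = 1) : g * x * g⁻¹ * (g * x * g⁻¹) = 1 := by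
  rw [show g * x * g⁻¹ * (g * x * g⁻¹) = g * (x * x) * g⁻¹ by group, h]; group

namespace Ctx

variable (C : Ctx X V)

include C

/-- The central involutions at a vertex outside `A`. -/
def cB (b : V) : Subgroup X where
  carrier := {x | x ∈ C.Q b ∧ x * x = 1 ∧ ∀ g, g • b = b → g * x = x * g}
  one_mem' := ⟨one_mem _, by simp, fun g _ => by simp⟩
  mul_mem' := by
    rintro x y ⟨hx, hx2, hxc⟩ ⟨hy, hy2, hyc⟩
    refine ⟨mul_mem hx hy, ?_, fun g hg => by rw [← mul_assoc, hxc g hg, mul_assoc, hyc g hg, mul_assoc]⟩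
    rw [mul_assoc, ← mul_assoc y, hxc y hy.1, mul_assoc x y y, hy2, mul_one, hx2]
  inv_mem' := by
    rintro x ⟨hx, hx2, hxc⟩
    rw [inv_eq_of_mul_eq_one_right hx2]; exact ⟨hx, hx2, hxc⟩

theorem mem_cB {b : V} {x : X} :
    x ∈ C.cB b ↔ x ∈ C.Q b ∧ x * x = 1 ∧ ∀ g, g • b = b → g * x = x * g := Iff.rfl

theorem cB_le_Q (b : V) : C.cB b ≤ C.Q b := fun _ h => h.1

theorem cB_comm {b : V} {x g : X} (hx : x ∈ C.cB b) (hg : g • b = b) : g * x = x * g := hx.2.2 g hg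

theorem mem_cB_of_central {a b : V} (h : C.Adj a b) (ha : C.A a) {x : X}
    (hx : x ∈ (Ed a b : Subgroup X)) (h2 : x * x = 1)
    (hc : ∀ e ∈ (Ed a b : Subgroup X), e * x = x * e) : x ∈ C.cB b :=
  have hp := C.passive h ha x hx.1 hx.2 h2 fun e he he' => hc e ⟨he, he'⟩
  ⟨C.charp b x hx.2 fun q hq => (hp q hq.1).symm, h2, hp⟩

theorem cB_le_Q_A {a b : V} (h : C.Adj a b) (ha : C.A a) : C.cB b ≤ C.Q a := fun x hx =>
  C.charp a x (hx.1.2 a (C.symm h)) fun q hq => ((C.cB_comm hx (hq.2 b h))).symm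

theorem smul_cB {b : V} {g x : X} (hx : x ∈ C.cB b) : g * x * g⁻¹ ∈ C.cB (g • b) := by
  refine ⟨C.smul_Q hx.1, conj_sq hx.2.1, fun h hh => ?_⟩
  have h1 : (g⁻¹ * h * g) • b = b := by rw [mul_smul, mul_smul, hh, inv_smul_smul]
  have := hx.2.2 _ h1
  calc h * (g * x * g⁻¹) = g * ((g⁻¹ * h * g) * x) * g⁻¹ := by group
    _ = g * x * g⁻¹ * h := by rw [this]; group

theorem cB_ne_bot {a b : V} (h : C.Adj a b) (ha : C.A a) : C.cB b ≠ ⊥ := by
  obtain ⟨g, hg, hgQ⟩ := C.exists_Ed_not_Q h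
  have hne : (Ed a b : Subgroup X) ≠ ⊥ := fun e => hgQ (by
    rw [e, Subgroup.mem_bot] at hg; rw [hg]; exact one_mem _)
  obtain ⟨z, hz, hz1, hz2, hzc⟩ := C.exists_central h le_rfl hne fun e he x hx =>
    mul_mem (mul_mem he hx) (inv_mem he)
  exact fun e => hz1 (by rw [← Subgroup.mem_bot, ← e]; exact C.mem_cB_of_central h ha hz hz2 hzc)

theorem cB_inf {a b b' : V} (h : C.Adj a b) (h' : C.Adj a b') (hne : b ≠ b') {x : X}
    (hx : x ∈ C.cB b) (hx' : x ∈ C.cB b') : x = 1 := by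
  have hxE : x ∈ (Ed a b : Subgroup X) := ⟨hx.1.2 a (C.symm h), hx.1.1⟩
  have h1 : St b ≤ Subgroup.centralizer {x} := fun g hg =>
    Subgroup.mem_centralizer_singleton_iff.2 (C.cB_comm hx hg)
  have h2 : St a ≤ Subgroup.centralizer {x} :=
    C.St_le_of_two h h' hne (fun g hg => h1 hg.2) fun g hg =>
      Subgroup.mem_centralizer_singleton_iff.2 (C.cB_comm hx' hg.2)
  have hn : Subgroup.centralizer {x} ≤ Subgroup.normalizer (Subgroup.zpowers x : Set X) := by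
    intro g hg
    rw [Subgroup.mem_centralizer_singleton_iff] at hg
    rw [Subgroup.mem_normalizer_iff]
    intro y
    constructor
    · intro hy
      obtain ⟨n, rfl⟩ := hy
      exact ⟨n, by show x ^ n = _; rw [(Commute.zpow_right hg n).eq, mul_inv_cancel_right]⟩
    · intro hy
      obtain ⟨n, hn⟩ := hy
      refine ⟨n, ?_⟩
      show x ^ n = y
      have e : x ^ n * g = g * y := by
        rw [show x ^ n = g * y * g⁻¹ from hn, inv_mul_cancel_right]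
      rw [← (Commute.zpow_right hg n).eq] at e
      exact mul_left_cancel e
  have := C.faithful h (Subgroup.zpowers x) (by simpa using hxE) (h2.trans hn) (h1.trans hn)
  exact Subgroup.zpowers_eq_bot.1 this

theorem card_cB_eq {a b a' b' : V} (h : C.Adj a b) (h' : C.Adj a' b') (ha : C.A a) (ha' : C.A a') :
    Nat.card ↥(C.cB b) = Nat.card ↥(C.cB b') := by
  obtain ⟨g, -, rfl⟩ := C.edge h h' (iff_of_true ha ha')
  exact Nat.card_congr
    ⟨fun x => ⟨g * x * g⁻¹, C.smul_cB x.2⟩,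
      fun x => ⟨g⁻¹ * x * g, by simpa using C.smul_cB (g := g⁻¹) x.2⟩,
      fun x => Subtype.ext (by simp [mul_assoc]), fun x => Subtype.ext (by simp [mul_assoc])⟩

/-- The central involutions of a kernel. -/
def K2 (a : V) : Subgroup X where
  carrier := {x | x ∈ C.Q a ∧ x * x = 1 ∧ ∀ q ∈ C.Q a, q * x = x * q}
  one_mem' := ⟨one_mem _, by simp, fun g _ => by simp⟩
  mul_mem' := by
    rintro x y ⟨hx, hx2, hxc⟩ ⟨hy, hy2, hyc⟩
    refine ⟨mul_mem hx hy, ?_, fun g hg => by rw [← mul_assoc, hxc g hg, mul_assoc, hyc g hg, mul_assoc]⟩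
    rw [mul_assoc, ← mul_assoc y, hxc y hy, mul_assoc x y y, hy2, mul_one, hx2]
  inv_mem' := by
    rintro x ⟨hx, hx2, hxc⟩
    rw [inv_eq_of_mul_eq_one_right hx2]; exact ⟨hx, hx2, hxc⟩

theorem cB_le_K2 {a b : V} (h : C.Adj a b) (ha : C.A a) : C.cB b ≤ C.K2 a := fun x hx =>
  ⟨C.cB_le_Q_A h ha hx, hx.2.1, fun q hq => C.cB_comm hx (hq.2 b h)⟩

theorem conj_K2 {a : V} {g x : X} (hg : g • a = a) (hx : x ∈ C.K2 a) : g * x * g⁻¹ ∈ C.K2 a := by
  refine ⟨C.conj_Q hg hx.1, conj_sq hx.2.1, fun q hq => ?_⟩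
  have h' : g⁻¹ * q * g ∈ C.Q a := by
    simpa using C.conj_Q (g := g⁻¹) (inv_smul_eq_iff.2 hg.symm) hq
  calc q * (g * x * g⁻¹) = g * ((g⁻¹ * q * g) * x) * g⁻¹ := by group
    _ = g * x * g⁻¹ * q := by rw [hx.2.2 _ h']; group

theorem K2_mul_conj {a b : V} (h : C.Adj a b) (ha : C.A a) {x t : X} (hx : x ∈ C.K2 a)
    (ht : t ∈ (Ed a b : Subgroup X)) (htQ : t ∉ C.Q a) : x * (t * x * t⁻¹) ∈ C.cB b := by
  have hy : t * x * t⁻¹ ∈ C.K2 a := C.conj_K2 ht.1 hx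
  have hc : x * (t * x * t⁻¹) = t * x * t⁻¹ * x := hy.2.2 x hx.1
  refine C.mem_cB_of_central h ha (C.Q_le_Ed h (mul_mem hx.1 hy.1)) (mul_mem hx hy).2.1 fun e he => ?_
  by_cases heQ : e ∈ C.Q a
  · exact (mul_mem hx hy).2.2 e heQ
  · have hq : t⁻¹ * e ∈ C.Q a := C.two_coset h (inv_mem ht) he (fun k => htQ (by simpa using inv_mem k)) heQ
    have ht2 : t * t ∈ C.Q a := C.two_coset h ht ht htQ htQ
    have e1 : t * (x * (t * x * t⁻¹)) * t⁻¹ = x * (t * x * t⁻¹) := by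
      have : t * t * x * (t * t)⁻¹ = x := by
        rw [hx.2.2 _ ht2, mul_inv_cancel_right]
      calc t * (x * (t * x * t⁻¹)) * t⁻¹ = (t * x * t⁻¹) * (t * t * x * (t * t)⁻¹) := by group
        _ = x * (t * x * t⁻¹) := by rw [this, hc]
    have e2 := (mul_mem hx hy).2.2 _ hq
    calc e * (x * (t * x * t⁻¹)) = t * ((t⁻¹ * e) * (x * (t * x * t⁻¹))) := by group
      _ = (t * (x * (t * x * t⁻¹)) * t⁻¹) * e := by rw [e2]; group
      _ = x * (t * x * t⁻¹) * e := by rw [e1]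

theorem mem_cB_of_commute' {a b : V} (h : C.Adj a b) (ha : C.A a) {x t : X} (hx : x ∈ C.K2 a)
    (ht : t ∈ (Ed a b : Subgroup X)) (htQ : t ∉ C.Q a) (hc : t * x = x * t) : x ∈ C.cB b := by
  refine C.mem_cB_of_central h ha (C.Q_le_Ed h hx.1) hx.2.1 fun e he => ?_
  by_cases heQ : e ∈ C.Q a
  · exact hx.2.2 e heQ
  · have hq : t⁻¹ * e ∈ C.Q a := C.two_coset h (inv_mem ht) he (fun k => htQ (by simpa using inv_mem k)) heQ
    calc e * x = t * ((t⁻¹ * e) * x) := by group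
      _ = (t * x) * (t⁻¹ * e) := by rw [hx.2.2 _ hq]; group
      _ = x * e := by rw [hc]; group

/-- The module at a vertex in `A`. -/
def Z (a : V) : Subgroup X := ⨆ w, ⨆ (_ : C.Adj a w), C.cB w

theorem cB_le_Z {a b : V} (h : C.Adj a b) : C.cB b ≤ C.Z a :=
  le_trans (le_iSup (fun _ : C.Adj a b => C.cB b) h) (le_iSup (fun w => ⨆ _ : C.Adj a w, C.cB w) b)

theorem K2_eq_sup {a b b' : V} (h : C.Adj a b) (h' : C.Adj a b') (hne : b ≠ b') (ha : C.A a) :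
    C.K2 a = C.cB b ⊔ C.cB b' ∧ Nat.card ↥(C.K2 a) = Nat.card ↥(C.cB b) ^ 2 := by
  obtain ⟨t, ht, htQ⟩ := C.exists_Ed_not_Q h
  obtain ⟨t', ht', htQ'⟩ := C.exists_Ed_not_Q h'
  haveI := C.finite_Q a
  haveI : Finite ↥(C.K2 a) := C.finite_le fun x hx => hx.1.1
  haveI : Finite ↥(C.cB b) := C.finite_le fun x hx => (hx : x ∈ C.cB b).1.1
  haveI : Finite ↥(C.cB b') := C.finite_le fun x hx => (hx : x ∈ C.cB b').1.1
  have hcc : Nat.card ↥(C.cB b') = Nat.card ↥(C.cB b) := C.card_cB_eq h' h ha ha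
  have hle : C.cB b ⊔ C.cB b' ≤ C.K2 a := sup_le (C.cB_le_K2 h ha) (C.cB_le_K2 h' ha)
  have hup : Nat.card ↥(C.K2 a) ≤ Nat.card (↥(C.cB b) × ↥(C.cB b')) := by
    refine Nat.card_le_card_of_injective
      (fun x => (⟨_, C.K2_mul_conj h ha x.2 ht htQ⟩, ⟨_, C.K2_mul_conj h' ha x.2 ht' htQ'⟩)) ?_
    intro x y e
    obtain ⟨e1, e2⟩ := Prod.ext_iff.1 e
    have key : ∀ s : X, s • a = a → (x : X) * (s * x * s⁻¹) = y * (s * y * s⁻¹) →
        s * ((x : X) * (y : X)⁻¹) = (x : X) * (y : X)⁻¹ * s := by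
      intro s hs he
      have hy' : (y : X)⁻¹ = y := inv_eq_of_mul_eq_one_right y.2.2.1
      have hc : ((s * x * s⁻¹ : X)) * y = y * (s * x * s⁻¹) :=
        ((C.conj_K2 hs x.2).2.2 _ y.2.1).symm
      rw [hy']
      have h1 : (y : X) * x = s * y * s⁻¹ * (s * x * s⁻¹) := by
        have := congrArg (fun z : X => (y : X) * z * (s * x * s⁻¹)) he
        calc (y : X) * x = (y : X) * (x * (s * x * s⁻¹)) * (s * x * s⁻¹) := by
              rw [mul_assoc, mul_assoc (x : X), (C.conj_K2 hs x.2).2.1, mul_one]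
          _ = (y : X) * (y * (s * y * s⁻¹)) * (s * x * s⁻¹) := this
          _ = _ := by rw [← mul_assoc (y : X), y.2.2.1, one_mul]
      have hxy : (x : X) * y = y * x := (x.2.2.2 _ y.2.1).symm
      calc s * ((x : X) * y) = (s * y * s⁻¹ * (s * x * s⁻¹)) * s := by rw [hxy]; group
        _ = (x : X) * y * s := by rw [← h1, ← hxy]
    have hz : (x : X) * (y : X)⁻¹ ∈ C.K2 a := mul_mem x.2 (inv_mem y.2)
    exact Subtype.ext (mul_inv_eq_one.1 (C.cB_inf h h' hne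
      (C.mem_cB_of_commute' h ha hz ht htQ (key t ht.1 (congrArg Subtype.val e1)))
      (C.mem_cB_of_commute' h' ha hz ht' htQ' (key t' ht'.1 (congrArg Subtype.val e2)))))
  haveI : Finite ↥(C.cB b ⊔ C.cB b') := Finite.of_injective _ (Subgroup.inclusion_injective hle)
  have hlow : Nat.card (↥(C.cB b) × ↥(C.cB b')) ≤ Nat.card ↥(C.cB b ⊔ C.cB b') := by
    refine Nat.card_le_card_of_injective
      (fun p => ⟨p.1 * p.2, mul_mem (le_sup_left (b := C.cB b') p.1.2) (le_sup_right (a := C.cB b) p.2.2)⟩) ?_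
    rintro ⟨u, v⟩ ⟨u', v'⟩ e
    have e' : (u : X) * v = u' * v' := congrArg Subtype.val e
    have e'' : (u' : X)⁻¹ * u = v' * (v : X)⁻¹ :=
      calc (u' : X)⁻¹ * u = (u' : X)⁻¹ * ((u : X) * v) * (v : X)⁻¹ := by group
        _ = _ := by rw [e']; group
    have h1 : (u' : X)⁻¹ * u = 1 := C.cB_inf h h' hne (mul_mem (inv_mem u'.2) u.2)
      (e'' ▸ mul_mem v'.2 (inv_mem v.2))
    have hu : (u' : X) = u := inv_mul_eq_one.1 h1
    refine Prod.ext (Subtype.ext hu.symm) (Subtype.ext ?_)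
    rw [hu] at e'; exact mul_left_cancel e'
  rw [Nat.card_prod, hcc] at hup hlow
  have hmono : Nat.card ↥(C.cB b ⊔ C.cB b') ≤ Nat.card ↥(C.K2 a) :=
    Nat.card_le_card_of_injective _ (Subgroup.inclusion_injective hle)
  refine ⟨(eq_of_le_card hle (le_trans hup hlow)).symm, ?_⟩
  rw [pow_two]; omega

theorem Z_eq_K2 {a : V} (ha : C.A a) : C.Z a = C.K2 a := by
  obtain ⟨b, hb⟩ := C.exists_nbr a
  obtain ⟨u, w, hu, hw, hub, -, -⟩ := C.exists_others hb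
  refine le_antisymm (iSup₂_le fun w hw => C.cB_le_K2 hw ha) ?_
  rw [(C.K2_eq_sup hb hu hub.symm ha).1]
  exact sup_le (C.cB_le_Z hb) (C.cB_le_Z hu)

theorem Z_eq_sup {a b b' : V} (h : C.Adj a b) (h' : C.Adj a b') (hne : b ≠ b') (ha : C.A a) :
    C.Z a = C.cB b ⊔ C.cB b' := by rw [C.Z_eq_K2 ha, (C.K2_eq_sup h h' hne ha).1]

theorem card_Z {a b : V} (h : C.Adj a b) (ha : C.A a) :
    Nat.card ↥(C.Z a) = Nat.card ↥(C.cB b) ^ 2 := by
  obtain ⟨u, w, hu, hw, hub, -, -⟩ := C.exists_others h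
  rw [C.Z_eq_K2 ha, (C.K2_eq_sup h hu hub.symm ha).2]

theorem Z_le_Q {a : V} (ha : C.A a) : C.Z a ≤ C.Q a := fun x hx => by
  rw [C.Z_eq_K2 ha] at hx; exact hx.1

theorem Z_le_St {a : V} (ha : C.A a) : C.Z a ≤ St a := (C.Z_le_Q ha).trans (C.Q_le_St a)

theorem finite_Z {a : V} (ha : C.A a) : Finite ↥(C.Z a) := C.finite_le (C.Z_le_St ha)

theorem finite_cB (b : V) : Finite ↥(C.cB b) := C.finite_le fun x hx => (hx : x ∈ C.cB b).1.1

theorem Z_sq {a : V} (ha : C.A a) {x : X} (hx : x ∈ C.Z a) : x * x = 1 := by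
  rw [C.Z_eq_K2 ha] at hx; exact hx.2.1

theorem Z_inv {a : V} (ha : C.A a) {x : X} (hx : x ∈ C.Z a) : x⁻¹ = x :=
  inv_eq_of_mul_eq_one_right (C.Z_sq ha hx)

theorem Z_comm_Q {a : V} (ha : C.A a) {q x : X} (hq : q ∈ C.Q a) (hx : x ∈ C.Z a) :
    q * x = x * q := by
  rw [C.Z_eq_K2 ha] at hx; exact hx.2.2 q hq

theorem Z_comm {a : V} (ha : C.A a) {x y : X} (hx : x ∈ C.Z a) (hy : y ∈ C.Z a) :
    x * y = y * x := C.Z_comm_Q ha (C.Z_le_Q ha hx) hy

theorem conj_Z {a : V} (ha : C.A a) {g x : X} (hg : g • a = a) (hx : x ∈ C.Z a) :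
    g * x * g⁻¹ ∈ C.Z a := by
  rw [C.Z_eq_K2 ha] at hx ⊢; exact C.conj_K2 hg hx

theorem smul_Z {a : V} (ha : C.A a) {g x : X} (hx : x ∈ C.Z a) :
    g * x * g⁻¹ ∈ C.Z (g • a) := by
  rw [C.Z_eq_K2 ha] at hx
  rw [C.Z_eq_K2 ((C.smul_A g a).2 ha)]
  refine ⟨C.smul_Q hx.1, conj_sq hx.2.1, fun q hq => ?_⟩
  have h' : g⁻¹ * q * g ∈ C.Q a := by simpa using C.smul_Q (g := g⁻¹) hq
  calc q * (g * x * g⁻¹) = g * ((g⁻¹ * q * g) * x) * g⁻¹ := by group
    _ = g * x * g⁻¹ * q := by rw [hx.2.2 _ h']; group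

theorem mul_conj_mem {a b : V} (h : C.Adj a b) (ha : C.A a) {x g : X} (hx : x ∈ C.Z a)
    (hg : g ∈ (Ed a b : Subgroup X)) : x * (g * x * g⁻¹) ∈ C.cB b := by
  by_cases hgQ : g ∈ C.Q a
  · rw [C.Z_comm_Q ha hgQ hx, mul_inv_cancel_right, C.Z_sq ha hx]; exact one_mem _
  · rw [C.Z_eq_K2 ha] at hx; exact C.K2_mul_conj h ha hx hg hgQ

theorem mem_cB_of_commute {a b : V} (h : C.Adj a b) (ha : C.A a) {x t : X} (hx : x ∈ C.Z a)
    (ht : t ∈ (Ed a b : Subgroup X)) (htQ : t ∉ C.Q a) (hc : t * x = x * t) : x ∈ C.cB b := by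
  rw [C.Z_eq_K2 ha] at hx; exact C.mem_cB_of_commute' h ha hx ht htQ hc

theorem mem_Q_of_commute {a : V} (ha : C.A a) {g : X} (hg : g • a = a)
    (hc : ∀ x ∈ C.Z a, g * x = x * g) : g ∈ C.Q a := by
  refine ⟨hg, fun w hw => by_contra fun hne => ?_⟩
  obtain ⟨z, hz, hz1⟩ := (Subgroup.bot_or_exists_ne_one _).resolve_left (C.cB_ne_bot hw ha)
  have h1 := C.smul_cB (g := g) hz
  rw [hc z (C.cB_le_Z hw hz), mul_inv_cancel_right] at h1
  exact hz1 (C.cB_inf hw (C.smul_nbr hg hw) (Ne.symm hne) hz h1)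

end Ctx

end CfsgLib.Goldschmidt
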