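import Cfsg.Agent.Lib.Amalgam.Goldschmidt.One

/-!
Facts shared by the critical lengths at least two.
-/

set_option autoImplicit false
set_option linter.unusedSectionVars false
set_option linter.unusedVariables false
set_option linter.style.haveILetI false

namespace CfsgLib.Goldschmidt

variable {X : Type*} [Group X] {V : Type*} [MulAction X V]

local notation "St" => MulAction.stabilizer X

theorem eq_of_card_two {H : Subgroup X} (h : Nat.card H = 2) {x y : X} (hx : x ∈ H) (hy : y ∈ H)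
    (hx1 : x ≠ 1) (hy1 : y ≠ 1) : x = y := by
  have key := ((Nat.card_eq_two_iff' (1 : ↥H)).1 h).unique (y₁ := ⟨x, hx⟩) (y₂ := ⟨y, hy⟩)
    (fun e => hx1 (congrArg Subtype.val e)) (fun e => hy1 (congrArg Subtype.val e))
  exact congrArg Subtype.val key

theorem eq_of_common {H K : Subgroup X} (hH : Nat.card H = 2) (hK : Nat.card K = 2) {x : X}
    (h1 : x ∈ H) (h2 : x ∈ K) (hx : x ≠ 1) : H = K := by
  ext y
  constructor <;> intro hy <;> by_cases hy1 : y = 1
  · exact hy1 ▸ one_mem _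
  · exact eq_of_card_two hH h1 hy hx hy1 ▸ h2
  · exact hy1 ▸ one_mem _
  · exact eq_of_card_two hK h2 hy hx hy1 ▸ h1

/-- The commutator of two involutions, seen from the first one. -/
theorem conj_eq_of_comm {x t c : X} (h : x * (t * x * t⁻¹) = c) (hx : x * x = 1) :
    t * x * t⁻¹ = x * c := by rw [← h, ← mul_assoc x x, hx, one_mul]

namespace Ctx

variable (C : Ctx X V)

include C

/-- The common part of the kernels around a vertex. -/
def CC (b : V) : Subgroup X := C.Q b ⊓ ⨅ w, ⨅ (_ : C.Adj b w), C.Q w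

theorem mem_CC {b : V} {x : X} : x ∈ C.CC b ↔ x ∈ C.Q b ∧ ∀ w, C.Adj b w → x ∈ C.Q w := by
  simp only [CC, Subgroup.mem_inf, Subgroup.mem_iInf]

theorem CC_le_Q (b : V) : C.CC b ≤ C.Q b := fun _ h => (C.mem_CC.1 h).1

theorem CC_le_nbr {b w : V} (h : C.Adj b w) : C.CC b ≤ C.Q w := fun _ hx => (C.mem_CC.1 hx).2 w h

theorem smul_CC {b : V} {g x : X} (hx : x ∈ C.CC b) : g * x * g⁻¹ ∈ C.CC (g • b) := by
  rw [mem_CC] at hx ⊢
  refine ⟨C.smul_Q hx.1, fun w hw => ?_⟩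
  have h' := C.smul_adj g⁻¹ hw
  rw [inv_smul_smul] at h'
  simpa using C.smul_Q (g := g) (hx.2 _ h')

theorem conj_CC {b : V} {g x : X} (hg : g • b = b) (hx : x ∈ C.CC b) : g * x * g⁻¹ ∈ C.CC b := by
  simpa [hg] using C.smul_CC (g := g) hx

theorem finite_CC (b : V) : Finite ↥(C.CC b) := C.finite_le ((C.CC_le_Q b).trans (C.Q_le_St b))

theorem card_Q_le {b a u w : V} (ha : C.Adj b a) (hu : C.Adj b u) (hw : C.Adj b w) (hua : u ≠ a)
    (hwa : w ≠ a) (huw : u ≠ w) : Nat.card ↥(C.Q b) ≤ 8 * Nat.card ↥(C.CC b) := by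
  haveI := C.finite_Q b
  haveI : Finite ↥(C.Q b ⊓ C.Q a) := C.finite_le (inf_le_left.trans (C.Q_le_St b))
  haveI : Finite ↥(C.Q b ⊓ C.Q a ⊓ C.Q u) :=
    C.finite_le (inf_le_left.trans (inf_le_left.trans (C.Q_le_St b)))
  have c1 := card_le_two_mul (H := C.Q a) (K := C.Q b) fun x hx y hy =>
    C.two_coset' (C.symm ha) hx hy
  have c2 := card_le_two_mul (H := C.Q u) (K := C.Q b ⊓ C.Q a) fun x hx y hy =>
    C.two_coset' (C.symm hu) hx.1 hy.1
  have c3 := card_le_two_mul (H := C.Q w) (K := C.Q b ⊓ C.Q a ⊓ C.Q u) fun x hx y hy =>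
    C.two_coset' (C.symm hw) hx.1.1 hy.1.1
  haveI := C.finite_CC b
  have hle : C.Q b ⊓ C.Q a ⊓ C.Q u ⊓ C.Q w ≤ C.CC b := fun x hx => C.mem_CC.2
      ⟨hx.1.1.1, fun v hv => by
        rcases C.three ha hu hw hv hua hwa huw with rfl | rfl | rfl
        · exact hx.1.1.2
        · exact hx.1.2
        · exact hx.2⟩
  have c4 : Nat.card ↥(C.Q b ⊓ C.Q a ⊓ C.Q u ⊓ C.Q w) ≤ Nat.card ↥(C.CC b) :=
    Nat.card_le_card_of_injective _ (Subgroup.inclusion_injective hle)
  omega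

theorem exists_Z_not_cB {a b : V} (h : C.Adj a b) (ha : C.A a) : ∃ x ∈ C.Z a, x ∉ C.cB b := by
  obtain ⟨u, w, hu, -, hub, -, -⟩ := C.exists_others h
  obtain ⟨z, hz, hz1⟩ := (Subgroup.bot_or_exists_ne_one _).resolve_left (C.cB_ne_bot hu ha)
  exact ⟨z, C.cB_le_Z hu hz, fun e => hz1 (C.cB_inf hu h hub hz e)⟩

theorem two_le_card_cB {a b : V} (h : C.Adj a b) (ha : C.A a) : 2 ≤ Nat.card ↥(C.cB b) := by
  haveI := C.finite_cB b
  obtain ⟨z, hz, hz1⟩ := (Subgroup.bot_or_exists_ne_one _).resolve_left (C.cB_ne_bot h ha)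
  haveI : Nontrivial ↥(C.cB b) := ⟨⟨⟨z, hz⟩, 1, fun e => hz1 (congrArg Subtype.val e)⟩⟩
  exact Finite.one_lt_card

theorem card_cB_two_le {a b : V} (h : C.Adj a b) (ha : C.A a) {H : Subgroup X} (hH : H ≤ C.cB b)
    (hc : Nat.card ↥(C.Z a) ≤ 2 * Nat.card H) : Nat.card ↥(C.cB b) = 2 := by
  haveI := C.finite_cB b
  have h1 : Nat.card H ≤ Nat.card ↥(C.cB b) :=
    Nat.card_le_card_of_injective _ (Subgroup.inclusion_injective hH)
  have h2 := C.two_le_card_cB h ha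
  rw [C.card_Z h ha] at hc
  nlinarith

/-- If the central involutions are of order two, `Z` is the union of two cosets. -/
theorem Z_mul {a b : V} (h : C.Adj a b) (ha : C.A a) (k : Nat.card ↥(C.cB b) = 2) {x y : X}
    (hx : x ∈ C.Z a) (hy : y ∈ C.Z a) (hxb : x ∉ C.cB b) (hyb : y ∉ C.cB b) : x * y ∈ C.cB b := by
  have hle : C.cB b ≤ C.Z a := C.cB_le_Z h
  have hcard := C.card_Z h ha
  haveI := C.finite_Z ha
  have hmul := Subgroup.card_mul_index ((C.cB b).subgroupOf (C.Z a))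
  rw [Nat.card_congr (Subgroup.subgroupOfEquivOfLe hle).toEquiv, hcard, k] at hmul
  have h2 : ((C.cB b).subgroupOf (C.Z a)).index = 2 := by omega
  have := (Subgroup.mul_mem_iff_of_index_two h2 (a := ⟨x, hx⟩) (b := ⟨y, hy⟩)).2
    (by simp [Subgroup.mem_subgroupOf, hxb, hyb])
  simpa [Subgroup.mem_subgroupOf] using this

theorem hasMover_one {a b : V} (h : C.Adj a b) : C.HasMover 1 (C.A b) := by
  obtain ⟨g, hg, hgQ⟩ := C.exists_Ed_not_Q (C.symm h)
  refine ⟨fun i => if i = 0 then a else b, fun i hi => ?_, fun i hi => absurd hi (by omega),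
    by simp, g, fun i hi => ?_, by simpa using hgQ⟩
  · obtain rfl : i = 0 := (by omega)
    simpa using h
  · rcases (by omega : i = 0 ∨ i = 1) with rfl | rfl
    · simpa using hg.2
    · simpa using hg.1

theorem tr_le_two (v : V) : ∀ n, n ≤ 2 → C.Tr n := by
  obtain ⟨w, hw⟩ := C.exists_nbr v
  refine C.tr_of_movers (N := 1) (C.movers_both (P := C.A w) (C.hasMover_one hw) ?_)
  obtain ⟨p, a, b, c, d⟩ := C.hasMover_one (C.symm hw)
  exact ⟨p, a, b, c.trans (C.side hw), d⟩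

theorem not_le_of_smul {a b : V} (g : X) (ha : C.A a) (h : ¬ C.Z a ≤ C.Q b) :
    ¬ C.Z (g • a) ≤ C.Q (g • b) := fun e => h fun x hx =>
  C.smul_Q_iff.1 (e (C.smul_Z ha hx))

theorem CP_smul {p : ℕ → V} (hp : C.CP p) (g : X) : C.CP (fun i => g • p i) :=
  ⟨C.isW_smul g hp.1, (C.smul_A g _).2 hp.2.1, C.not_le_of_smul g hp.2.1 hp.2.2⟩

/-- A walk of critical length with prescribed image is critical. -/
theorem CP_of_map {p q : ℕ → V} (hp : C.CP p) (g : X) (h : ∀ i, i ≤ C.bb → g • p i = q i) :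
    C.CP q := by
  refine ⟨fun i hi => ?_, ?_, ?_⟩
  · rw [← h i (by omega), ← h (i + 1) (by omega)]
    exact C.smul_adj g (hp.1 i hi)
  · rw [← h 0 (Nat.zero_le _)]; exact (C.smul_A g _).2 hp.2.1
  · rw [← h 0 (Nat.zero_le _), ← h _ le_rfl]; exact C.not_le_of_smul g hp.2.1 hp.2.2

/-- The far end of a critical walk of even length. -/
theorem CP_far {p : ℕ → V} (hp : C.CP p) (he : Even C.bb) :
    ∃ t ∈ C.Z (p C.bb), t ∉ C.Q (p 0) := by
  obtain ⟨s, hs, hsQ⟩ := SetLike.not_le_iff_exists.1 hp.2.2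
  refine SetLike.not_le_iff_exists.1 fun hle => hsQ (C.mem_Q_of_commute ((C.CP_A hp le_rfl).2 he)
    (C.CP_le_St hp (Nat.zero_le _) le_rfl Even.zero hs) fun x hx => ?_)
  exact (C.Z_comm_Q hp.2.1 (hle hx) hs).symm

end Ctx

end CfsgLib.Goldschmidt
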