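import Cfsg.Agent.Lib.Amalgam.Goldschmidt.Graph
import Cfsg.Agent.Lib.Conjugacy.TransferForms
import Cfsg.Agent.S2858

/-!
The degenerate cases of the bound, and the bound itself.
-/

set_option autoImplicit false
set_option linter.style.haveILetI false
set_option linter.unusedSectionVars false

namespace CfsgLib.Goldschmidt

variable {G : Type*} [Group G]

theorem Local.sq_mem {H P K : Subgroup G} (L : Local H P K) [Finite H] {p : G} (hp : p ∈ P) :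
    p * p ∈ K := by
  by_cases h : p ∈ K
  · exact K.mul_mem h h
  · exact L.two_coset hp hp h h

theorem Local.closure_eq {H P K : Subgroup G} (L : Local H P K) [Finite H] {d : G} (hd : d ∈ H)
    (hdP : d ∉ P) {S : Subgroup G} (hP : P ≤ S) (hdS : d ∈ S) : H ≤ S := by
  obtain ⟨e, he, he1, he2, hcov⟩ := L.cover
  have heS : e ∈ S := by
    rcases hcov d hd with h | h | h
    · exact absurd h hdP
    · have := S.mul_mem hdS (S.inv_mem (hP h))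
      simpa [mul_assoc] using this
    · have h' : e * e ∈ S := by
        have := S.mul_mem hdS (S.inv_mem (hP h))
        simpa [mul_assoc] using this
      rcases hcov (e * e * e) (mul_mem (mul_mem he he) he) with k | k | k
      · have := S.mul_mem (S.inv_mem h') (hP k)
        simpa [mul_assoc] using this
      · rw [show e⁻¹ * (e * e * e) = e * e by group] at k
        exact absurd k he2
      · rw [show (e * e)⁻¹ * (e * e * e) = e by group] at k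
        exact absurd k he1
  intro h hh
  rcases hcov h hh with k | k | k
  · exact hP k
  · simpa using S.mul_mem heS (hP k)
  · have := S.mul_mem (S.mul_mem heS heS) (hP k)
    rwa [mul_inv_cancel_left] at this

/-- A centraliser of a core outside it bounds the intersection. -/
theorem card_le_of_centralizer (M₁ M₂ : Subgroup G) [Finite M₁] [Finite M₂] {P K₁ K₂ : Subgroup G}
    (L₁ : Local M₁ P K₁) (L₂ : Local M₂ P K₂)
    (hC : ¬ ∀ g ∈ M₁, (∀ x ∈ K₁, g * x = x * g) → g ∈ K₁)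
    (hc : ∀ N : Subgroup G, N ≤ P → (∀ g ∈ M₁, ∀ x ∈ N, g * x * g⁻¹ ∈ N) →
      (∀ g ∈ M₂, ∀ x ∈ N, g * x * g⁻¹ ∈ N) → N = ⊥) : Nat.card ↥P ≤ 16 := by
  haveI : Finite P := Finite.of_injective _ (Subgroup.inclusion_injective L₁.P_le)
  -- an element of the centraliser outside `P`
  obtain ⟨d, hd, hdP, hdc⟩ : ∃ d ∈ M₁, d ∉ P ∧ ∀ x ∈ K₁, d * x = x * d := by
    by_contra hno
    push Not at hno
    apply hC
    intro g hg hgc
    refine L₁.core g fun h hh => ?_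
    by_contra hP'
    obtain ⟨x, hx, hne⟩ := hno _ (mul_mem (mul_mem (inv_mem hh) hg) hh) hP'
    apply hne
    have := hgc _ (L₁.normal h hh x hx)
    calc h⁻¹ * g * h * x = h⁻¹ * (g * (h * x * h⁻¹)) * h := by group
      _ = x * (h⁻¹ * g * h) := by rw [this]; group
  obtain ⟨e, he, -, -, hcov⟩ := L₂.cover
  set W := K₁ ⊓ K₂ with hW
  set E := W ⊓ W.map (MulAut.conj e).toMonoidHom ⊓ W.map (MulAut.conj (e * e)).toMonoidHom with hE
  have hPW : ∀ p ∈ P, ∀ x ∈ W, p * x * p⁻¹ ∈ W := fun p hp x hx =>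
    ⟨L₁.normal p (L₁.P_le hp) x hx.1, L₂.normal p (L₂.P_le hp) x hx.2⟩
  have memc : ∀ (c : G) (x : G), x ∈ W.map (MulAut.conj c).toMonoidHom ↔ c⁻¹ * x * c ∈ W := by
    intro c x
    constructor
    · rintro ⟨y, hy, rfl⟩
      simpa [mul_assoc] using hy
    · exact fun h => ⟨_, h, by simp [mul_assoc]⟩
  have hall : ∀ x ∈ E, ∀ h ∈ M₂, h⁻¹ * x * h ∈ W := by
    intro x hx h hh
    have key : ∀ c : G, c⁻¹ * x * c ∈ W → c⁻¹ * h ∈ P → h⁻¹ * x * h ∈ W := by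
      intro c hc' hp
      have := hPW _ (inv_mem hp) _ hc'
      simpa [mul_assoc] using this
    rcases hcov h hh with k | k | k
    · exact key 1 (by simpa using hx.1.1) (by simpa using k)
    · exact key e ((memc e x).1 hx.1.2) k
    · exact key (e * e) ((memc _ x).1 hx.2) k
  have hmem : ∀ x, (∀ h ∈ M₂, h⁻¹ * x * h ∈ W) → x ∈ E := fun x hx =>
    ⟨⟨by simpa using hx 1 M₂.one_mem, (memc e x).2 (hx e he)⟩, (memc _ x).2 (hx _ (mul_mem he he))⟩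
  have hn2 : ∀ g ∈ M₂, ∀ x ∈ E, g * x * g⁻¹ ∈ E := fun g hg x hx => hmem _ fun h hh => by
    have := hall x hx _ (mul_mem (inv_mem hg) hh)
    simpa [mul_assoc] using this
  have hEK : E ≤ K₁ := fun x hx => hx.1.1.1
  haveI hEfin : Finite E :=
    Finite.of_injective _ (Subgroup.inclusion_injective ((hEK.trans L₁.le_P).trans L₁.P_le))
  have hn1 : ∀ g ∈ M₁, ∀ x ∈ E, g * x * g⁻¹ ∈ E := by
    have hle := L₁.closure_eq hd hdP (S := Subgroup.normalizer (E : Set G))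
      (fun p hp => mem_normalizer_finite fun x hx => hn2 p (L₂.P_le hp) x hx)
      (mem_normalizer_finite fun x hx => by rw [hdc x (hEK hx), mul_inv_cancel_right]; exact hx)
    exact fun g hg x hx => (Subgroup.mem_normalizer_iff.1 (hle hg) x).1 hx
  have hbot := hc E (hEK.trans L₁.le_P) hn1 hn2
  -- index at most two in each conjugate
  haveI : Finite K₂ := Finite.of_injective _ (Subgroup.inclusion_injective (L₂.le_P.trans L₂.P_le))
  have two : ∀ c ∈ M₂, ∀ x ∈ K₂, ∀ y ∈ K₂, x ∉ W.map (MulAut.conj c).toMonoidHom →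
      y ∉ W.map (MulAut.conj c).toMonoidHom → x * y ∈ W.map (MulAut.conj c).toMonoidHom := by
    intro c hc' x hx y hy hx' hy'
    rw [memc] at hx' hy' ⊢
    have hxc : c⁻¹ * x * c ∈ K₂ := by simpa using L₂.normal c⁻¹ (inv_mem hc') x hx
    have hyc : c⁻¹ * y * c ∈ K₂ := by simpa using L₂.normal c⁻¹ (inv_mem hc') y hy
    rw [show c⁻¹ * (x * y) * c = c⁻¹ * x * c * (c⁻¹ * y * c) by group]
    exact ⟨L₁.two_coset (L₂.le_P hxc) (L₂.le_P hyc) (fun h => hx' ⟨h, hxc⟩) (fun h => hy' ⟨h, hyc⟩),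
      mul_mem hxc hyc⟩
  haveI : Finite ↥(K₂ ⊓ W) := Finite.of_injective _ (Subgroup.inclusion_injective (inf_le_left : K₂ ⊓ W ≤ K₂))
  haveI : Finite ↥(K₂ ⊓ W ⊓ W.map (MulAut.conj e).toMonoidHom) :=
    Finite.of_injective _ (Subgroup.inclusion_injective
      (inf_le_left.trans inf_le_left : K₂ ⊓ W ⊓ W.map (MulAut.conj e).toMonoidHom ≤ K₂))
  have h1 := card_le_two_mul (H := W) (K := K₂) fun x hx y hy hx' hy' => by
    have := two 1 M₂.one_mem x hx y hy (fun h => hx' (by simpa using (memc 1 x).1 h))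
      (fun h => hy' (by simpa using (memc 1 y).1 h))
    simpa using (memc 1 _).1 this
  have h2 := card_le_two_mul (H := W.map (MulAut.conj e).toMonoidHom) (K := K₂ ⊓ W)
    fun x hx y hy => two e he x hx.1 y hy.1
  have h3 := card_le_two_mul (H := W.map (MulAut.conj (e * e)).toMonoidHom)
    (K := K₂ ⊓ W ⊓ W.map (MulAut.conj e).toMonoidHom)
    fun x hx y hy => two _ (mul_mem he he) x hx.1.1 y hy.1.1
  have hle : K₂ ⊓ W ⊓ W.map (MulAut.conj e).toMonoidHom ⊓ W.map (MulAut.conj (e * e)).toMonoidHom ≤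
      E := fun x hx => ⟨⟨hx.1.1.2, hx.1.2⟩, hx.2⟩
  have h4 := Nat.card_le_card_of_injective _ (Subgroup.inclusion_injective hle)
  rw [hbot, Subgroup.card_bot] at h4
  rw [L₂.card_P]
  omega

/-- Both passive is impossible. -/
theorem false_of_both_passive (M₁ M₂ : Subgroup G) [Finite M₁] [Finite M₂] {P K₁ : Subgroup G}
    (L₁ : Local M₁ P K₁)
    (h₁ : ∀ x ∈ P, x * x = 1 → (∀ e ∈ P, e * x = x * e) → ∀ g ∈ M₁, g * x = x * g)
    (h₂ : ∀ x ∈ P, x * x = 1 → (∀ e ∈ P, e * x = x * e) → ∀ g ∈ M₂, g * x = x * g)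
    (hc : ∀ N : Subgroup G, N ≤ P → (∀ g ∈ M₁, ∀ x ∈ N, g * x * g⁻¹ ∈ N) →
      (∀ g ∈ M₂, ∀ x ∈ N, g * x * g⁻¹ ∈ N) → N = ⊥) : False := by
  haveI : Finite P := Finite.of_injective _ (Subgroup.inclusion_injective L₁.P_le)
  obtain ⟨g, hg, hgK⟩ := L₁.exists_P_not_K
  haveI : Nontrivial ↥P :=
    ⟨⟨⟨g, hg⟩, 1, fun e => hgK ((show g = 1 from congrArg Subtype.val e) ▸ K₁.one_mem)⟩⟩
  haveI := L₁.two.center_nontrivial
  obtain ⟨⟨z, hz⟩, hz1⟩ := exists_ne (1 : Subgroup.center ↥P)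
  obtain ⟨k, hk⟩ := IsPGroup.iff_orderOf.1 L₁.two z
  have hk0 : k ≠ 0 := fun e =>
    hz1 (Subtype.ext (orderOf_eq_one_iff.1 (by rw [hk, e, pow_zero])))
  obtain ⟨m, rfl⟩ : ∃ m, k = m + 1 := ⟨k - 1, by omega⟩
  have hw2 : z ^ 2 ^ m * z ^ 2 ^ m = 1 := by
    rw [← pow_add, ← two_mul, ← pow_succ', ← hk, pow_orderOf_eq_one]
  have hw1 : z ^ 2 ^ m ≠ 1 := fun e => by
    have h1 := orderOf_le_of_pow_eq_one (by positivity) e
    rw [hk, pow_succ] at h1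
    have := Nat.two_pow_pos m
    omega
  have hwc : z ^ 2 ^ m ∈ Subgroup.center ↥P := pow_mem hz _
  generalize z ^ 2 ^ m = w at hw2 hw1 hwc
  have hcen : ∀ e ∈ P, e * (w : G) = w * e := fun e he =>
    congrArg Subtype.val (Subgroup.mem_center_iff.1 hwc ⟨e, he⟩)
  have hx2 : (w : G) * w = 1 := congrArg Subtype.val hw2
  have norm : ∀ {M : Subgroup G}, (∀ g ∈ M, g * (w : G) = w * g) →
      ∀ g ∈ M, ∀ x ∈ Subgroup.zpowers (w : G), g * x * g⁻¹ ∈ Subgroup.zpowers (w : G) := by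
    rintro M hM g hg x ⟨n, rfl⟩
    refine ⟨n, ?_⟩
    show (w : G) ^ n = _
    rw [(Commute.zpow_right (show Commute g (w : G) from hM g hg) n).eq, mul_inv_cancel_right]
  have := hc _ (by simp) (norm (h₁ _ w.2 hx2 hcen)) (norm (h₂ _ w.2 hx2 hcen))
  exact hw1 (Subtype.ext (Subgroup.zpowers_eq_bot.1 this))

theorem card_inter_le (M₁ M₂ : Subgroup G) [Finite M₁] [Finite M₂]
    (hb₁ : Nonempty (M₁ ⧸ Cfsg.pCore 2 M₁ ≃* Equiv.Perm (Fin 3)))
    (hb₂ : Nonempty (M₂ ⧸ Cfsg.pCore 2 M₂ ≃* Equiv.Perm (Fin 3)))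
    (ha₁ : ∃ P : Sylow 2 M₁, (P : Subgroup M₁) = (M₁ ⊓ M₂).subgroupOf M₁)
    (ha₂ : ∃ P : Sylow 2 M₂, (P : Subgroup M₂) = (M₁ ⊓ M₂).subgroupOf M₂)
    (L₁ : Local M₁ (M₁ ⊓ M₂) (Cfsg.pCoreOf 2 M₁)) (L₂ : Local M₂ (M₁ ⊓ M₂) (Cfsg.pCoreOf 2 M₂))
    (hc : ∀ N : Subgroup G, N ≤ M₁ ⊓ M₂ → (∀ g ∈ M₁, ∀ x ∈ N, g * x * g⁻¹ ∈ N) →
      (∀ g ∈ M₂, ∀ x ∈ N, g * x * g⁻¹ ∈ N) → N = ⊥) :
    Nat.card ↥(M₁ ⊓ M₂) ≤ 2 ^ 7 := by
  by_cases hC₁ : ∀ g ∈ M₁, (∀ x ∈ Cfsg.pCoreOf 2 M₁, g * x = x * g) → g ∈ Cfsg.pCoreOf 2 M₁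
  swap
  · exact (card_le_of_centralizer M₁ M₂ L₁ L₂ hC₁ hc).trans (by norm_num)
  by_cases hC₂ : ∀ g ∈ M₂, (∀ x ∈ Cfsg.pCoreOf 2 M₂, g * x = x * g) → g ∈ Cfsg.pCoreOf 2 M₂
  swap
  · exact (card_le_of_centralizer M₂ M₁ L₂ L₁ hC₂ fun N hN h2 h1 => hc N hN h1 h2).trans (by norm_num)
  by_cases hp₂ : ∀ x ∈ M₁ ⊓ M₂, x * x = 1 → (∀ e ∈ M₁ ⊓ M₂, e * x = x * e) → ∀ g ∈ M₂, g * x = x * g
  · exact card_le_of_passive M₁ M₂ L₁ L₂ hC₁ hC₂ hp₂ hc
  by_cases hp₁ : ∀ x ∈ M₁ ⊓ M₂, x * x = 1 → (∀ e ∈ M₁ ⊓ M₂, e * x = x * e) → ∀ g ∈ M₁, g * x = x * g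
  · rw [inf_comm]
    exact card_le_of_passive M₂ M₁ (inf_comm M₁ M₂ ▸ L₂) (inf_comm M₁ M₂ ▸ L₁) hC₂ hC₁
      (inf_comm M₁ M₂ ▸ hp₁) fun N hN h2 h1 => hc N (hN.trans (inf_comm _ _).le) h1 h2
  -- both active: apply the structure theorem inside the join
  set J := M₁ ⊔ M₂ with hJ
  have h1J : M₁ ≤ J := le_sup_left
  have h2J : M₂ ≤ J := le_sup_right
  haveI : Finite ↥(M₁.subgroupOf J) := Finite.of_equiv _ (Subgroup.subgroupOfEquivOfLe h1J).toEquiv.symm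
  haveI : Finite ↥(M₂.subgroupOf J) := Finite.of_equiv _ (Subgroup.subgroupOfEquivOfLe h2J).toEquiv.symm
  have transport : ∀ (M : Subgroup G) (hMJ : M ≤ J),
      (M ⊓ M₁ ⊓ M₂ = M₁ ⊓ M₂) →
      Nonempty (M ⧸ Cfsg.pCore 2 M ≃* Equiv.Perm (Fin 3)) →
      (∃ P : Sylow 2 M, (P : Subgroup M) = (M₁ ⊓ M₂).subgroupOf M) →
      (∀ g ∈ M, (∀ x ∈ Cfsg.pCoreOf 2 M, g * x = x * g) → g ∈ Cfsg.pCoreOf 2 M) →
      (¬ ∀ x ∈ M₁ ⊓ M₂, x * x = 1 → (∀ e ∈ M₁ ⊓ M₂, e * x = x * e) → ∀ g ∈ M, g * x = x * g) →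
      (M.subgroupOf J ⊓ Subgroup.centralizer (Cfsg.pCoreOf 2 (M.subgroupOf J) : Set J) ≤
          Cfsg.pCoreOf 2 (M.subgroupOf J)) ∧
      (∃ S : Sylow 2 ↥(M.subgroupOf J), (S : Subgroup ↥(M.subgroupOf J)) =
          (M₁.subgroupOf J ⊓ M₂.subgroupOf J).subgroupOf (M.subgroupOf J)) ∧
      Nonempty (↥(M.subgroupOf J) ⧸ Cfsg.pCore 2 ↥(M.subgroupOf J) ≃* Equiv.Perm (Fin 3)) ∧
      ¬ M.subgroupOf J ≤ Subgroup.centralizer (Cfsg.omegaOne 2 (M₁.subgroupOf J ⊓ M₂.subgroupOf J ⊓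
          Subgroup.centralizer ((M₁.subgroupOf J ⊓ M₂.subgroupOf J : Subgroup J) : Set J)) : Set J) := by
    intro M hMJ hle hb ha hC hp
    let e : ↥(M.subgroupOf J) ≃* ↥M := Subgroup.subgroupOfEquivOfLe hMJ
    have hcore : (Cfsg.pCore 2 ↥(M.subgroupOf J)).map e.toMonoidHom = Cfsg.pCore 2 ↥M :=
      CfsgLib.Conjugacy.map_pCore_equiv e
    have hmemcore : ∀ x : ↥(M.subgroupOf J),
        x ∈ Cfsg.pCore 2 ↥(M.subgroupOf J) ↔ e x ∈ Cfsg.pCore 2 ↥M := fun x => by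
      rw [← hcore]; exact ⟨fun h => ⟨x, h, rfl⟩, fun ⟨y, hy, he⟩ => e.injective he ▸ hy⟩
    haveI h1n := CfsgLib.Fitting.pCore_normal (G := ↥(M.subgroupOf J)) 2
    haveI h2n := CfsgLib.Fitting.pCore_normal (G := ↥M) 2
    refine ⟨?_, ?_, ?_, ?_⟩
    · rintro g ⟨hgM, hgc⟩
      obtain ⟨y, hy, hye⟩ := hC (g : G) hgM fun x hx => by
        obtain ⟨z, hz, rfl⟩ := hx
        have h := Subgroup.mem_centralizer_iff.1 hgc _
          (show ((e.symm z : ↥(M.subgroupOf J)) : J) ∈ Cfsg.pCoreOf 2 (M.subgroupOf J) from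
            ⟨e.symm z, (hmemcore _).2 (by simpa using hz), rfl⟩)
        exact (congrArg Subtype.val h).symm
      exact ⟨⟨g, hgM⟩, (hmemcore _).2 (by
        rw [show e ⟨g, hgM⟩ = y from Subtype.ext hye.symm]; exact hy), rfl⟩
    · obtain ⟨S, hS⟩ := ha
      refine ⟨S.comapOfInjective e.toMonoidHom e.injective
        (fun x _ => ⟨e.symm x, e.apply_symm_apply x⟩), ?_⟩
      ext x
      show e x ∈ (S : Subgroup M) ↔ _
      rw [hS]
      exact Iff.rfl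
    · obtain ⟨f⟩ := hb
      exact ⟨(QuotientGroup.congr _ _ e hcore).trans f⟩
    · intro hcen
      apply hp
      intro x hx hx2 hxc g hg
      have hxJ : x ∈ J := h1J hx.1
      have hxΩ : (⟨x, hxJ⟩ : J) ∈ Cfsg.omegaOne 2 (M₁.subgroupOf J ⊓ M₂.subgroupOf J ⊓
          Subgroup.centralizer ((M₁.subgroupOf J ⊓ M₂.subgroupOf J : Subgroup J) : Set J)) := by
        refine Subgroup.subset_closure ⟨⟨⟨hx.1, hx.2⟩, Subgroup.mem_centralizer_iff.2 fun y hy => ?_⟩, ?_⟩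
        · exact Subtype.ext (hxc _ ⟨hy.1, hy.2⟩)
        · rw [pow_two]; exact Subtype.ext hx2
      exact (congrArg Subtype.val (Subgroup.mem_centralizer_iff.1
        (hcen (show (⟨g, hMJ hg⟩ : J) ∈ M.subgroupOf J from hg)) _ hxΩ)).symm
  obtain ⟨a1, b1, c1, d1⟩ := transport M₁ h1J (by rw [inf_idem]) hb₁ ha₁ hC₁ hp₁
  obtain ⟨a2, b2, c2, d2⟩ := transport M₂ h2J (by rw [inf_comm M₂ M₁, inf_assoc, inf_idem]) hb₂ ha₂
    hC₂ hp₂
  have hgen : M₁.subgroupOf J ⊔ M₂.subgroupOf J = ⊤ := by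
    rw [← Subgroup.subgroupOf_sup h1J h2J, ← hJ]
    exact Subgroup.subgroupOf_self J
  have hfaith : ∀ N : Subgroup J, N.Normal → N ≤ M₁.subgroupOf J ⊓ M₂.subgroupOf J → N = ⊥ := by
    intro N hN hle
    have hconj : ∀ g ∈ J, ∀ x ∈ N.map J.subtype, g * x * g⁻¹ ∈ N.map J.subtype := by
      rintro g hg _ ⟨y, hy, rfl⟩
      exact ⟨⟨g, hg⟩ * y * ⟨g, hg⟩⁻¹, hN.conj_mem y hy _, rfl⟩
    have h := hc (N.map J.subtype) (by rintro _ ⟨y, hy, rfl⟩; exact ⟨(hle hy).1, (hle hy).2⟩)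
      (fun g hg => hconj g (h1J hg)) (fun g hg => hconj g (h2J hg))
    exact (Subgroup.map_eq_bot_iff_of_injective _ J.subtype_injective).1 h
  have hres := Cfsg.Agent.S2858.result (M₁.subgroupOf J) (M₂.subgroupOf J) hgen _ rfl
    (by simp only [Set.mem_insert_iff, Set.mem_singleton_iff]; rintro P (rfl | rfl) <;> assumption)
    (by simp only [Set.mem_insert_iff, Set.mem_singleton_iff]; rintro P (rfl | rfl) <;> assumption)
    hfaith
    (by simp only [Set.mem_insert_iff, Set.mem_singleton_iff]; rintro P (rfl | rfl) <;> assumption)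
    (by simp only [Set.mem_insert_iff, Set.mem_singleton_iff]; rintro P (rfl | rfl) <;> assumption)
  have hcard : Nat.card ↥(M₁.subgroupOf J) ≤ 48 := by
    rcases hres with ⟨⟨f⟩, -⟩ | ⟨⟨f⟩, -⟩
    · rw [Nat.card_congr f.toEquiv, Nat.card_perm, Nat.card_fin]; decide
    · rw [Nat.card_congr f.toEquiv, Nat.card_prod, Nat.card_perm, Nat.card_fin,
        Nat.card_congr Multiplicative.toAdd, Nat.card_zmod]
      decide
  rw [Nat.card_congr (Subgroup.subgroupOfEquivOfLe h1J).toEquiv] at hcard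
  exact ((Nat.card_le_card_of_injective _
    (Subgroup.inclusion_injective (inf_le_left : M₁ ⊓ M₂ ≤ M₁))).trans hcard).trans (by norm_num)

end CfsgLib.Goldschmidt
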