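import Cfsg.Agent.Lib.Amalgam.Goldschmidt.Common

/-!
Even critical lengths: only length two occurs.
-/

set_option autoImplicit false
set_option linter.unusedSectionVars false
set_option linter.unusedVariables false
set_option linter.style.haveILetI false

namespace CfsgLib.Goldschmidt

variable {X : Type*} [Group X] {V : Type*} [MulAction X V]

local notation "St" => MulAction.stabilizer X

namespace Ctx

variable (C : Ctx X V)

include C

theorem two_le_bb {p : ℕ → V} (hp : C.CP p) (he : Even C.bb) : 2 ≤ C.bb := by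
  have := C.one_le_bb hp
  obtain ⟨m, hm⟩ := he
  omega

theorem card_cB_even {p : ℕ → V} (hp : C.CP p) (he : Even C.bb) {a b : V} (h : C.Adj a b)
    (ha : C.A a) : Nat.card ↥(C.cB b) = 2 := by
  have h2 := C.two_le_bb hp he
  have h01 : C.Adj (p 0) (p 1) := C.CP_adj hp (by omega)
  obtain ⟨t, ht, htQ⟩ := C.CP_far hp he
  have htE : t ∈ (Ed (p 0) (p 1) : Subgroup X) :=
    ⟨C.CP_le_St hp le_rfl (Nat.zero_le _) he ht, C.CP_le_St hp le_rfl (by omega) he ht⟩
  have hA := (C.CP_A hp le_rfl).2 he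
  haveI := C.finite_Z hp.2.1
  have hsub : C.Z (p 0) ⊓ C.Q (p C.bb) ≤ C.cB (p 1) := fun x hx =>
    C.mem_cB_of_commute h01 hp.2.1 hx.1 htE htQ (C.Z_comm_Q hA hx.2 ht).symm
  have hadj : C.Adj (p C.bb) (p (C.bb - 1)) := by
    have := C.CP_adj hp (i := C.bb - 1) (by omega)
    rw [Nat.sub_add_cancel (by omega)] at this
    exact C.symm this
  have hidx := card_le_two_mul (H := C.Q (p C.bb)) (K := C.Z (p 0)) fun x hx y hy =>
    C.two_coset hadj ⟨C.CP_le_St hp (Nat.zero_le _) le_rfl Even.zero hx,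
        C.CP_le_St hp (Nat.zero_le _) (Nat.sub_le _ _) Even.zero hx⟩
      ⟨C.CP_le_St hp (Nat.zero_le _) le_rfl Even.zero hy,
        C.CP_le_St hp (Nat.zero_le _) (Nat.sub_le _ _) Even.zero hy⟩
  rw [C.card_cB_eq h h01 ha hp.2.1]
  exact C.card_cB_two_le h01 hp.2.1 hsub hidx

theorem cB_even_eq {p : ℕ → V} (hp : C.CP p) (he : Even C.bb) :
    C.cB (p 1) = C.cB (p (C.bb - 1)) := by
  have h2 := C.two_le_bb hp he
  have h01 : C.Adj (p 0) (p 1) := C.CP_adj hp (by omega)
  have hlast : C.Adj (p C.bb) (p (C.bb - 1)) := by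
    have := C.CP_adj hp (i := C.bb - 1) (by omega)
    rw [Nat.sub_add_cancel (by omega)] at this
    exact C.symm this
  obtain ⟨t, ht, htQ⟩ := C.CP_far hp he
  obtain ⟨s, hs, hsQ⟩ := SetLike.not_le_iff_exists.1 hp.2.2
  have hA := (C.CP_A hp le_rfl).2 he
  have htE : t ∈ (Ed (p 0) (p 1) : Subgroup X) :=
    ⟨C.CP_le_St hp le_rfl (Nat.zero_le _) he ht, C.CP_le_St hp le_rfl (by omega) he ht⟩
  have hsE : s ∈ (Ed (p C.bb) (p (C.bb - 1)) : Subgroup X) :=
    ⟨C.CP_le_St hp (Nat.zero_le _) le_rfl Even.zero hs,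
      C.CP_le_St hp (Nat.zero_le _) (Nat.sub_le _ _) Even.zero hs⟩
  have e1 := C.mul_conj_mem h01 hp.2.1 hs htE
  have e2 := C.mul_conj_mem hlast hA ht hsE
  have hst : s * (t * s * t⁻¹) = t * (s * t * s⁻¹) := by
    rw [← C.Z_comm hA (C.conj_Z hA hsE.1 ht) ht, C.Z_inv hp.2.1 hs, C.Z_inv hA ht]
    group
  have hne : s * (t * s * t⁻¹) ≠ 1 := by
    intro e
    have hc : t * s = s * t := by
      have := conj_eq_of_comm e (C.Z_sq hp.2.1 hs)
      rw [mul_one] at this
      exact mul_inv_eq_iff_eq_mul.1 this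
    have hle : C.cB (p 1) ≤ C.Q (p C.bb) := by
      refine (C.cB_le_Z (C.symm (C.CP_adj hp (i := 1) (by omega)))).trans ?_
      exact C.CP_le_Q hp (by omega) le_rfl even_two (by omega)
    exact hsQ (hle (C.mem_cB_of_commute h01 hp.2.1 hs htE htQ hc))
  exact eq_of_common (C.card_cB_even hp he h01 hp.2.1) (C.card_cB_even hp he hlast hA) e1 (hst ▸ e2) hne

theorem bb_eq_two {p : ℕ → V} (hp : C.CP p) (he : Even C.bb) : C.bb = 2 := by
  have h2 := C.two_le_bb hp he
  by_contra hne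
  have h4 : 4 ≤ C.bb := by obtain ⟨m, hm⟩ := he; omega
  obtain ⟨n, hn⟩ : ∃ n, C.bb = n + 2 := ⟨C.bb - 2, by omega⟩
  have h01 : C.Adj (p 0) (p 1) := C.CP_adj hp (by omega)
  have hA := hp.2.1
  have hne' : Even n := by rw [hn, Nat.even_add] at he; simpa using he
  -- no critical walk continues backwards
  have back : ∀ μ, C.Adj (p 0) μ → μ ≠ p 1 → ∀ ν, C.Adj μ ν → C.Z ν ≤ C.Q (p n) := by
    intro μ hμ hμ1 ν hν
    by_contra hcrit
    have hνA : C.A ν := C.A_of_not (C.symm hν) (C.not_A hμ hA)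
    have hm : C.CP (cons ν (cons μ p)) := by
      refine ⟨?_, hνA, ?_⟩
      · rw [hn]
        exact C.isW_cons (C.symm hν) (C.isW_cons (C.symm hμ) (IsW.mono C hp.1 (by omega)))
      · rw [hn]; exact hcrit
    have e := C.cB_even_eq hm he
    rw [show C.bb - 1 = (n - 1) + 1 + 1 by omega] at e
    simp only [cons_succ, cons_zero] at e
    have e' := C.cB_even_eq hp he
    rw [show C.bb - 1 = n + 1 by omega] at e'
    have hn1 : C.Adj (p n) (p (n - 1)) := by
      have := C.CP_adj hp (i := n - 1) (by omega)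
      rw [Nat.sub_add_cancel (by omega)] at this
      exact C.symm this
    have hnb : p (n - 1) ≠ p (n + 1) := fun h => by
      have := C.CP_nb hp (n - 1) (by omega)
      rw [show n - 1 + 2 = n + 1 by omega] at this
      exact this h.symm
    refine hp.2.2 ?_
    rw [C.Z_eq_sup hμ h01 hμ1 hA, e, e', ← C.Z_eq_sup hn1 (C.CP_adj hp (by omega)) hnb
      ((C.CP_A hp (by omega)).2 hne')]
    exact C.CP_le_Q hp (by omega) le_rfl hne' (by omega)
  obtain ⟨t, ht, htQ⟩ := C.CP_far hp he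
  have hAb := (C.CP_A hp le_rfl).2 he
  have htE : t ∈ (Ed (p 0) (p 1) : Subgroup X) :=
    ⟨C.CP_le_St hp le_rfl (Nat.zero_le _) he ht, C.CP_le_St hp le_rfl (by omega) he ht⟩
  have hlast : C.Adj (p C.bb) (p (C.bb - 1)) := by
    have := C.CP_adj hp (i := C.bb - 1) (by omega)
    rw [Nat.sub_add_cancel (by omega)] at this
    exact C.symm this
  obtain ⟨μ, u, hμ, -, hμ1, -, -⟩ := C.exists_others h01
  have hμA : ¬ C.A μ := C.not_A hμ hA
  -- an element moving the end of the shortened walk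
  have hmov : ∃ ν, C.Adj μ ν ∧ ¬ C.Z ν ≤ C.Q (p (n + 1)) := by
    by_contra hall
    push Not at hall
    set W := ⨆ w, ⨆ (_ : C.Adj μ w), C.Z w with hW
    have hZW : ∀ w, C.Adj μ w → C.Z w ≤ W := fun w hw =>
      le_trans (le_iSup (fun _ : C.Adj μ w => C.Z w) hw) (le_iSup (fun v => ⨆ _ : C.Adj μ v, C.Z v) w)
    have hνA : ∀ w, C.Adj μ w → C.A w := fun w hw => C.A_of_not (C.symm hw) hμA
    have hWb : W ≤ Ed (p C.bb) (p (C.bb - 1)) := iSup₂_le fun w hw x hx =>
      ⟨by
        show x • p C.bb = p C.bb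
        exact (hall w hw hx).2 _ (by rw [show C.bb = n + 1 + 1 by omega]; exact C.CP_adj hp (by omega)),
      by
        show x • p (C.bb - 1) = p (C.bb - 1)
        rw [show C.bb - 1 = n + 1 by omega]; exact (hall w hw hx).1⟩
    have hW0 : W ≤ Ed (p 0) μ := iSup₂_le fun w hw x hx => by
      refine ⟨?_, (C.Z_le_Q (hνA w hw) hx).2 μ (C.symm hw)⟩
      show x • p 0 = p 0
      exact C.le_St_walk (n := 2) (p := fun i => if i = 0 then w else if i = 1 then μ else p 0)
        (fun i hi => by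
          rcases (by omega : i = 0 ∨ i = 1) with rfl | rfl
          · simpa using C.symm hw
          · simpa using C.symm hμ)
        (by simpa using hνA w hw) (by omega) (by simpa using hx)
    haveI := C.finite_le (hW0.trans inf_le_left)
    have hcW : C.cB (p (C.bb - 1)) ≤ W := by
      rw [← C.cB_even_eq hp he]
      exact (C.cB_le_Z h01).trans (hZW _ (C.symm hμ))
    have ht' : t ∈ Subgroup.normalizer (W : Set X) := by
      refine mem_normalizer_finite fun x hx => ?_
      have h1 := C.mul_conj_mem hlast hAb ht (hWb hx)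
      have h2 : x * t * x⁻¹ * t⁻¹ ∈ C.cB (p (C.bb - 1)) := by
        rw [C.Z_inv hAb ht, ← C.Z_comm hAb ht (C.conj_Z hAb (hWb hx).1 ht)]
        exact h1
      rw [show t * x * t⁻¹ = (x * t * x⁻¹ * t⁻¹)⁻¹ * x by group]
      exact mul_mem (inv_mem (hcW h2)) hx
    have hnμ : St μ ≤ Subgroup.normalizer (W : Set X) := fun g hg => by
      refine mem_normalizer_finite fun x hx => ?_
      have : W.map (MulAut.conj g).toMonoidHom ≤ W := by
        rw [hW, Subgroup.map_iSup]
        refine iSup_le fun w => ?_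
        rw [Subgroup.map_iSup]
        refine iSup_le fun hw => ?_
        rintro _ ⟨y, hy, rfl⟩
        exact hW ▸ hZW _ (C.smul_nbr hg hw) (C.smul_Z (hνA w hw) hy)
      exact this ⟨x, hx, rfl⟩
    have hn0 : St (p 0) ≤ Subgroup.normalizer (W : Set X) :=
      C.St_le hμ (fun g hg => hnμ hg.2) ht' htE.1 (C.moves h01 hμ hμ1 htE htQ).1
    have hbot := C.faithful hμ W hW0 hn0 hnμ
    exact C.cB_ne_bot hμ hA (le_bot_iff.1 (hbot ▸ (C.cB_le_Z hμ).trans (hZW _ (C.symm hμ))))
  obtain ⟨ν, hν, hνQ⟩ := hmov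
  obtain ⟨x, hx, hxQ⟩ := SetLike.not_le_iff_exists.1 hνQ
  have hνA : C.A ν := C.A_of_not (C.symm hν) hμA
  have hw : C.IsW C.bb (cons ν (cons μ p)) := by
    rw [hn]
    exact C.isW_cons (C.symm hν) (C.isW_cons (C.symm hμ) (IsW.mono C hp.1 (by omega)))
  have hm1 : C.HasMover n (C.A (p (n + 1))) := by
    refine ⟨fun i => p (i + 1), C.isW_shift hp.1 (by omega), nb_shift (C.CP_nb hp) (by omega), Iff.rfl,
      x, fun i hi => ?_, hxQ⟩
    show x • p (i + 1) = p (i + 1)
    rcases (by omega : i + 1 ≤ n ∨ i + 1 = n + 1) with h | h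
    · have := C.le_St_walk (IsW.mono C hw (m := i + 1 + 2) (by omega)) (by simpa using hνA)
        (by omega) (by simpa using hx)
      simpa using this
    · rw [h]
      exact ((back μ hμ hμ1 ν hν) hx).2 _ (C.CP_adj hp (by omega))
  have hm2 : C.HasMover n (¬ C.A (p (n + 1))) := by
    obtain ⟨q, a, b, c, d⟩ := C.hasMover_mono (m := n) (by omega) (C.hasMover_CP_end hp)
    refine ⟨q, a, b, c.trans ?_, d⟩
    have h3 := C.side (C.CP_adj hp (i := n + 1) (by omega))
    rw [show C.bb = n + 1 + 1 by omega]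
    tauto
  have htr : C.Tr n := C.tr_of_movers (C.movers_both hm1 hm2) n (by omega)
  obtain ⟨g, hg⟩ := htr p (fun i => p (i + 2)) (IsW.mono C hp.1 (by omega))
    (fun i hi => C.CP_nb hp i (by omega)) (C.isW_shift hp.1 (by omega))
    (nb_shift (C.CP_nb hp) (by omega))
    (iff_of_true hA ((C.CP_A hp (by omega)).2 even_two))
  have g0 : g⁻¹ • p 2 = p 0 := inv_smul_eq_iff.2 (hg 0 (by omega)).symm
  have hμ' : C.Adj (p 0) (g⁻¹ • p 1) := by
    rw [← g0]; exact C.smul_adj _ (C.symm (C.CP_adj hp (by omega)))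
  have hμ1' : g⁻¹ • p 1 ≠ p 1 := fun e => C.CP_nb hp 1 (by omega) (by
    have h1 := inv_smul_eq_iff.1 e
    have h2 := hg 1 (by omega)
    rw [← h1] at h2
    exact h2.symm)
  have hν' : C.Adj (g⁻¹ • p 1) (g⁻¹ • p 0) := C.smul_adj _ (C.symm h01)
  refine hp.2.2 fun y hy => ?_
  have h1 := back _ hμ' hμ1' _ hν' (C.smul_Z hA (g := g⁻¹) hy)
  have h2 := C.smul_Q (g := g) h1
  rw [hg n le_rfl, ← hn] at h2
  simpa [mul_assoc] using h2

end Ctx

end CfsgLib.Goldschmidt
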