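import Cfsg.Agent.Lib.Amalgam.Goldschmidt.Rep

/-!
Odd critical lengths at least five do not occur.
-/

set_option autoImplicit false
set_option linter.unusedSectionVars false
set_option linter.unusedVariables false
set_option linter.style.haveILetI false

namespace CfsgLib.Goldschmidt

variable {X : Type*} [Group X] {V : Type*} [MulAction X V]

local notation "St" => MulAction.stabilizer X

theorem exists_move {g x : X} : g * x * g⁻¹ = g * x * g⁻¹ * x⁻¹ * x := by group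

namespace Ctx

variable (C : Ctx X V)

/-- A critical walk can be continued backwards through `μ`. -/
def BackA (p : ℕ → V) (μ : V) : Prop := ∃ o, C.Adj μ o ∧ ¬ C.Z o ≤ C.Q (p (C.bb - 2))

/-- The far `Z`s act on those around `μ` modulo the module at the second vertex. -/
def BackC (p : ℕ → V) (μ : V) : Prop :=
  ∀ o, C.Adj μ o → ∀ x ∈ C.Z o, ∀ ν, C.Adj (p C.bb) ν → ∀ t ∈ C.Z ν, t ∉ C.Q (p 1) →
    t * x * t⁻¹ * x⁻¹ ∈ C.W (p 1)

include C

variable {p : ℕ → V}

theorem back_A (hp : C.CP p) {μ o : V} (hμ : C.Adj (p 0) μ) (ho : C.Adj μ o) : C.A o :=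
  (C.A_iff_of_two hμ ho).1 hp.2.1

theorem back_walk (hp : C.CP p) (hb : 2 ≤ C.bb) {μ o : V} (hμ : C.Adj (p 0) μ) (ho : C.Adj μ o) :
    C.IsW C.bb (cons o (cons μ p)) := by
  obtain ⟨n, hn⟩ : ∃ n, C.bb = n + 2 := ⟨C.bb - 2, by omega⟩
  rw [hn]
  exact C.isW_cons (C.symm ho) (C.isW_cons (C.symm hμ) (IsW.mono C hp.1 (by omega)))

theorem BackA_CP (hp : C.CP p) (hb : 2 ≤ C.bb) {μ : V} (hμ : C.Adj (p 0) μ) (h : C.BackA p μ) :
    ∃ o, C.Adj μ o ∧ C.CP (cons o (cons μ p)) := by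
  obtain ⟨o, ho, hQ⟩ := h
  obtain ⟨n, hn⟩ : ∃ n, C.bb = n + 2 := ⟨C.bb - 2, by omega⟩
  refine ⟨o, ho, C.back_walk hp hb hμ ho, C.back_A hp hμ ho, ?_⟩
  rw [hn] at hQ ⊢
  simpa using hQ

theorem BackA_of_MovA (hp : C.CP p) (hb : 3 ≤ C.bb) (ho : Odd C.bb) (hm : C.MovA) {μ : V}
    (hμ : C.Adj (p 0) μ) (hne : μ ≠ p 1) : C.BackA p μ := by
  obtain ⟨n, hn⟩ : ∃ n, C.bb = n + 2 := ⟨C.bb - 2, by omega⟩
  have hw : C.IsW (n + 1) (cons μ p) := C.isW_cons (C.symm hμ) (IsW.mono C hp.1 (by omega))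
  have hnb : NB (n + 1) (cons μ p) := nb_cons (fun _ => hne.symm) fun i hi => C.CP_nb hp i (by omega)
  have h1 : C.IsW (n + 1) (fun i => p (C.bb - i)) := IsW.mono C (C.isW_rev hp.1) (by omega)
  have h2 : NB (n + 1) (fun i => p (C.bb - i)) := fun i hi => nb_rev (C.CP_nb hp) i (by omega)
  have hnA : ¬ C.A (p n) := fun e => by
    have h' := (C.CP_A hp (i := n) (by omega)).1 e
    rw [hn, Nat.odd_add] at ho
    exact absurd h' (Nat.not_even_iff_odd.2 (by simpa using ho))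
  obtain ⟨g, hg⟩ := C.tr_of_movA hp ho hm (n + 1) (by omega) _ (fun i => cons μ p (n + 1 - i)) h1 h2
    (C.isW_rev hw) (nb_rev hnb)
    (iff_of_false (by simpa using C.CP_end_not_A hp ho) (by simpa using hnA))
  have g0 : g • p C.bb = p n := by simpa using hg 0 (by omega)
  have g1 : g • p 1 = μ := by simpa [hn] using hg (n + 1) le_rfl
  refine ⟨g • p 0, ?_, ?_⟩
  · rw [← g1]; exact C.smul_adj g (C.symm (C.CP_adj hp (by omega)))
  · rw [show C.bb - 2 = n by omega, ← g0]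
    exact C.not_le_of_smul g hp.2.1 hp.2.2

theorem back_dichotomy (hp : C.CP p) (hb : 5 ≤ C.bb) (ho : Odd C.bb) (hm : ¬ C.MovA) {μ : V}
    (hμ : C.Adj (p 0) μ) : C.BackA p μ ∨ C.BackC p μ := by
  refine or_iff_not_imp_left.2 fun hA o hadj x hx ν hν t ht htQ => ?_
  have hoA := C.back_A hp hμ hadj
  obtain ⟨n, hn⟩ : ∃ n, C.bb = n + 2 := ⟨C.bb - 2, by omega⟩
  have hxn : x ∈ C.Q (p n) := by
    by_contra h
    exact hA ⟨o, hadj, fun e => h (by simpa [show C.bb - 2 = n by omega] using e hx)⟩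
  have hw := C.back_walk hp (by omega) hμ hadj
  have hxj : ∀ j, j ≤ n → x • p j = p j := fun j hj => by
    have := C.le_St_walk (IsW.mono C hw (m := j + 1 + 1) (by omega)) (by simpa using hoA) (by omega)
      (by simpa using hx)
    simpa using this
  have hx1 : x • p (n + 1) = p (n + 1) := hxn.2 _ (C.CP_adj hp (by omega))
  have hxb : x • p C.bb = p C.bb := by
    rw [show C.bb = n + 1 + 1 by omega]
    by_contra h
    refine hm ⟨fun i => p (i + 1), C.isW_shift hp.1 (by omega), nb_shift (C.CP_nb hp) (by omega),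
      iff_of_true ((C.CP_A hp (by omega)).2 ?_) trivial, x, fun i hi => ?_, fun e => h ?_⟩
    · rw [show C.bb - 2 + 1 = C.bb - 1 by omega]; exact C.even_pred ho
    · show x • p (i + 1) = p (i + 1)
      rcases (by omega : i + 1 ≤ n ∨ i + 1 = n + 1) with h' | h'
      · exact hxj _ h'
      · rw [h']; exact hx1
    · simp only [show C.bb - 2 + 1 = n + 1 by omega] at e
      exact e.2 _ (C.CP_adj hp (by omega))
  have hνne : ν ≠ p (C.bb - 1) := fun e => htQ
    (C.CP_le_Q hp (Nat.sub_le _ _) (by omega) (C.even_pred ho) (by omega) (e ▸ ht))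
  have hνA := C.far_A hp ho hν
  have key : ∀ y : X, (∀ j, j ≤ C.bb → 1 ≤ j → y • p j = p j) → y ∈ C.Q (p C.bb) →
      t * y = y * t := by
    intro y hy hyQ
    refine (C.Z_comm_Q hνA ?_ ht).symm
    by_contra h
    refine hm ⟨fun i => if i + 3 ≤ C.bb then p (i + 3) else ν, fun i hi => ?_, fun i hi => ?_, ?_,
      y, fun i hi => ?_, ?_⟩
    · dsimp only
      rw [if_pos (by omega)]
      split_ifs with h
      · rw [show i + 1 + 3 = i + 3 + 1 by omega]; exact C.CP_adj hp (by omega)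
      · rw [show i + 3 = C.bb by omega]; exact hν
    · dsimp only
      rw [if_pos (by omega : i + 3 ≤ C.bb)]
      split_ifs with h
      · rw [show i + 2 + 3 = i + 3 + 2 by omega]; exact C.CP_nb hp _ (by omega)
      · rw [show i + 3 = C.bb - 1 by omega]; exact hνne
    · dsimp only
      rw [if_neg (by omega)]; exact iff_of_true hνA trivial
    · dsimp only
      split_ifs with h'
      · exact hy _ h' (by omega)
      · exact hyQ.2 ν hν
    · dsimp only
      rwa [if_neg (by omega)]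
  have hxall : ∀ j, j ≤ C.bb → x • p j = p j := fun j hj => by
    rcases (by omega : j ≤ n ∨ j = n + 1 ∨ j = C.bb) with h | rfl | rfl
    · exact hxj j h
    · exact hx1
    · exact hxb
  by_cases hxQ : x ∈ C.Q (p C.bb)
  · rw [key x (fun j hj _ => hxall j hj) hxQ, mul_inv_cancel_right, mul_inv_cancel]
    exact one_mem _
  obtain ⟨s, hs, hsQ⟩ := SetLike.not_le_iff_exists.1 hp.2.2
  have hsf : ∀ j, j ≤ C.bb → s • p j = p j := fun j hj =>
    C.CP_le_St hp (Nat.zero_le _) hj Even.zero hs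
  have hc := key (x * s) (fun j hj _ => by rw [mul_smul, hsf j hj, hxall j hj])
    (C.two_coset (C.CP_adj_last hp (by omega)) ⟨hxb, hxall _ (Nat.sub_le _ _)⟩
      ⟨hsf _ le_rfl, hsf _ (Nat.sub_le _ _)⟩ hxQ hsQ)
  have hβ : ¬ C.A (p 1) := C.not_A (C.CP_adj hp (by omega)) hp.2.1
  have hsW := C.Z_le_W (C.symm (C.CP_adj hp (i := 0) (by omega))) hs
  have e : t * x * t⁻¹ * x⁻¹ = x * (s * (t * s * t⁻¹)⁻¹) * x⁻¹ := by
    calc t * x * t⁻¹ * x⁻¹ = t * (x * s) * (s⁻¹ * t⁻¹) * x⁻¹ := by group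
      _ = x * (s * (t * s * t⁻¹)⁻¹) * x⁻¹ := by rw [hc]; group
  rw [e]
  exact C.conj_W hβ (hxall 1 (by omega))
    (mul_mem hsW (inv_mem (C.conj_W hβ (C.far_le_St hp ho hν le_rfl (by omega) ht) hsW)))

theorem not_both_C (hp : C.CP p) (hb : 5 ≤ C.bb) (ho : Odd C.bb) {μ δ : V} (hμ : C.Adj (p 0) μ)
    (hδ : C.Adj (p 0) δ) (hμ1 : μ ≠ p 1) (hδ1 : δ ≠ p 1) (hμδ : μ ≠ δ) (h : C.BackC p μ)
    (h' : C.BackC p δ) : False := by
  have h01 : C.Adj (p 0) (p 1) := C.CP_adj hp (by omega)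
  have h12 : C.Adj (p 1) (p 2) := C.CP_adj hp (by omega)
  have hA := hp.2.1
  obtain ⟨ν, hν, hνQ⟩ := C.exists_far hp (by omega) ho
  obtain ⟨t, ht, htQ⟩ := SetLike.not_le_iff_exists.1 hνQ
  have ht1 : t • p 1 = p 1 := C.far_le_St hp ho hν le_rfl (by omega) ht
  obtain ⟨tne, -, -, -⟩ := C.moves h12 (C.symm h01) (fun e => C.CP_nb hp 0 (by omega) e.symm)
    ⟨ht1, C.far_le_St hp ho hν (by omega) (by omega) ht⟩ htQ
  set U := ⨆ v, ⨆ (_ : C.Adj (p 0) v), C.W v with hU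
  have hWU : ∀ v, C.Adj (p 0) v → C.W v ≤ U := fun v hv =>
    le_trans (le_iSup (fun _ : C.Adj (p 0) v => C.W v) hv)
      (le_iSup (fun w => ⨆ _ : C.Adj (p 0) w, C.W w) v)
  have hUQ : U ≤ C.Q (p 0) :=
    iSup₂_le fun v hv => C.W_le_Q_nbr (by omega) (C.not_A hv hA) (C.symm hv)
  have hUE : U ≤ Ed (p 0) (p 1) := hUQ.trans (C.Q_le_Ed h01)
  haveI := C.finite_le (hUE.trans inf_le_left)
  have hn0 : St (p 0) ≤ Subgroup.normalizer (U : Set X) := fun g hg => by
    refine mem_normalizer_finite fun x hx => ?_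
    have : U.map (MulAut.conj g).toMonoidHom ≤ U := by
      rw [hU, Subgroup.map_iSup]
      refine iSup_le fun v => ?_
      rw [Subgroup.map_iSup]
      refine iSup_le fun hv => ?_
      rintro _ ⟨y, hy, rfl⟩
      exact hU ▸ hWU _ (C.smul_nbr hg hv) (C.smul_W (C.not_A hv hA) hy)
    exact this ⟨x, hx, rfl⟩
  have htn : t ∈ Subgroup.normalizer (U : Set X) := by
    refine mem_normalizer_finite fun x hx => ?_
    have : U.map (MulAut.conj t).toMonoidHom ≤ U := by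
      rw [hU, Subgroup.map_iSup]
      refine iSup_le fun v => ?_
      rw [Subgroup.map_iSup]
      refine iSup_le fun hv => ?_
      rintro _ ⟨y, hy, rfl⟩
      rw [← hU]
      by_cases hv1 : v = p 1
      · subst hv1
        exact hWU _ h01 (C.conj_W (C.not_A h01 hA) ht1 hy)
      have hC : C.BackC p v := by
        rcases C.three h01 hμ hδ hv hμ1 hδ1 hμδ with rfl | rfl | rfl
        · exact absurd rfl hv1
        · exact h
        · exact h'
      have hle : C.W v ≤ U.comap (MulAut.conj t).toMonoidHom := iSup₂_le fun o ho' z hz => by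
        show t * z * t⁻¹ ∈ U
        rw [exists_move]
        exact mul_mem (hWU _ h01 (hC o ho' z hz ν hν t ht htQ)) (hWU v hv (C.Z_le_W ho' hz))
      exact hle hy
    exact this ⟨x, hx, rfl⟩
  have hn1 : St (p 1) ≤ Subgroup.normalizer (U : Set X) :=
    C.St_le (C.symm h01) (fun e he => hn0 he.2) htn ht1 tne
  have hbot := C.faithful h01 U hUE hn0 hn1
  exact C.cB_ne_bot h01 hA
    (le_bot_iff.1 (hbot ▸ (C.cB_le_Z h01).trans ((C.Z_le_W (C.symm h01)).trans (hWU _ h01))))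

theorem exists_pred (hp : C.CP p) (hb : 5 ≤ C.bb) (ho : Odd C.bb) :
    ∃ μ o, C.Adj (p 0) μ ∧ μ ≠ p 1 ∧ C.Adj μ o ∧ C.CP (cons o (cons μ p)) := by
  obtain ⟨μ, δ, hμ, hδ, hμ1, hδ1, hμδ⟩ := C.exists_others (C.CP_adj hp (i := 0) (by omega))
  suffices C.BackA p μ ∨ C.BackA p δ by
    rcases this with h | h
    · obtain ⟨o, h1, h2⟩ := C.BackA_CP hp (by omega) hμ h
      exact ⟨μ, o, hμ, hμ1, h1, h2⟩
    · obtain ⟨o, h1, h2⟩ := C.BackA_CP hp (by omega) hδ h
      exact ⟨δ, o, hδ, hδ1, h1, h2⟩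
  by_cases hm : C.MovA
  · exact Or.inl (C.BackA_of_MovA hp (by omega) ho hm hμ hμ1)
  rcases C.back_dichotomy hp hb ho hm hμ with h | h
  · exact Or.inl h
  rcases C.back_dichotomy hp hb ho hm hδ with h' | h'
  · exact Or.inr h'
  exact (C.not_both_C hp hb ho hμ hδ hμ1 hδ1 hμδ h h').elim

theorem conj_R (hp : C.CP p) (hb : 5 ≤ C.bb) (ho : Odd C.bb) {μ : V} (hμ : C.Adj (p 0) μ)
    (hne : μ ≠ p 1) {r : X} (h : C.IsR μ r) {ν : V} (hν : C.Adj (p C.bb) ν) {t : X} (ht : t ∈ C.Z ν)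
    (htQ : t ∉ C.Q (p 1)) : t * r * t⁻¹ * r⁻¹ ∈ C.W (p 1) := by
  have hA := hp.2.1
  have h01 : C.Adj (p 0) (p 1) := C.CP_adj hp (by omega)
  have hβ := C.not_A h01 hA
  have hB := C.not_A hμ hA
  have hfix : ∀ x ∈ C.W μ, x • p 1 = p 1 := fun x hx =>
    (C.W_le_Q_nbr (by omega) hB (C.symm hμ) hx).2 _ h01
  by_cases hA' : C.BackA p μ
  · obtain ⟨o, hadj, hm⟩ := C.BackA_CP hp (by omega) hμ hA'
    obtain ⟨n, hn⟩ : ∃ n, C.bb = n + 2 := ⟨C.bb - 2, by omega⟩
    have hmb : cons o (cons μ p) C.bb = p n := by rw [hn]; simp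
    obtain ⟨s, hs, hsQ⟩ := SetLike.not_le_iff_exists.1 hm.2.2
    obtain ⟨ν', hν', hν'Q⟩ := C.exists_far hm (by omega) ho
    obtain ⟨t', ht', ht'Q⟩ := SetLike.not_le_iff_exists.1 hν'Q
    obtain ⟨e12, r1, -⟩ := C.IsR_ends hm (by omega) ho hν' hs hsQ ht' ht'Q
    simp only [cons_succ, cons_zero] at hs r1 e12
    obtain ⟨a, ha, ha'⟩ := C.exists_Z_not_cB hμ hA
    have i1 := r1 a ha ha'
    set e := s * (t' * s * t'⁻¹) with he
    have hBn : ¬ C.A (p n) := hmb ▸ C.CP_end_not_A hm ho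
    have hsfix : s • p n = p n := hmb ▸ C.CP_le_St hm (Nat.zero_le _) le_rfl Even.zero hs
    have het : t * e = e * t := by
      have hW : e ∈ C.W (p n) := by
        rw [e12]
        have ht'' := C.Z_le_W (hmb ▸ hν') ht'
        exact mul_mem (C.conj_W hBn hsfix ht'') ht''
      have : C.W (p n) ≤ Subgroup.centralizer {t} := iSup₂_le fun o' ho' z hz => by
        rw [Subgroup.mem_centralizer_singleton_iff]
        have hA'' := C.A_of_not (C.symm ho') hBn
        have hw : C.IsW 4 (cons ν (fun i => if i ≤ 2 then p (C.bb - i) else o')) := by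
          refine C.isW_cons (by simpa using C.symm hν) fun i hi => ?_
          rcases (by omega : i ≤ 1 ∨ i = 2) with h | rfl
          · simp only [if_pos (by omega : i ≤ 2), if_pos (by omega : i + 1 ≤ 2)]
            exact C.isW_rev hp.1 i (by omega)
          · simpa [show C.bb - 2 = n by omega] using ho'
        have h4 := C.le_Q_walk hw (by simpa using C.far_A hp ho hν) (by omega)
          (by simpa using ht)
        simp only [cons_succ, show ¬ (3 ≤ 2) by omega, if_false] at h4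
        exact (C.Z_comm_Q hA'' h4 hz).symm
      exact (Subgroup.mem_centralizer_singleton_iff.1 (this hW)).symm
    have he0 := C.IsR_mul hp (by omega) ho hB i1 h
    set e0 := e * a * r with he0'
    have hr : r = e * (a * e0) := by
      have : e * a * (e * a * r) = r := by rw [← mul_assoc, C.IsR_sq (by omega) hB i1, one_mul]
      conv_lhs => rw [← this]
      rw [← he0', mul_assoc]
    have haE : a * e0 ∈ C.Z (p 0) := mul_mem ha (C.cB_le_Z hμ he0)
    have heW : e ∈ C.W μ := by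
      have := mul_mem (C.IsR_mem_W i1) (inv_mem (C.Z_le_W (C.symm hμ) ha))
      rwa [mul_inv_cancel_right] at this
    rw [hr]
    generalize a * e0 = a' at haE
    rw [show t * (e * a') * t⁻¹ * (e * a')⁻¹ = (t * e) * (a' * t⁻¹ * a'⁻¹) * e⁻¹ by group, het,
      show e * t * (a' * t⁻¹ * a'⁻¹) * e⁻¹ = e * (t * a' * t⁻¹ * a'⁻¹) * e⁻¹ by group]
    have hW0 := C.Z_le_W (C.symm h01) haE
    exact C.conj_W hβ (hfix e heW) (mul_mem
      (C.conj_W hβ (C.far_le_St hp ho hν le_rfl (by omega) ht) hW0) (inv_mem hW0))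
  · have hm : ¬ C.MovA := fun hm => hA' (C.BackA_of_MovA hp (by omega) ho hm hμ hne)
    have hC := (C.back_dichotomy hp hb ho hm hμ).resolve_left hA'
    obtain ⟨a, b, c, x, y, w, ha, hb', hc, -, -, -, hx, -, hy, -, hw, -, rfl⟩ := h
    have k1 := hC a ha x hx ν hν t ht htQ
    have k2 := hC b hb' y hy ν hν t ht htQ
    have k3 := hC c hc w hw ν hν t ht htQ
    have fx := hfix x (C.Z_le_W ha hx)
    have fxy := hfix (x * y) (mul_mem (C.Z_le_W ha hx) (C.Z_le_W hb' hy))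
    rw [show t * (x * y * w) * t⁻¹ * (x * y * w)⁻¹ = (t * x * t⁻¹ * x⁻¹) *
      (x * (t * y * t⁻¹ * y⁻¹) * x⁻¹) * (x * y * (t * w * t⁻¹ * w⁻¹) * (x * y)⁻¹) by group]
    exact mul_mem (mul_mem k1 (C.conj_W hβ fx k2)) (C.conj_W hβ fxy k3)

/-- The module at `β` together with the products of representatives around `α`. -/
def TT (a β : V) : Subgroup X := C.W β ⊔ Subgroup.closure {r | ∃ w, C.Adj a w ∧ C.IsR w r}

theorem smul_TT {a β : V} (hA : C.A a) (hB : ¬ C.A β) {g x : X} (hx : x ∈ C.TT a β) :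
    g * x * g⁻¹ ∈ C.TT (g • a) (g • β) := by
  have : C.TT a β ≤ (C.TT (g • a) (g • β)).comap (MulAut.conj g).toMonoidHom := by
    refine sup_le (fun y hy => le_sup_left (b := Subgroup.closure _) (C.smul_W hB hy)) ?_
    rw [Subgroup.closure_le]
    rintro y ⟨w, hw, hr⟩
    exact le_sup_right (a := C.W _)
      (Subgroup.subset_closure ⟨g • w, C.smul_adj g hw, C.smul_IsR (C.not_A hw hA) hr⟩)
  exact this hx

theorem not_Dim_impossible (hp : C.CP p) (hb : 5 ≤ C.bb) (ho : Odd C.bb) (hd : ¬ C.Dim) : False := by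
  have h3 : 3 ≤ C.bb := by omega
  have h01 : C.Adj (p 0) (p 1) := C.CP_adj hp (by omega)
  have h12 : C.Adj (p 1) (p 2) := C.CP_adj hp (by omega)
  have hA := hp.2.1
  have hβ := C.not_A h01 hA
  have hA2 : C.A (p 2) := (C.CP_A hp (by omega)).2 even_two
  obtain ⟨ν, hν, hνQ⟩ := C.exists_far hp h3 ho
  obtain ⟨t, ht, htQ⟩ := SetLike.not_le_iff_exists.1 hνQ
  have ht1 : t • p 1 = p 1 := C.far_le_St hp ho hν le_rfl (by omega) ht
  obtain ⟨tne, tne2, tadj, -⟩ := C.moves h12 (C.symm h01) (fun e => C.CP_nb hp 0 (by omega) e.symm)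
    ⟨ht1, C.far_le_St hp ho hν (by omega) (by omega) ht⟩ htQ
  have hTQ : C.TT (p 0) (p 1) ≤ C.Q (p 0) := by
    refine sup_le (C.W_le_Q_nbr h3 hβ (C.symm h01)) ?_
    rw [Subgroup.closure_le]
    rintro r ⟨w, hw, hr⟩
    exact C.W_le_Q_nbr h3 (C.not_A hw hA) (C.symm hw) (C.IsR_mem_W hr)
  haveI := C.finite_le (hTQ.trans (C.Q_le_St _))
  have hWT : C.W (p 1) ≤ C.TT (p 0) (p 1) := le_sup_left
  have hnE : ∀ g : X, g • p 0 = p 0 → g • p 1 = p 1 →
      g ∈ Subgroup.normalizer (C.TT (p 0) (p 1) : Set X) := fun g g0 g1 => by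
    refine mem_normalizer_finite fun x hx => ?_
    simpa [g0, g1] using C.smul_TT hA hβ (g := g) hx
  have htn : t ∈ Subgroup.normalizer (C.TT (p 0) (p 1) : Set X) := by
    refine mem_normalizer_finite fun x hx => ?_
    have : C.TT (p 0) (p 1) ≤ (C.TT (p 0) (p 1)).comap (MulAut.conj t).toMonoidHom := by
      refine sup_le (fun y hy => hWT (C.conj_W hβ ht1 hy)) ?_
      rw [Subgroup.closure_le]
      rintro y ⟨w, hw, hr⟩
      show t * y * t⁻¹ ∈ C.TT (p 0) (p 1)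
      by_cases hw1 : w = p 1
      · exact hWT (C.conj_W hβ ht1 (hw1 ▸ C.IsR_mem_W hr))
      rw [exists_move]
      exact mul_mem (hWT (C.conj_R hp hb ho hw hw1 hr hν ht htQ))
        (le_sup_right (a := C.W _) (Subgroup.subset_closure ⟨w, hw, hr⟩))
    exact this hx
  have hnβ : St (p 1) ≤ Subgroup.normalizer (C.TT (p 0) (p 1) : Set X) :=
    C.St_le (C.symm h01) (fun e he => hnE e he.2 he.1) htn ht1 tne
  have hWq : ∀ q ∈ C.Q (p 1), ∀ v ∈ C.W (p 1), q * v * q⁻¹ * v⁻¹ ∈ C.cB (p 1) := by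
    intro q hq v hv
    have hle : C.W (p 1) ≤
        { carrier := {v | v • p 1 = p 1 ∧ q * v * q⁻¹ * v⁻¹ ∈ C.cB (p 1)}
          one_mem' := ⟨one_smul _ _, by simp⟩
          mul_mem' := by
            rintro x y ⟨hx, hx'⟩ ⟨hy, hy'⟩
            refine ⟨by rw [mul_smul, hy, hx], ?_⟩
            rw [show q * (x * y) * q⁻¹ * (x * y)⁻¹ =
              q * x * q⁻¹ * x⁻¹ * (x * (q * y * q⁻¹ * y⁻¹) * x⁻¹) by group, C.cB_comm hy' hx,
              mul_inv_cancel_right]
            exact mul_mem hx' hy'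
          inv_mem' := by
            rintro x ⟨hx, hx'⟩
            refine ⟨inv_smul_eq_iff.2 hx.symm, ?_⟩
            rw [show q * x⁻¹ * q⁻¹ * x⁻¹⁻¹ = x⁻¹ * (q * x * q⁻¹ * x⁻¹)⁻¹ * x by group,
              C.cB_comm (inv_mem hx') (inv_smul_eq_iff.2 hx.symm), inv_mul_cancel_right]
            exact inv_mem hx' : Subgroup X } :=
      iSup₂_le fun o ho' x hx => by
        have hoA := C.A_of_not (C.symm ho') hβ
        refine ⟨(C.Z_le_Q hoA hx).2 _ (C.symm ho'), ?_⟩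
        have h1 := C.mul_conj_mem (C.symm ho') hoA hx (g := q) (Ed_swap (C.Q_le_Ed ho' hq))
        have h2 : q * x * q⁻¹ * x⁻¹ = x * (q * x * q⁻¹) := by
          rw [C.Z_inv hoA hx, C.Z_comm hoA (C.conj_Z hoA (hq.2 o ho') hx) hx]
        exact h2 ▸ h1
    exact (hle hv).2
  obtain ⟨μ, δ, hμ, hδ, hμ1, hδ1, hμδ⟩ := C.exists_others h01
  obtain ⟨r, hr⟩ := C.exists_IsR (C.not_A hμ hA)
  obtain ⟨r', hr'⟩ := C.exists_IsR (C.not_A hδ hA)
  have main : ∀ o, C.Adj (p 1) o → o ≠ p 0 →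
      ∃ a ∈ C.Z (p 0), ∃ e ∈ C.Z o, r * r' = a * e := by
    intro o ho' hne
    have hoA := C.A_of_not (C.symm ho') hβ
    obtain ⟨q, hq, hqo, hq0⟩ := C.mover_B hp h3 ho h01 hA ho' hne
    have hq0' : q • p 0 = p 0 := hq.2 _ (C.symm h01)
    obtain ⟨m1, m2, m3, -⟩ := C.moves h01 hμ hμ1 ⟨hq0', hq.1⟩ hq0
    have hqμ : q • μ = δ := by
      rcases C.three h01 hμ hδ m3 hμ1 hδ1 hμδ with e | e | e
      · exact absurd e m2
      · exact absurd e m1
      · exact e
    have hqr : C.IsR δ (q * r * q⁻¹) := hqμ ▸ C.smul_IsR (C.not_A hμ hA) hr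
    have hd' := C.IsR_mul hp h3 ho (C.not_A hδ hA) hqr hr'
    obtain ⟨g, g0, g1⟩ := C.edge h01 (C.symm ho') (iff_of_true hA hoA)
    have hgn := hnβ (show g ∈ St (p 1) from g1)
    have hqT : ∀ x ∈ C.TT (p 0) (p 1), q * x * q⁻¹ * x⁻¹ ∈ C.W (p 1) := by
      intro x hx
      have hTo : C.TT o (p 1) ≤
          { carrier := {v | v • p 1 = p 1 ∧ q * v * q⁻¹ * v⁻¹ ∈ C.W (p 1)}
            one_mem' := ⟨one_smul _ _, by simp⟩
            mul_mem' := by
              rintro x y ⟨hx, hx'⟩ ⟨hy, hy'⟩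
              refine ⟨by rw [mul_smul, hy, hx], ?_⟩
              rw [show q * (x * y) * q⁻¹ * (x * y)⁻¹ =
                q * x * q⁻¹ * x⁻¹ * (x * (q * y * q⁻¹ * y⁻¹) * x⁻¹) by group]
              exact mul_mem hx' (C.conj_W hβ hx hy')
            inv_mem' := by
              rintro x ⟨hx, hx'⟩
              have hxi := inv_smul_eq_iff.2 hx.symm
              refine ⟨hxi, ?_⟩
              rw [show q * x⁻¹ * q⁻¹ * x⁻¹⁻¹ =
                x⁻¹ * (q * x * q⁻¹ * x⁻¹)⁻¹ * x⁻¹⁻¹ by group]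
              exact C.conj_W hβ hxi (inv_mem hx') : Subgroup X } := by
        refine sup_le (fun v hv => ⟨(C.W_le_Q (by omega) hβ hv).1,
          mul_mem (C.conj_W hβ hq.1 hv) (inv_mem hv)⟩) ?_
        rw [Subgroup.closure_le]
        rintro v ⟨w, hw, hv⟩
        refine ⟨(C.W_le_Q_nbr h3 (C.not_A hw hoA) (C.symm hw) (C.IsR_mem_W hv)).2 _ (C.symm ho'), ?_⟩
        obtain ⟨e, he, hee⟩ := C.IsR_conj hp h3 ho (C.not_A hw hoA) hv (hqo.2 w hw)
        rw [hee, C.cB_comm he (C.W_le_Q (by omega) (C.not_A hw hoA) (C.IsR_mem_W hv)).1,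
          mul_inv_cancel_right]
        exact C.Z_le_W ho' (C.cB_le_Z hw he)
      have h1 : g⁻¹ * x * g ∈ C.TT (p 0) (p 1) := by
        have := (Subgroup.mem_normalizer_iff.1 (inv_mem hgn) x).1 hx
        simpa using this
      have h2 := C.smul_TT hA hβ (g := g) h1
      rw [g0, g1, show g * (g⁻¹ * x * g) * g⁻¹ = x by group] at h2
      exact (hTo h2).2
    have hrT : r ∈ C.TT (p 0) (p 1) :=
      le_sup_right (a := C.W _) (Subgroup.subset_closure ⟨μ, hμ, hr⟩)
    have hrr : r * r = 1 := C.IsR_sq h3 (C.not_A hμ hA) hr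
    have hri : r⁻¹ = r := inv_eq_of_mul_eq_one_right hrr
    have hr1 : r • p 1 = p 1 := (hTQ hrT).2 _ h01
    by_cases hrW : r ∈ C.W (p 1)
    · refine ⟨r * (q * r * q⁻¹) * (q * r * q⁻¹ * r'), ?_, 1, one_mem _, ?_⟩
      · have h1 : r * (q * r * q⁻¹) ∈ C.cB (p 1) := by
          have h0 := hWq q hq r hrW
          rw [hri] at h0
          have h2 : r * (q * r * q⁻¹) = r * (q * r * q⁻¹ * r) * r⁻¹ := by group
          rw [h2, C.cB_comm h0 hr1, mul_inv_cancel_right]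
          exact h0
        exact mul_mem (C.cB_le_Z h01 h1) (C.cB_le_Z hδ hd')
      · have hq2 := C.IsR_sq h3 (C.not_A hδ hA) hqr
        generalize q * r * q⁻¹ = u at hq2
        rw [mul_one, mul_assoc, ← mul_assoc u, hq2, one_mul]
    set w := g • μ with hw'
    have hwo : C.Adj o w := g0 ▸ C.smul_adj g hμ
    set r3 := g * r * g⁻¹ with hr3'
    have hr3 : C.IsR w r3 := C.smul_IsR (C.not_A hμ hA) hr
    have hwB := C.not_A hwo hoA
    have hr3T : r3 ∈ C.TT (p 0) (p 1) := (Subgroup.mem_normalizer_iff.1 hgn r).1 hrT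
    have hr3W : r3 ∉ C.W (p 1) := fun e => hrW (by
      have := C.conj_W hβ (inv_smul_eq_iff.2 g1.symm) e
      simpa [hr3', mul_assoc] using this)
    have hT2 : C.TT (p 0) (p 1) ≤
        { carrier := {v | v • p 1 = p 1 ∧ (v ∈ C.W (p 1) ∨ r * v ∈ C.W (p 1))}
          one_mem' := ⟨one_smul _ _, Or.inl (one_mem _)⟩
          mul_mem' := by
            rintro x y ⟨hx, hx'⟩ ⟨hy, hy'⟩
            refine ⟨by rw [mul_smul, hy, hx], ?_⟩
            rcases hx' with hx' | hx' <;> rcases hy' with hy' | hy'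
            · exact Or.inl (mul_mem hx' hy')
            · right
              rw [show r * (x * y) = r * x * r⁻¹ * (r * y) by group]
              exact mul_mem (C.conj_W hβ hr1 hx') hy'
            · right
              rw [← mul_assoc]
              exact mul_mem hx' hy'
            · left
              rw [show x * y = r * (r * x) * r⁻¹ * (r * y) by rw [← mul_assoc r r, hrr]; group]
              exact mul_mem (C.conj_W hβ hr1 hx') hy'
          inv_mem' := by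
            rintro x ⟨hx, hx'⟩
            refine ⟨inv_smul_eq_iff.2 hx.symm, ?_⟩
            rcases hx' with hx' | hx'
            · exact Or.inl (inv_mem hx')
            · right
              rw [show r * x⁻¹ = r * (r * x)⁻¹ * r⁻¹ * (r * r) by group, hrr, mul_one]
              exact C.conj_W hβ hr1 (inv_mem hx') : Subgroup X } := by
      refine sup_le (fun v hv => ⟨(C.W_le_Q (by omega) hβ hv).1, Or.inl hv⟩) ?_
      rw [Subgroup.closure_le]
      rintro v ⟨u, hu, hv⟩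
      refine ⟨(C.W_le_Q_nbr h3 (C.not_A hu hA) (C.symm hu) (C.IsR_mem_W hv)).2 _ h01, ?_⟩
      rcases C.three h01 hμ hδ hu hμ1 hδ1 hμδ with rfl | rfl | rfl
      · exact Or.inl (C.IsR_mem_W hv)
      · exact Or.inr (C.Z_le_W (C.symm h01)
          (C.cB_le_Z hμ (C.IsR_mul hp h3 ho (C.not_A hμ hA) hr hv)))
      · right
        have h1 := hqT r hrT
        have h2 := C.Z_le_W (C.symm h01) (C.cB_le_Z hδ (C.IsR_mul hp h3 ho (C.not_A hδ hA) hqr hv))
        have h3' : r * v = r * (q * r * q⁻¹ * r⁻¹) * r⁻¹ * (r * r) * (q * r * q⁻¹ * v) *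
            1 := by
          have hq2 := C.IsR_sq h3 (C.not_A hδ hA) hqr
          generalize q * r * q⁻¹ = u at hq2
          calc r * v = r * (u * u) * v := by rw [hq2, mul_one]
            _ = r * (u * r⁻¹) * r⁻¹ * (r * r) * (u * v) * 1 := by group
        rw [h3', hrr, mul_one, mul_one]
        exact mul_mem (C.conj_W hβ hr1 h1) h2
    have hv : r * r3 ∈ C.W (p 1) := (hT2 hr3T).2.resolve_left hr3W
    have hc := hWq q hq _ hv
    obtain ⟨e, he, hee⟩ := C.IsR_conj hp h3 ho hwB hr3 (hqo.2 w hwo)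
    have hr31 : r3 • p 1 = p 1 := (hTQ hr3T).2 _ h01
    have hr3w : r3 • w = w := (C.W_le_Q (by omega) hwB (C.IsR_mem_W hr3)).1
    have key : r * (q * r * q⁻¹) = q * (r * r3) * q⁻¹ * (r * r3)⁻¹ * e⁻¹ := by
      have h1 : q * r * q⁻¹ = q * (r * r3) * q⁻¹ * (r3 * e)⁻¹ := by
        rw [← hee]; group
      rw [h1]
      calc r * (q * (r * r3) * q⁻¹ * (r3 * e)⁻¹)
          = r * (q * (r * r3) * q⁻¹ * (r * r3)⁻¹) * r * (r3 * e⁻¹ * r3⁻¹) := by group
        _ = q * (r * r3) * q⁻¹ * (r * r3)⁻¹ * (r * r) * e⁻¹ := by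
          rw [C.cB_comm (inv_mem he) hr3w, C.cB_comm hc hr1]; group
        _ = _ := by rw [hrr, mul_one]
    set c := q * (r * r3) * q⁻¹ * (r * r3)⁻¹
    refine ⟨c * (q * r * q⁻¹ * r'), mul_mem (C.cB_le_Z h01 hc) (C.cB_le_Z hδ hd'), e⁻¹,
      C.cB_le_Z hwo (inv_mem he), ?_⟩
    have hq2 := C.IsR_sq h3 (C.not_A hδ hA) hqr
    have hcomm := C.W_comm h3 hβ (C.Z_le_W ho' (C.cB_le_Z hwo (inv_mem he)))
      (C.Z_le_W (C.symm h01) (C.cB_le_Z hδ hd'))
    generalize q * r * q⁻¹ = u at key hq2 hcomm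
    calc r * r' = r * (u * u) * r' := by rw [hq2, mul_one]
      _ = r * u * (u * r') := by group
      _ = c * (e⁻¹ * (u * r')) := by rw [key]; group
      _ = c * (u * r') * e⁻¹ := by rw [hcomm]; group
  obtain ⟨a1, ha1, e1, he1, h1⟩ := main (p 2) h12 (C.CP_nb hp 0 (by omega))
  obtain ⟨a2, ha2, e2, he2, h2⟩ := main _ tadj tne
  have hne0 : p 2 ≠ p 0 := C.CP_nb hp 0 (by omega)
  have hγA : C.A (t • p 0) := (C.smul_A t _).2 hA
  by_cases he1' : e1 ∈ C.cB (p 1)
  · exact C.R_absurd hp h3 ho hd hA hμ hδ hμδ hr hr' (h1 ▸ mul_mem ha1 (C.cB_le_Z h01 he1'))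
  by_cases he2' : e2 ∈ C.cB (p 1)
  · exact C.R_absurd hp h3 ho hd hA hμ hδ hμδ hr hr' (h2 ▸ mul_mem ha2 (C.cB_le_Z h01 he2'))
  have hx : e1 * e2 ∈ C.Z (p 0) := by
    have h := mul_mem (inv_mem ha1) ha2
    have e : e1 * e2 = a1⁻¹ * a2 := by
      calc e1 * e2 = a1⁻¹ * (a1 * e1) * e2 := by group
        _ = a1⁻¹ * (a2 * e2) * e2 := by rw [← h1, h2]
        _ = a1⁻¹ * a2 * (e2 * e2) := by group
        _ = a1⁻¹ * a2 := by rw [C.Z_sq hγA he2, mul_one]
    exact e ▸ h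
  by_cases hxc : e1 * e2 ∈ C.cB (p 1)
  · refine he1' (C.Z_inter hp h3 ho (C.symm h12) hA2 tadj tne2 he1 ?_)
    have := mul_mem (C.cB_le_Z (C.symm tadj) hxc) (inv_mem he2)
    rwa [mul_inv_cancel_right] at this
  refine hd ⟨p 1, hβ, e1 * e2 * e2 * e1, ⟨p 0, t • p 0, p 2, e1 * e2, e2, e1, C.symm h01, tadj, h12,
    tne, hne0, tne2, hx, hxc, he2, he2', he1, he1', rfl⟩, ?_⟩
  rw [mul_assoc e1 e2 e2, C.Z_sq hγA he2, mul_one, C.Z_sq hA2 he1]
  exact one_mem _

theorem Dim_e (hp : C.CP p) (hb : 3 ≤ C.bb) (ho : Odd C.bb) (hd : C.Dim) {ν : V}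
    (hν : C.Adj (p C.bb) ν) {s t : X} (hs : s ∈ C.Z (p 0)) (hsQ : s ∉ C.Q (p C.bb))
    (ht : t ∈ C.Z ν) (htQ : t ∉ C.Q (p 1)) :
    s * (t * s * t⁻¹) ∈ C.Z (p 2) ∧ s * (t * s * t⁻¹) ∉ C.cB (p 1) ∧
      s * (t * s * t⁻¹) ∈ C.Z (p (C.bb - 1)) := by
  obtain ⟨e12, r1, r3⟩ := C.IsR_ends hp hb ho hν hs hsQ ht htQ
  have h12 : C.Adj (p 1) (p 2) := C.CP_adj hp (by omega)
  have hA2 : C.A (p 2) := (C.CP_A hp (by omega)).2 even_two
  have hlast := C.CP_adj_last hp hb
  have hAl : C.A (p (C.bb - 1)) := (C.CP_A hp (Nat.sub_le _ _)).2 (C.even_pred ho)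
  obtain ⟨b, hb2, hb'⟩ := C.exists_Z_not_cB (C.symm h12) hA2
  obtain ⟨b', hb2', hb''⟩ := C.exists_Z_not_cB (C.symm hlast) hAl
  have d1 := C.Dim_mem hp hb ho hd (C.not_A (C.symm h12) hA2) (r1 b hb2 hb')
  have d3 := C.Dim_mem hp hb ho hd (C.CP_end_not_A hp ho) (r3 b' hb2' hb'')
  generalize he : s * (t * s * t⁻¹) = e at *
  refine ⟨?_, fun e' => hb' ?_, ?_⟩
  · simpa using mul_mem (C.cB_le_Z (C.symm h12) d1) (inv_mem hb2)
  · simpa using mul_mem (inv_mem e') d1
  · rw [← e12] at d3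
    simpa using mul_mem (C.cB_le_Z (C.symm hlast) d3) (inv_mem hb2')

theorem Dim_cB_le (hp : C.CP p) (hb : 5 ≤ C.bb) (ho : Odd C.bb) (hd : C.Dim) :
    C.cB (p 1) ≤ C.Z (p (C.bb - 3)) := by
  obtain ⟨μ, o, hμ, -, hadj, hm⟩ := C.exists_pred hp hb ho
  obtain ⟨n, hn⟩ : ∃ n, C.bb = n + 3 := ⟨C.bb - 3, by omega⟩
  obtain ⟨s, hs, hsQ⟩ := SetLike.not_le_iff_exists.1 hm.2.2
  obtain ⟨ν, hν, hνQ⟩ := C.exists_far hm (by omega) ho
  obtain ⟨t, ht, htQ⟩ := SetLike.not_le_iff_exists.1 hνQ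
  obtain ⟨f1, f2, f3⟩ := C.Dim_e hm (by omega) ho hd hν hs hsQ ht htQ
  simp only [cons_succ, cons_zero, show C.bb - 1 = n + 1 + 1 by omega] at f1 f2 f3
  rw [show C.bb - 3 = n by omega]
  have hev : Even n := by
    have := C.even_pred ho
    rw [show C.bb - 1 = n + 2 by omega, Nat.even_add] at this
    simpa using this
  generalize s * (t * s * t⁻¹) = f at f1 f2 f3
  have h01 : C.Adj (p 0) (p 1) := C.CP_adj hp (by omega)
  have k := C.card_cB_odd hp (by omega) ho h01 hp.2.1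
  have hfQ := C.CP_le_Q hp (i := n) (j := C.bb) (by omega) le_rfl hev (by omega) f3
  have hfc := C.comm_self hp (by omega) k f1 hfQ
  intro z hz
  by_cases hz1 : z = 1
  · exact hz1 ▸ one_mem _
  exact eq_of_card_two k hfc hz (fun e => f2 (e ▸ one_mem _)) hz1 ▸ f3

theorem Dim_lt_seven (hp : C.CP p) (hb : 7 ≤ C.bb) (ho : Odd C.bb) (hd : C.Dim) : False := by
  obtain ⟨μ, o, hμ, hμ1, hadj, hm⟩ := C.exists_pred hp (by omega) ho
  have h := C.Dim_cB_le hm (by omega) ho hd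
  obtain ⟨n, hn⟩ : ∃ n, C.bb = n + 5 := ⟨C.bb - 5, by omega⟩
  simp only [cons_succ, cons_zero, show C.bb - 3 = n + 1 + 1 by omega] at h
  have hev : Even n := by
    have := C.even_pred ho
    rw [show C.bb - 1 = n + 4 by omega, Nat.even_add] at this
    exact this.2 ⟨2, rfl⟩
  obtain ⟨z, hz, hz1⟩ := (Subgroup.bot_or_exists_ne_one _).resolve_left (C.cB_ne_bot hμ hp.2.1)
  have h01 : C.Adj (p 0) (p 1) := C.CP_adj hp (by omega)
  exact hz1 (C.cB_inf hμ h01 hμ1 hz (C.comm_self hp (by omega)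
    (C.card_cB_odd hp (by omega) ho h01 hp.2.1) (C.cB_le_Z hμ hz)
    (C.CP_le_Q hp (i := n) (j := C.bb) (by omega) le_rfl hev (by omega) (h hz))))

theorem exists_NB {a : V} : ∀ n, ∃ v : ℕ → V, v 0 = a ∧ C.IsW n v ∧ NB n v := by
  intro n
  induction n with
  | zero => exact ⟨fun _ => a, rfl, fun i hi => absurd hi (by omega), fun i hi => absurd hi (by omega)⟩
  | succ n ih =>
    obtain ⟨v, h0, hw, hnb⟩ := ih
    have : ∃ u, C.Adj (v n) u ∧ (1 ≤ n → u ≠ v (n - 1)) := by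
      rcases Nat.eq_zero_or_pos n with rfl | hn
      · obtain ⟨u, hu⟩ := C.exists_nbr (v 0)
        exact ⟨u, hu, fun h => absurd h (by omega)⟩
      · have := hw (n - 1) (by omega)
        rw [Nat.sub_add_cancel hn] at this
        obtain ⟨u, -, hu, -, hne, -, -⟩ := C.exists_others (C.symm this)
        exact ⟨u, hu, fun _ => hne⟩
    obtain ⟨u, hu, hne⟩ := this
    refine ⟨fun i => if i ≤ n then v i else u, by simpa using h0, fun i hi => ?_, fun i hi => ?_⟩
    · simp only [if_pos (by omega : i ≤ n)]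
      split_ifs with h
      · exact hw i (by omega)
      · obtain rfl : i = n := (by omega)
        exact hu
    · simp only [if_pos (by omega : i ≤ n)]
      split_ifs with h
      · exact hnb i h
      · rw [show i = n - 1 by omega]; exact hne (by omega)

theorem crit_five (hp : C.CP p) (h5 : C.bb = 5) {v : ℕ → V} (hv : C.IsW 5 v) (hnb : NB 5 v)
    (hA : C.A (v 0)) : C.CP v := by
  have hb : 3 ≤ C.bb := by omega
  have ho : Odd C.bb := ⟨2, by omega⟩
  have hm : C.MovA := by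
    obtain ⟨q, hq, hq2, hq0⟩ := C.mover_B hp hb ho (C.CP_adj hp (i := 0) (by omega)) hp.2.1
      (C.CP_adj hp (i := 1) (by omega)) (C.CP_nb hp 0 (by omega))
    refine ⟨fun i => p (3 - i), by rw [h5]; exact C.isW_rev (IsW.mono C hp.1 (by omega)),
      by rw [h5]; exact nb_rev (fun i hi => C.CP_nb hp i (by omega)),
      by simpa [h5] using hp.2.1, q, fun i hi => ?_, by simpa [h5] using hq0⟩
    rcases (by omega : 3 - i = 0 ∨ 3 - i = 1 ∨ 3 - i = 2 ∨ 3 - i = 3) with e | e | e | e <;>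
      simp only [e]
    · exact hq.2 _ (C.symm (C.CP_adj hp (i := 0) (by omega)))
    · exact hq.1
    · exact hq2.1
    · exact hq2.2 _ (C.CP_adj hp (by omega))
  have hA1 : C.A (p 1) ↔ C.A (v 1) :=
    iff_of_false (C.not_A (C.CP_adj hp (by omega)) hp.2.1) (C.not_A (hv 0 (by omega)) hA)
  obtain ⟨g, hg⟩ := C.tr_of_movA hp ho hm 4 (by omega) (fun i => p (i + 1)) (fun i => v (i + 1))
    (C.isW_shift hp.1 (by omega)) (nb_shift (C.CP_nb hp) (by omega)) (C.isW_shift hv (by omega))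
    (nb_shift hnb (by omega)) hA1
  have g1 : g • p 1 = v 1 := hg 0 (by omega)
  have g2 : g • p 2 = v 2 := hg 1 (by omega)
  have hμ : C.Adj (p 1) (g⁻¹ • v 0) := by
    have := C.smul_adj g⁻¹ (C.symm (hv 0 (by omega)))
    rwa [inv_smul_eq_iff.2 g1.symm] at this
  have hne : g⁻¹ • v 0 ≠ p 2 := fun e => hnb 0 (by omega) (by
    rw [inv_smul_eq_iff.1 e]; exact g2.symm)
  refine C.CP_of_map (C.CP_near hp hb ho hμ hne) g fun i hi => ?_
  rcases i with _ | i
  · simp
  · simpa using hg i (by omega)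

theorem eight (hp : C.CP p) (h5 : C.bb = 5) (hd : C.Dim) {v : ℕ → V} (hv : C.IsW 8 v)
    (hnb : NB 8 v) (hA : ¬ C.A (v 0)) {x t : X} (hx : x ∈ C.cB (v 0)) (hx1 : x ≠ 1)
    (ht : t ∈ C.cB (v 8)) (ht1 : t ≠ 1) :
    x * (t * x * t⁻¹) ∈ C.cB (v 4) ∧ x * (t * x * t⁻¹) ≠ 1 := by
  have hb : 3 ≤ C.bb := by omega
  have ho : Odd C.bb := ⟨2, by omega⟩
  have hA1 : C.A (v 1) := C.A_of_not (C.symm (hv 0 (by omega))) hA
  have hq : C.CP (fun i => v (i + 1)) :=
    C.crit_five hp h5 (C.isW_shift hv (by omega)) (nb_shift hnb (by omega)) hA1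
  have hν : C.Adj (v (C.bb + 1)) (v 7) := by rw [h5]; exact hv 6 (by omega)
  have hne : v 7 ≠ v (C.bb - 1 + 1) := by rw [h5]; exact hnb 5 (by omega)
  have h01 : C.Adj (v 1) (v 0) := C.symm (hv 0 (by omega))
  have hxZ : x ∈ C.Z (v 1) := C.cB_le_Z h01 hx
  have kk : ∀ {a b : V}, C.Adj a b → C.A a → Nat.card ↥(C.cB b) = 2 := fun h h' =>
    C.card_cB_odd hp hb ho h h'
  have hxQ : x ∉ C.Q (v (C.bb + 1)) := fun e => hx1 (C.cB_inf h01 (hv 1 (by omega))
    (fun e' => hnb 0 (by omega) e'.symm) hx (C.comm_self hq hb (kk (hv 1 (by omega)) hA1) hxZ e))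
  have hA7 : C.A (v 7) := C.far_A hq ho hν
  have h78 : C.Adj (v 7) (v 8) := hv 7 (by omega)
  have h76 : C.Adj (v 7) (v 6) := C.symm (hv 6 (by omega))
  have htZ : t ∈ C.Z (v 7) := C.cB_le_Z h78 ht
  have htQ : t ∉ C.Q (v 2) := fun e => ht1 (C.cB_inf h78 h76 (hnb 6 (by omega)) ht (by
    have := C.comm_self (C.rev_CP hq hb ho hν hne) hb (x := t)
      (by simpa [h5, cons] using kk h76 hA7) (by simpa [cons] using htZ)
      (by simpa [h5, cons] using e)
    simpa [h5, cons] using this))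
  obtain ⟨e1, e2, e3⟩ := C.Dim_e hq hb ho hd hν hxZ hxQ htZ (by simpa using htQ)
  simp only [show C.bb - 1 + 1 = 5 by omega] at e3
  exact ⟨C.Z_inter hp hb ho (hv 3 (by omega)) ((C.A_iff_of_two (hv 1 (by omega)) (hv 2 (by omega))).1
      hA1) (hv 4 (by omega)) (hnb 3 (by omega)) e1 e3, fun e => e2 (e ▸ one_mem _)⟩

theorem Dim_not_five (hp : C.CP p) (h5 : C.bb = 5) (hd : C.Dim) : False := by
  have hb : 3 ≤ C.bb := by omega
  have ho : Odd C.bb := ⟨2, by omega⟩
  have hB : ¬ C.A (p 1) := C.not_A (C.CP_adj hp (by omega)) hp.2.1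
  obtain ⟨v, h0, hv, hnb⟩ := C.exists_NB (a := p 1) 10
  have hA0 : ¬ C.A (v 0) := h0 ▸ hB
  have hAi : ∀ i, i ≤ 10 → (C.A (v i) ↔ ¬ Even i) := fun i hi => by
    have := C.A_iff hv i hi; tauto
  have kk : ∀ {a b : V}, C.Adj a b → C.A a → Nat.card ↥(C.cB b) = 2 := fun h h' =>
    C.card_cB_odd hp hb ho h h'
  have hA1 : C.A (v 1) := (hAi 1 (by omega)).2 (by decide)
  have hA9 : C.A (v 9) := (hAi 9 (by omega)).2 (by decide)
  have h10 : C.Adj (v 1) (v 0) := C.symm (hv 0 (by omega))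
  have h910 : C.Adj (v 9) (v 10) := hv 9 (by omega)
  obtain ⟨x, hx, hx1⟩ := (Subgroup.bot_or_exists_ne_one _).resolve_left (C.cB_ne_bot h10 hA1)
  obtain ⟨t, ht, ht1⟩ := (Subgroup.bot_or_exists_ne_one _).resolve_left (C.cB_ne_bot h910 hA9)
  have hxZ := C.cB_le_Z h10 hx
  have htZ := C.cB_le_Z h910 ht
  -- `x` fixes the first six vertices and moves the seventh
  have hq : C.CP (fun i => v (i + 1)) :=
    C.crit_five hp h5 (C.isW_shift hv (by omega)) (nb_shift hnb (by omega)) hA1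
  have hq' : C.CP (fun i => v (9 - i)) :=
    C.crit_five hp h5 (IsW.mono C (C.isW_rev (IsW.mono C hv (by omega : 9 ≤ 10))) (by omega))
      (fun i hi => nb_rev (n := 9) (fun j hj => hnb j (by omega)) i (by omega)) (by simpa using hA9)
  have hxfix : ∀ i, i ≤ 6 → x • v i = v i := fun i hi => by
    rcases i with _ | i
    · exact hx.1.1
    · exact C.CP_le_St hq (i := 0) (j := i) (by omega) (by omega) Even.zero hxZ
  have htfix : ∀ i, 4 ≤ i → i ≤ 10 → t • v i = v i := fun i hi hi' => by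
    rcases (by omega : i = 10 ∨ i ≤ 9) with rfl | h
    · exact ht.1.1
    · have := C.CP_le_St hq' (i := 0) (j := 9 - i) (by omega) (by omega) Even.zero htZ
      simpa [show 9 - (9 - i) = i by omega] using this
  have hxQ : x ∉ C.Q (v 6) := fun e => hx1 (C.cB_inf h10 (hv 1 (by omega))
    (fun e' => hnb 0 (by omega) e'.symm) hx (C.comm_self hq hb (kk (hv 1 (by omega)) hA1) hxZ
      (by simpa [h5] using e)))
  have htQ : t ∉ C.Q (v 4) := fun e => ht1 (C.cB_inf h910 (C.symm (hv 8 (by omega)))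
    (hnb 8 (by omega)) ht (C.comm_self hq' hb (kk (C.symm (hv 8 (by omega))) hA9) htZ
      (by simpa [h5] using e)))
  have hx7 : x • v 7 ≠ v 7 := (C.moves (C.symm (hv 5 (by omega))) (hv 6 (by omega))
    (hnb 5 (by omega)) ⟨hxfix 6 le_rfl, hxfix 5 (by omega)⟩ hxQ).1
  have ht3 : t • v 3 ≠ v 3 := (C.moves (hv 4 (by omega)) (C.symm (hv 3 (by omega)))
    (fun e => hnb 3 (by omega) e.symm) ⟨htfix 4 le_rfl (by omega), htfix 5 (by omega) (by omega)⟩
    htQ).1
  have htxt : t * x * t⁻¹ ∈ C.cB (t • v 0) := C.smul_cB hx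
  have hxtx : x * t * x⁻¹ ∈ C.cB (x • v 10) := C.smul_cB ht
  have ne1 : ∀ {a b : X}, b ≠ 1 → a * b * a⁻¹ ≠ 1 := fun {a b} hb' e => hb' (by
    have := congrArg (fun z => a⁻¹ * z * a) e
    simpa [mul_assoc] using this)
  have tf4 := htfix 4 le_rfl (by omega)
  have xf6 := hxfix 6 le_rfl
  have E1 := C.eight hp h5 hd (v := fun i => if i ≤ 4 then v i else t • v (8 - i))
    (fun i hi => by
      rcases (by omega : i + 1 ≤ 4 ∨ i = 4 ∨ 5 ≤ i) with h | rfl | h
      · simp only [if_pos (by omega : i ≤ 4), if_pos h]; exact hv i (by omega)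
      · simp only [le_refl, if_true, show ¬ (4 + 1 ≤ 4) by omega, if_false]
        rw [← tf4]; exact C.smul_adj t (C.symm (hv 3 (by omega)))
      · simp only [if_neg (by omega : ¬ i ≤ 4), if_neg (by omega : ¬ i + 1 ≤ 4)]
        refine C.smul_adj t ?_
        have := hv (8 - (i + 1)) (by omega)
        rw [show 8 - (i + 1) + 1 = 8 - i by omega] at this
        exact C.symm this)
    (fun i hi => by
      rcases (by omega : i + 2 ≤ 4 ∨ i = 3 ∨ i = 4 ∨ 5 ≤ i) with h | rfl | rfl | h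
      · simp only [if_pos (by omega : i ≤ 4), if_pos h]; exact hnb i (by omega)
      · simpa using ht3
      · simp only [le_refl, if_true, show ¬ (4 + 2 ≤ 4) by omega, if_false]
        intro e
        exact hnb 2 (by omega) (MulAction.injective t (e.trans tf4.symm)).symm
      · simp only [if_neg (by omega : ¬ i ≤ 4), if_neg (by omega : ¬ i + 2 ≤ 4)]
        intro e
        have := hnb (8 - (i + 2)) (by omega)
        rw [show 8 - (i + 2) + 2 = 8 - i by omega] at this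
        exact this (MulAction.injective t e).symm)
    (by simpa using hA0) (x := x) (t := t * x * t⁻¹) (by simpa using hx) hx1
    (by simpa using htxt) (ne1 hx1)
  have E2 := C.eight hp h5 hd (v := fun i => if i ≤ 4 then v (10 - i) else x • v (i + 2))
    (fun i hi => by
      rcases (by omega : i + 1 ≤ 4 ∨ i = 4 ∨ 5 ≤ i) with h | rfl | h
      · simp only [if_pos (by omega : i ≤ 4), if_pos h]
        have := hv (10 - (i + 1)) (by omega)
        rw [show 10 - (i + 1) + 1 = 10 - i by omega] at this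
        exact C.symm this
      · simp only [le_refl, if_true, show ¬ (4 + 1 ≤ 4) by omega, if_false]
        show C.Adj (v 6) (x • v 7)
        rw [← xf6]; exact C.smul_adj x (hv 6 (by omega))
      · simp only [if_neg (by omega : ¬ i ≤ 4), if_neg (by omega : ¬ i + 1 ≤ 4)]
        rw [show i + 1 + 2 = i + 2 + 1 by omega]
        exact C.smul_adj x (hv (i + 2) (by omega)))
    (fun i hi => by
      rcases (by omega : i + 2 ≤ 4 ∨ i = 3 ∨ i = 4 ∨ 5 ≤ i) with h | rfl | rfl | h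
      · simp only [if_pos (by omega : i ≤ 4), if_pos h]
        intro e
        have := hnb (10 - (i + 2)) (by omega)
        rw [show 10 - (i + 2) + 2 = 10 - i by omega] at this
        exact this e.symm
      · simpa using hx7
      · simp only [le_refl, if_true, show ¬ (4 + 2 ≤ 4) by omega, if_false]
        intro e
        exact hnb 6 (by omega) (MulAction.injective x (e.trans xf6.symm))
      · simp only [if_neg (by omega : ¬ i ≤ 4), if_neg (by omega : ¬ i + 2 ≤ 4)]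
        intro e
        exact hnb (i + 2) (by omega) (MulAction.injective x e))
    (by simpa using fun e => (hAi 10 le_rfl).1 e (by decide))
    (x := t) (t := x * t * x⁻¹) (by simpa using ht) ht1 (by simpa using hxtx) (ne1 ht1)
  simp only [le_refl, if_true] at E1 E2
  have hxi : x⁻¹ = x := inv_eq_of_mul_eq_one_right hx.2.1
  have hti : t⁻¹ = t := inv_eq_of_mul_eq_one_right ht.2.1
  have hinv : (x * (t * x * t⁻¹ * x * (t * x * t⁻¹)⁻¹))⁻¹ =
      t * (x * t * x⁻¹ * t * (x * t * x⁻¹)⁻¹) := by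
    simp only [mul_inv_rev, mul_assoc, hxi, hti]
  have h4 : t * (x * t * x⁻¹ * t * (x * t * x⁻¹)⁻¹) ∈ C.cB (v 4) := hinv ▸ inv_mem E1.1
  exact E2.2 (C.cB_inf (a := v 5) (C.symm (hv 4 (by omega))) (hv 5 (by omega))
    (fun e => hnb 4 (by omega) e.symm) h4 E2.1)

theorem bb_eq_three (hp : C.CP p) (hb : 3 ≤ C.bb) (ho : Odd C.bb) : C.bb = 3 := by
  by_contra hne
  have hb5 : 5 ≤ C.bb := by obtain ⟨m, hm⟩ := ho; omega
  by_cases hd : C.Dim
  · by_cases h5 : C.bb = 5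
    · exact C.Dim_not_five hp h5 hd
    · exact C.Dim_lt_seven hp (by obtain ⟨m, hm⟩ := ho; omega) ho hd
  · exact C.not_Dim_impossible hp hb5 ho hd

end Ctx

end CfsgLib.Goldschmidt
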