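import Mathlib
import Cfsg.Agent.Lib.Fitting.Basic
import Cfsg.Prelude.Def_Amalgam

/-!
The local facts on a finite subgroup whose quotient by its two-core is symmetric of degree three.
-/

set_option autoImplicit false
set_option linter.style.haveILetI false

namespace CfsgLib.Goldschmidt

variable {G : Type*} [Group G]

/-- The facts used on one of the two finite subgroups: `P` is a Sylow `2`-subgroup of index three in
`H`, with core `K` of index two in it. -/
structure Local (H P K : Subgroup G) : Prop where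
  le_P : K ≤ P
  P_le : P ≤ H
  normal : ∀ h ∈ H, ∀ x ∈ K, h * x * h⁻¹ ∈ K
  two : IsPGroup 2 P
  core : ∀ g : G, (∀ h ∈ H, h⁻¹ * g * h ∈ P) → g ∈ K
  card_P : Nat.card P = 2 * Nat.card K
  cover : ∃ d ∈ H, d ∉ P ∧ d * d ∉ P ∧ ∀ h ∈ H, h ∈ P ∨ d⁻¹ * h ∈ P ∨ (d * d)⁻¹ * h ∈ P

theorem Local.of_sylow (H P : Subgroup G) [Finite H] (hle : P ≤ H)
    (hP : ∃ S : Sylow 2 H, (S : Subgroup H) = P.subgroupOf H)
    (hS : Nonempty (H ⧸ Cfsg.pCore 2 H ≃* Equiv.Perm (Fin 3))) :
    Local H P (Cfsg.pCoreOf 2 H) ∧ Nat.card H = 6 * Nat.card ↥(Cfsg.pCoreOf 2 H) := by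
  obtain ⟨S, hSP⟩ := hP
  obtain ⟨e⟩ := hS
  set O := Cfsg.pCore 2 ↥H with hO
  have hOn : O.Normal := CfsgLib.Fitting.pCore_normal 2
  haveI := hOn
  have hcardO : Nat.card ↥(Cfsg.pCoreOf 2 H) = Nat.card O :=
    Nat.card_congr (Subgroup.equivMapOfInjective O H.subtype H.subtype_injective).toEquiv.symm
  have hcard : Nat.card H = 6 * Nat.card O := by
    rw [Subgroup.card_eq_card_quotient_mul_card_subgroup O, Nat.card_congr e.toEquiv, Nat.card_perm,
      Nat.card_fin]
    rfl
  obtain ⟨k, hk⟩ := IsPGroup.iff_card.mp (CfsgLib.Fitting.pCore_isPGroup (G := ↥H) 2)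
  rw [← hO] at hk
  have hf : (Nat.card H).factorization 2 = k + 1 := by
    rw [hcard, hk, show 6 * 2 ^ k = 3 * 2 ^ (k + 1) by ring,
      Nat.factorization_mul (by norm_num) (pow_ne_zero _ (by norm_num)),
      Nat.Prime.factorization_pow Nat.prime_two]
    simp [Nat.factorization_eq_zero_of_not_dvd]
  have hPcard : Nat.card P = 2 * Nat.card O := by
    rw [← Nat.card_congr (Subgroup.subgroupOfEquivOfLe hle).toEquiv, ← hSP,
      show Nat.card ↥(S : Subgroup H) = 2 ^ _ from Sylow.card_eq_multiplicity S, hf, hk, pow_succ,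
      mul_comm]
  have two : IsPGroup 2 P := IsPGroup.of_card (n := k + 1) (by rw [hPcard, hk, pow_succ, mul_comm])
  have hOle : Cfsg.pCoreOf 2 H ≤ P := by
    rintro _ ⟨x, hx, rfl⟩
    have h : x ∈ (S : Subgroup H) :=
      IsPGroup.le_sylow_of_normal (CfsgLib.Fitting.pCore_isPGroup 2) S hx
    rwa [hSP] at h
  haveI : Fact (Nat.Prime 3) := ⟨Nat.prime_three⟩
  obtain ⟨d, hd⟩ := exists_prime_orderOf_dvd_card' (G := ↥H) 3
    (hcard ▸ Dvd.dvd.mul_right (by norm_num) _)
  have hd0 : (d : G) ∉ P := fun h => by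
    obtain ⟨j, hj⟩ := IsPGroup.iff_orderOf.1 two ⟨d, h⟩
    rw [← Subgroup.orderOf_coe] at hj
    simp only [Subgroup.orderOf_coe] at hj
    rw [hd] at hj
    have h32 : 2 ∣ 3 ∨ j = 0 := by
      rcases Nat.eq_zero_or_pos j with h | h
      · exact Or.inr h
      · exact Or.inl (hj ▸ dvd_pow_self 2 h.ne')
    rcases h32 with h | rfl
    · omega
    · simp at hj
  have hd3 : (d : G) * d * d = 1 := by
    have := pow_orderOf_eq_one d
    rw [hd, pow_three'] at this
    exact_mod_cast congrArg Subtype.val this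
  have hd2 : (d : G) * d ∉ P := fun h => hd0 (by
    have h' := P.inv_mem h
    rwa [inv_eq_of_mul_eq_one_right hd3] at h')
  refine ⟨⟨hOle, hle, ?_, two, ?_, by rw [hPcard, hcardO], d, d.2, hd0, hd2, ?_⟩,
    by rw [hcard, hcardO]⟩
  · rintro h hh _ ⟨x, hx, rfl⟩
    exact ⟨⟨h, hh⟩ * x * ⟨h, hh⟩⁻¹, hOn.conj_mem x hx ⟨h, hh⟩, rfl⟩
  · intro g hg
    have hg1 : g ∈ P := by simpa using hg 1 H.one_mem
    set N : Subgroup H :=
      { carrier := {x | ∀ h ∈ H, h⁻¹ * (x : G) * h ∈ P}
        one_mem' := fun h _ => by simp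
        mul_mem' := fun {x y} hx hy h hh => by
          rw [show h⁻¹ * ((x * y : H) : G) * h = (h⁻¹ * x * h) * (h⁻¹ * y * h) by simp [mul_assoc]]
          exact P.mul_mem (hx h hh) (hy h hh)
        inv_mem' := fun {x} hx h hh => by
          rw [show h⁻¹ * ((x⁻¹ : H) : G) * h = (h⁻¹ * x * h)⁻¹ by simp [mul_assoc]]
          exact P.inv_mem (hx h hh) } with hN
    have hNn : N.Normal := ⟨fun x hx y h hh => by
      have := hx ((y : G)⁻¹ * h) (H.mul_mem (H.inv_mem y.2) hh)
      simpa [mul_assoc] using this⟩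
    have hNp : IsPGroup 2 N := by
      refine IsPGroup.to_le (S.2) fun x hx => ?_
      show x ∈ (S : Subgroup H)
      rw [hSP]
      exact (by simpa using hx 1 H.one_mem : (x : G) ∈ P)
    exact ⟨⟨g, hle hg1⟩, CfsgLib.Fitting.le_pCore hNn hNp (show ⟨g, hle hg1⟩ ∈ N from hg), rfl⟩
  · intro h hh
    set R := P.subgroupOf H with hR
    have hidx : R.index = 3 := by
      have h1 := Subgroup.card_mul_index R
      rw [Nat.card_congr (Subgroup.subgroupOfEquivOfLe hle).toEquiv, hPcard, hcard] at h1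
      have hpos : 0 < Nat.card O := Nat.card_pos
      nlinarith
    let f : Fin 3 → H ⧸ R := ![((1 : H) : H ⧸ R), (d : H ⧸ R), ((d * d : H) : H ⧸ R)]
    have key : ∀ x y : H, (x : H ⧸ R) = (y : H ⧸ R) → (x : G)⁻¹ * y ∈ P := fun x y e => by
      simpa [hR, Subgroup.mem_subgroupOf] using QuotientGroup.eq.1 e
    have n1 : ((1 : H) : H ⧸ R) ≠ (d : H ⧸ R) := fun e => hd0 (by simpa using key _ _ e)
    have n2 : ((1 : H) : H ⧸ R) ≠ ((d * d : H) : H ⧸ R) := fun e => hd2 (by simpa using key _ _ e)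
    have n3 : (d : H ⧸ R) ≠ ((d * d : H) : H ⧸ R) := fun e => hd0 (by simpa using key _ _ e)
    have hinj : Function.Injective f := by
      intro i j e
      fin_cases i <;> fin_cases j <;>
        simp [f, n1, n2, n3, n1.symm, n2.symm, n3.symm] at e ⊢
    haveI : Finite (H ⧸ R) := inferInstance
    obtain ⟨i, hi⟩ := (hinj.bijective_of_nat_card_le (by
      rw [← Subgroup.index, hidx, Nat.card_fin])).2 ((⟨h, hh⟩ : H) : H ⧸ R)
    fin_cases i
    · exact Or.inl (by simpa using key _ _ hi)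
    · exact Or.inr (Or.inl (by simpa using key _ _ hi))
    · exact Or.inr (Or.inr (by simpa using key _ _ hi))

variable {H P K : Subgroup G}

theorem Local.two_coset (L : Local H P K) [Finite H] {x y : G} (hx : x ∈ P) (hy : y ∈ P)
    (hx' : x ∉ K) (hy' : y ∉ K) : x * y ∈ K := by
  haveI : Finite P := Finite.of_injective _ (Subgroup.inclusion_injective L.P_le)
  have hmul := Subgroup.card_mul_index (K.subgroupOf P)
  rw [Nat.card_congr (Subgroup.subgroupOfEquivOfLe L.le_P).toEquiv, L.card_P] at hmul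
  haveI : Finite K := Finite.of_injective _ (Subgroup.inclusion_injective L.le_P)
  have hpos : 0 < Nat.card K := Nat.card_pos
  have h2 : (K.subgroupOf P).index = 2 := by nlinarith
  have := (Subgroup.mul_mem_iff_of_index_two h2 (a := ⟨x, hx⟩) (b := ⟨y, hy⟩)).2
    (by simp [Subgroup.mem_subgroupOf, hx', hy'])
  simpa [Subgroup.mem_subgroupOf] using this

theorem Local.exists_P_not_K (L : Local H P K) [Finite H] : ∃ g ∈ P, g ∉ K := by
  by_contra hno
  push Not at hno
  haveI : Finite K := Finite.of_injective _ (Subgroup.inclusion_injective (L.le_P.trans L.P_le))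
  have h : Nat.card P ≤ Nat.card K :=
    Nat.card_le_card_of_injective _ (Subgroup.inclusion_injective hno)
  have hpos : 0 < Nat.card K := Nat.card_pos
  rw [L.card_P] at h
  omega

end CfsgLib.Goldschmidt
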