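import Cfsg.Agent.Lib.Amalgam.Goldschmidt.Bound
import Cfsg.Agent.Lib.Amalgam.Goldschmidt.Local
import Cfsg.Agent.S2740
import Cfsg.Agent.S2745

/-!
The coset graph of a pair of subgroups as an instance of the abstract setting.
-/

set_option autoImplicit false
set_option linter.style.haveILetI false
set_option linter.unusedSectionVars false

namespace CfsgLib.Goldschmidt

variable {G : Type*} [Group G] {M₁ M₂ : Subgroup G}

/-- The vertex `M₁`. -/
def baseL (M₁ M₂ : Subgroup G) : Cfsg.CosetVertex M₁ M₂ := Sum.inl ((1 : G) : G ⧸ M₁)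

/-- The vertex `M₂`. -/
def baseR (M₁ M₂ : Subgroup G) : Cfsg.CosetVertex M₁ M₂ := Sum.inr ((1 : G) : G ⧸ M₂)

theorem smul_baseL {g : G} :
    g • baseL M₁ M₂ = Sum.inl (g : G ⧸ M₁) := by
  simp [baseL, MulAction.Quotient.smul_coe]

theorem smul_baseR {g : G} :
    g • baseR M₁ M₂ = Sum.inr (g : G ⧸ M₂) := by
  simp [baseR, MulAction.Quotient.smul_coe]

theorem fix_baseL {g : G} : g • baseL M₁ M₂ = baseL M₁ M₂ ↔ g ∈ M₁ := by
  rw [smul_baseL, baseL, Sum.inl.injEq, QuotientGroup.eq]; simp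

theorem fix_baseR {g : G} : g • baseR M₁ M₂ = baseR M₁ M₂ ↔ g ∈ M₂ := by
  rw [smul_baseR, baseR, Sum.inr.injEq, QuotientGroup.eq]; simp

theorem vertex_eq (v : Cfsg.CosetVertex M₁ M₂) :
    (∃ g : G, v = g • baseL M₁ M₂) ∨ ∃ g : G, v = g • baseR M₁ M₂ := by
  rcases v with v | v <;> induction v using QuotientGroup.induction_on with | H x => ?_
  · exact Or.inl ⟨x, smul_baseL.symm⟩
  · exact Or.inr ⟨x, smul_baseR.symm⟩

theorem adj_base : (Cfsg.cosetGraph M₁ M₂).Adj (baseL M₁ M₂) (baseR M₁ M₂) :=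
  Cfsg.Agent.S2740.adj_of_mem M₁ M₂ 1

theorem adj_eq {a b : Cfsg.CosetVertex M₁ M₂} (h : (Cfsg.cosetGraph M₁ M₂).Adj a b) :
    (∃ g : G, a = g • baseL M₁ M₂ ∧ b = g • baseR M₁ M₂) ∨
      ∃ g : G, a = g • baseR M₁ M₂ ∧ b = g • baseL M₁ M₂ := by
  obtain ⟨-, ⟨x, h1, h2⟩ | ⟨x, h1, h2⟩⟩ := h
  · exact Or.inl ⟨x, h1.trans smul_baseL.symm, h2.trans smul_baseR.symm⟩
  · exact Or.inr ⟨x, h2.trans smul_baseR.symm, h1.trans smul_baseL.symm⟩

theorem adj_smul_iff {g : G} {a b : Cfsg.CosetVertex M₁ M₂} :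
    (Cfsg.cosetGraph M₁ M₂).Adj (g • a) (g • b) ↔ (Cfsg.cosetGraph M₁ M₂).Adj a b :=
  ⟨fun h => by simpa using Cfsg.Agent.S2745.adj_smul g⁻¹ h, Cfsg.Agent.S2745.adj_smul g⟩

theorem adj_baseL {v : Cfsg.CosetVertex M₁ M₂} :
    (Cfsg.cosetGraph M₁ M₂).Adj (baseL M₁ M₂) v ↔ ∃ h ∈ M₁, v = h • baseR M₁ M₂ := by
  constructor
  · intro hv
    rcases adj_eq hv with ⟨g, h1, h2⟩ | ⟨g, h1, -⟩
    · exact ⟨g, fix_baseL.1 h1.symm, h2⟩
    · rw [smul_baseR] at h1; exact absurd h1 Sum.inl_ne_inr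
  · rintro ⟨h, hh, rfl⟩
    rw [← fix_baseL.2 hh, adj_smul_iff]; exact adj_base

theorem adj_baseR {v : Cfsg.CosetVertex M₁ M₂} :
    (Cfsg.cosetGraph M₁ M₂).Adj (baseR M₁ M₂) v ↔ ∃ h ∈ M₂, v = h • baseL M₁ M₂ := by
  constructor
  · intro hv
    rcases adj_eq hv with ⟨g, h1, -⟩ | ⟨g, h1, h2⟩
    · rw [smul_baseL] at h1; exact absurd h1.symm Sum.inl_ne_inr
    · exact ⟨g, fix_baseR.1 h1.symm, h2⟩
  · rintro ⟨h, hh, rfl⟩
    rw [← fix_baseR.2 hh, adj_smul_iff]; exact adj_base.symm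

section Vertex

variable {V : Type*} [MulAction G V] {v w : V} {H H' P K : Subgroup G} {Adj : V → V → Prop}

theorem nbr_of_cover (L : Local H P K) (hP : ∀ g, g ∈ P ↔ g ∈ H ∧ g ∈ H')
    (hw : ∀ g : G, g • w = w ↔ g ∈ H') (hadj : ∀ u, Adj v u ↔ ∃ h ∈ H, u = h • w) :
    ∃ x y z : V, x ≠ y ∧ x ≠ z ∧ y ≠ z ∧ ∀ u, Adj v u ↔ (u = x ∨ u = y ∨ u = z) := by
  obtain ⟨d, hd, hd1, hd2, hcov⟩ := L.cover
  have ne : ∀ {a : G}, a ∈ H → a ∉ P → a • w ≠ w := fun ha hP' e =>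
    hP' ((hP _).2 ⟨ha, (hw _).1 e⟩)
  refine ⟨w, d • w, (d * d) • w, (ne hd hd1).symm, (ne (mul_mem hd hd) hd2).symm, fun e => ?_,
    fun u => ?_⟩
  · rw [mul_smul] at e
    exact ne hd hd1 (MulAction.injective d e).symm
  · rw [hadj]
    constructor
    · rintro ⟨h, hh, rfl⟩
      rcases hcov h hh with k | k | k
      · exact Or.inl ((hw _).2 ((hP _).1 k).2)
      · have := (hw _).2 ((hP _).1 k).2
        rw [mul_smul, inv_smul_eq_iff] at this
        exact Or.inr (Or.inl this)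
      · have := (hw _).2 ((hP _).1 k).2
        rw [mul_smul, inv_smul_eq_iff] at this
        exact Or.inr (Or.inr this)
    · rintro (rfl | rfl | rfl)
      · exact ⟨1, one_mem _, (one_smul _ _).symm⟩
      · exact ⟨d, hd, rfl⟩
      · exact ⟨d * d, mul_mem hd hd, rfl⟩

theorem kerNbr_base (L : Local H P K) (hP : ∀ g, g ∈ P ↔ g ∈ H ∧ g ∈ H')
    (hv : ∀ g : G, g • v = v ↔ g ∈ H) (hw : ∀ g : G, g • w = w ↔ g ∈ H')
    (hadj : ∀ u, Adj v u ↔ ∃ h ∈ H, u = h • w) {g : G} : g ∈ kerNbr Adj v ↔ g ∈ K := by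
  constructor
  · rintro ⟨h1, h2⟩
    refine L.core g fun h hh => (hP _).2 ⟨mul_mem (mul_mem (inv_mem hh) ((hv g).1 h1)) hh, ?_⟩
    rw [← hw, mul_smul, mul_smul, h2 _ ((hadj _).2 ⟨h, hh, rfl⟩), inv_smul_smul]
  · intro hg
    refine ⟨(hv g).2 (L.P_le (L.le_P hg)), fun u hu => ?_⟩
    obtain ⟨h, hh, rfl⟩ := (hadj u).1 hu
    have h1 := (hw _).2 ((hP _).1 (L.le_P (L.normal h⁻¹ (inv_mem hh) g hg))).2
    rw [inv_inv, mul_smul, mul_smul, inv_smul_eq_iff] at h1
    exact h1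

theorem kerNbr_smul (hsm : ∀ (g : G) {a b : V}, Adj a b → Adj (g • a) (g • b)) {x g : G} :
    g * x * g⁻¹ ∈ kerNbr Adj (g • v) ↔ x ∈ kerNbr Adj v := by
  have key : ∀ {x g : G} {v : V}, x ∈ kerNbr Adj v → g * x * g⁻¹ ∈ kerNbr Adj (g • v) := by
    rintro x g v ⟨h1, h2⟩
    refine ⟨by rw [mul_smul, mul_smul, inv_smul_smul, h1], fun u hu => ?_⟩
    have h' := hsm g⁻¹ hu
    rw [inv_smul_smul] at h'
    rw [mul_smul, mul_smul, h2 _ h', smul_inv_smul]
  exact ⟨fun h => by simpa [mul_assoc] using key (g := g⁻¹) h, key⟩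

theorem charp_base (L : Local H P K) (hP : ∀ g, g ∈ P ↔ g ∈ H ∧ g ∈ H')
    (hv : ∀ g : G, g • v = v ↔ g ∈ H) (hw : ∀ g : G, g • w = w ↔ g ∈ H')
    (hadj : ∀ u, Adj v u ↔ ∃ h ∈ H, u = h • w)
    (hsm : ∀ (g : G) {a b : V}, Adj a b → Adj (g • a) (g • b))
    (hC : ∀ g ∈ H, (∀ x ∈ K, g * x = x * g) → g ∈ K) (c g : G) (hg : g • c • v = c • v)
    (hc : ∀ q ∈ kerNbr Adj (c • v), g * q = q * g) : g ∈ kerNbr Adj (c • v) := by
  have h1 : (c⁻¹ * g * c) • v = v := by rw [mul_smul, mul_smul, hg, inv_smul_smul]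
  have h2 : c⁻¹ * g * c ∈ K := by
    refine hC _ ((hv _).1 h1) fun x hx => ?_
    have := hc _ ((kerNbr_smul hsm (g := c)).2 ((kerNbr_base L hP hv hw hadj).2 hx))
    calc c⁻¹ * g * c * x = c⁻¹ * (g * (c * x * c⁻¹)) * c := by group
      _ = x * (c⁻¹ * g * c) := by rw [this]; group
  have h3 := (kerNbr_smul hsm (g := c)).2 ((kerNbr_base L hP hv hw hadj).2 h2)
  rwa [show c * (c⁻¹ * g * c) * c⁻¹ = g by group] at h3

theorem swap_base (L : Local H P K) [Finite H] (hP : ∀ g, g ∈ P ↔ g ∈ H ∧ g ∈ H')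
    (hv : ∀ g : G, g • v = v ↔ g ∈ H) (hw : ∀ g : G, g • w = w ↔ g ∈ H')
    (hadj : ∀ u, Adj v u ↔ ∃ h ∈ H, u = h • w)
    (hsm : ∀ (g : G) {a b : V}, Adj a b → Adj (g • a) (g • b)) (c : G) :
    ∃ g : G, g • c • v = c • v ∧ g • c • w = c • w ∧ ∃ u, Adj (c • v) u ∧ g • u ≠ u := by
  obtain ⟨g, hg, hgK⟩ := L.exists_P_not_K
  obtain ⟨hgH, hgH'⟩ := (hP g).1 hg
  by_contra hno
  push Not at hno
  refine hgK ((kerNbr_base L hP hv hw hadj).1 ⟨(hv g).2 hgH, fun u hu => ?_⟩)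
  have := hno (c * g * c⁻¹) (by rw [mul_smul, mul_smul, inv_smul_smul, (hv g).2 hgH])
    (by rw [mul_smul, mul_smul, inv_smul_smul, (hw g).2 hgH']) (c • u) (hsm c hu)
  rw [mul_smul, mul_smul, inv_smul_smul] at this
  exact MulAction.injective c this

end Vertex

theorem card_le_of_passive (M₁ M₂ : Subgroup G) [Finite M₁] [Finite M₂] {K₁ K₂ : Subgroup G}
    (L₁ : Local M₁ (M₁ ⊓ M₂) K₁) (L₂ : Local M₂ (M₁ ⊓ M₂) K₂)
    (hC₁ : ∀ g ∈ M₁, (∀ x ∈ K₁, g * x = x * g) → g ∈ K₁)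
    (hC₂ : ∀ g ∈ M₂, (∀ x ∈ K₂, g * x = x * g) → g ∈ K₂)
    (hpas : ∀ x ∈ M₁ ⊓ M₂, x * x = 1 → (∀ e ∈ M₁ ⊓ M₂, e * x = x * e) →
      ∀ g ∈ M₂, g * x = x * g)
    (hc : ∀ N : Subgroup G, N ≤ M₁ ⊓ M₂ → (∀ g ∈ M₁, ∀ x ∈ N, g * x * g⁻¹ ∈ N) →
      (∀ g ∈ M₂, ∀ x ∈ N, g * x * g⁻¹ ∈ N) → N = ⊥) :
    Nat.card ↥(M₁ ⊓ M₂) ≤ 2 ^ 7 := by
  let Adj := (Cfsg.cosetGraph M₁ M₂).Adj
  have hsm : ∀ (g : G) {a b : Cfsg.CosetVertex M₁ M₂}, Adj a b → Adj (g • a) (g • b) :=
    fun g _ _ h => Cfsg.Agent.S2745.adj_smul g h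
  have hP12 : ∀ g, g ∈ M₁ ⊓ M₂ ↔ g ∈ M₁ ∧ g ∈ M₂ := fun g => Subgroup.mem_inf
  have hP21 : ∀ g, g ∈ M₁ ⊓ M₂ ↔ g ∈ M₂ ∧ g ∈ M₁ := fun g => Subgroup.mem_inf.trans and_comm
  have hstab : ∀ (c g : G) (v : Cfsg.CosetVertex M₁ M₂),
      g • c • v = c • v ↔ (c⁻¹ * g * c) • v = v := fun c g v => by
    rw [mul_smul, mul_smul, inv_smul_eq_iff]
  have hA : ∀ (g : G) (v : Cfsg.CosetVertex M₁ M₂), (g • v).isLeft = v.isLeft := fun g v => by
    cases v <;> rfl
  let C : Ctx G (Cfsg.CosetVertex M₁ M₂) :=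
    { Adj := Adj
      A := fun v => v.isLeft = true
      symm := fun h => h.symm
      smul_adj := hsm
      smul_A := fun g v => by simp only [hA]
      side := fun {a b} h => by
        rcases adj_eq h with ⟨g, rfl, rfl⟩ | ⟨g, rfl, rfl⟩ <;> simp [hA, baseL, baseR]
      edge := fun {a b c d} h h' hs => by
        rcases adj_eq h with ⟨g, rfl, rfl⟩ | ⟨g, rfl, rfl⟩ <;>
          rcases adj_eq h' with ⟨k, rfl, rfl⟩ | ⟨k, rfl, rfl⟩
        · exact ⟨k * g⁻¹, by simp [mul_smul], by simp [mul_smul]⟩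
        · simp [hA, baseL, baseR] at hs
        · simp [hA, baseL, baseR] at hs
        · exact ⟨k * g⁻¹, by simp [mul_smul], by simp [mul_smul]⟩
      nbr := fun a => by
        obtain ⟨x, y, z, h1, h2, h3, h⟩ : ∃ x y z : Cfsg.CosetVertex M₁ M₂,
            x ≠ y ∧ x ≠ z ∧ y ≠ z ∧ ∀ u, Adj a u ↔ (u = x ∨ u = y ∨ u = z) := by
          have move : ∀ (c : G) (v : Cfsg.CosetVertex M₁ M₂),
              (∃ x y z, x ≠ y ∧ x ≠ z ∧ y ≠ z ∧ ∀ u, Adj v u ↔ (u = x ∨ u = y ∨ u = z)) →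
              ∃ x y z, x ≠ y ∧ x ≠ z ∧ y ≠ z ∧ ∀ u, Adj (c • v) u ↔ (u = x ∨ u = y ∨ u = z) := by
            rintro c v ⟨x, y, z, h1, h2, h3, h⟩
            refine ⟨c • x, c • y, c • z, fun e => h1 (MulAction.injective c e),
              fun e => h2 (MulAction.injective c e), fun e => h3 (MulAction.injective c e), fun u => ?_⟩
            rw [← smul_inv_smul c u]
            simp only [smul_left_cancel_iff]
            exact adj_smul_iff.trans (h _)
          rcases vertex_eq a with ⟨c, rfl⟩ | ⟨c, rfl⟩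
          · exact move c _ (nbr_of_cover L₁ hP12 (fun _ => fix_baseR) fun _ => adj_baseL)
          · exact move c _ (nbr_of_cover L₂ hP21 (fun _ => fix_baseL) fun _ => adj_baseR)
        exact ⟨x, y, z, h1, h2, h3, h⟩
      fin := fun a => by
        have key : ∀ (c : G) (v : Cfsg.CosetVertex M₁ M₂) (H : Subgroup G), Finite H →
            (∀ g : G, g • v = v ↔ g ∈ H) → Finite ↥(MulAction.stabilizer G (c • v)) := by
          intro c v H _ hv
          exact Finite.of_injective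
            (fun g => (⟨c⁻¹ * (g : G) * c, (hv _).1 ((hstab c g v).1 g.2)⟩ : H))
            fun g g' e => Subtype.ext
              (mul_left_cancel (mul_right_cancel (congrArg Subtype.val e : c⁻¹ * (g : G) * c = _)))
        rcases vertex_eq a with ⟨c, rfl⟩ | ⟨c, rfl⟩
        · exact key c _ M₁ inferInstance fun _ => fix_baseL
        · exact key c _ M₂ inferInstance fun _ => fix_baseR
      ed_two := fun {a b} h => by
        have key : ∀ c : G, MulAction.stabilizer G (c • baseL M₁ M₂) ⊓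
            MulAction.stabilizer G (c • baseR M₁ M₂) ≤
            (M₁ ⊓ M₂).map (MulAut.conj c).toMonoidHom := fun c g hg =>
          ⟨c⁻¹ * g * c, ⟨fix_baseL.1 ((hstab c g _).1 hg.1), fix_baseR.1 ((hstab c g _).1 hg.2)⟩,
            by simp [mul_assoc]⟩
        rcases adj_eq h with ⟨c, rfl, rfl⟩ | ⟨c, rfl, rfl⟩
        · exact (L₁.two.map _).to_le (key c)
        · exact (L₁.two.map _).to_le ((inf_comm _ _).le.trans (key c))
      swap := fun {a b} h => by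
        rcases adj_eq h with ⟨c, rfl, rfl⟩ | ⟨c, rfl, rfl⟩
        · exact swap_base L₁ hP12 (fun _ => fix_baseL) (fun _ => fix_baseR) (fun _ => adj_baseL) hsm c
        · exact swap_base L₂ hP21 (fun _ => fix_baseR) (fun _ => fix_baseL) (fun _ => adj_baseR) hsm c
      charp := fun a g => by
        rcases vertex_eq a with ⟨c, rfl⟩ | ⟨c, rfl⟩
        · exact charp_base L₁ hP12 (fun _ => fix_baseL) (fun _ => fix_baseR) (fun _ => adj_baseL) hsm
            hC₁ c g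
        · exact charp_base L₂ hP21 (fun _ => fix_baseR) (fun _ => fix_baseL) (fun _ => adj_baseR) hsm
            hC₂ c g
      faithful := fun {a b} h N hN ha hb => by
        have main : ∀ c : G, N ≤ MulAction.stabilizer G (c • baseL M₁ M₂) ⊓
            MulAction.stabilizer G (c • baseR M₁ M₂) →
            MulAction.stabilizer G (c • baseL M₁ M₂) ≤ Subgroup.normalizer (N : Set G) →
            MulAction.stabilizer G (c • baseR M₁ M₂) ≤ Subgroup.normalizer (N : Set G) → N = ⊥ := by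
          intro c hN ha hb
          have hbot := hc (N.comap (MulAut.conj c).toMonoidHom) ?_ ?_ ?_
          · rw [eq_bot_iff]
            intro x hx
            have h1 : c⁻¹ * x * c ∈ N.comap (MulAut.conj c).toMonoidHom := by
              simpa [mul_assoc] using hx
            rw [hbot, Subgroup.mem_bot] at h1
            rw [Subgroup.mem_bot]
            calc x = c * (c⁻¹ * x * c) * c⁻¹ := by group
              _ = 1 := by rw [h1]; group
          · intro x hx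
            have h1 := hN (show c * x * c⁻¹ ∈ N from hx)
            have e1 := fix_baseL.1 ((hstab c _ _).1 h1.1)
            have e2 := fix_baseR.1 ((hstab c _ _).1 h1.2)
            rw [show c⁻¹ * (c * x * c⁻¹) * c = x by group] at e1 e2
            exact ⟨e1, e2⟩
          · intro g hg x hx
            have hg' : c * g * c⁻¹ ∈ MulAction.stabilizer G (c • baseL M₁ M₂) := by
              show (c * g * c⁻¹) • c • baseL M₁ M₂ = c • baseL M₁ M₂
              rw [mul_smul, mul_smul, inv_smul_smul, fix_baseL.2 hg]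
            have := (Subgroup.mem_normalizer_iff.1 (ha hg') _).1 (show c * x * c⁻¹ ∈ N from hx)
            show c * (g * x * g⁻¹) * c⁻¹ ∈ N
            simpa [mul_assoc] using this
          · intro g hg x hx
            have hg' : c * g * c⁻¹ ∈ MulAction.stabilizer G (c • baseR M₁ M₂) := by
              show (c * g * c⁻¹) • c • baseR M₁ M₂ = c • baseR M₁ M₂
              rw [mul_smul, mul_smul, inv_smul_smul, fix_baseR.2 hg]
            have := (Subgroup.mem_normalizer_iff.1 (hb hg') _).1 (show c * x * c⁻¹ ∈ N from hx)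
            show c * (g * x * g⁻¹) * c⁻¹ ∈ N
            simpa [mul_assoc] using this
        rcases adj_eq h with ⟨c, rfl, rfl⟩ | ⟨c, rfl, rfl⟩
        · exact main c hN ha hb
        · exact main c (hN.trans (inf_comm _ _).le) hb ha
      passive := fun {a b} h hAa x hxa hxb hx2 hxc g hg => by
        rcases adj_eq h with ⟨c, rfl, rfl⟩ | ⟨c, rfl, rfl⟩
        swap
        · simp [hA, baseR] at hAa
        set y := c⁻¹ * x * c with hy
        have hyM : y ∈ M₁ ⊓ M₂ :=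
          ⟨fix_baseL.1 ((hstab c x _).1 hxa), fix_baseR.1 ((hstab c x _).1 hxb)⟩
        have h1 := hpas y hyM
          (by rw [hy, show c⁻¹ * x * c * (c⁻¹ * x * c) = c⁻¹ * (x * x) * c by group, hx2]; group)
          (fun e he => by
            have := hxc (c * e * c⁻¹)
              (by rw [mul_smul, mul_smul, inv_smul_smul, fix_baseL.2 he.1])
              (by rw [mul_smul, mul_smul, inv_smul_smul, fix_baseR.2 he.2])
            calc e * y = c⁻¹ * (c * e * c⁻¹ * x) * c := by rw [hy]; group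
              _ = y * e := by rw [this, hy]; group)
          (c⁻¹ * g * c) (fix_baseR.1 ((hstab c g _).1 hg))
        calc g * x = c * (c⁻¹ * g * c * y) * c⁻¹ := by rw [hy]; group
          _ = x * g := by rw [h1, hy]; group }
  have hle : M₁ ⊓ M₂ ≤ Ctx.Ed (baseL M₁ M₂) (baseR M₁ M₂) := fun x hx =>
    ⟨fix_baseL.2 hx.1, fix_baseR.2 hx.2⟩
  haveI := C.finite_Ed (baseL M₁ M₂) (baseR M₁ M₂)
  exact (Nat.card_le_card_of_injective _ (Subgroup.inclusion_injective hle)).trans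
    (C.card_Ed_le adj_base)

end CfsgLib.Goldschmidt
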