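import Cfsg.Agent.Lib.Amalgam.Goldschmidt.Common

/-!
Odd critical lengths at least three: the first facts.
-/

set_option autoImplicit false
set_option linter.unusedSectionVars false
set_option linter.unusedVariables false
set_option linter.style.haveILetI false

namespace CfsgLib.Goldschmidt

variable {X : Type*} [Group X] {V : Type*} [MulAction X V]

local notation "St" => MulAction.stabilizer X

/-- Three vertices as a walk. -/
def w3 (a b c : V) : ℕ → V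
  | 0 => a
  | 1 => b
  | _ + 2 => c

namespace Ctx

variable (C : Ctx X V)

include C

theorem isW_w3 {a b c : V} (h : C.Adj a b) (h' : C.Adj b c) : C.IsW 2 (w3 a b c) := fun i hi => by
  rcases (by omega : i = 0 ∨ i = 1) with rfl | rfl
  · exact h
  · exact h'

omit C in
theorem nb_w3 {a b c : V} (h : c ≠ a) : NB 2 (w3 a b c) := fun i hi => by
  obtain rfl : i = 0 := (by omega)
  exact h

theorem pair_map {a b c a' b' c' : V} (h : C.Adj a b) (h' : C.Adj b c) (hne : c ≠ a)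
    (k : C.Adj a' b') (k' : C.Adj b' c') (kne : c' ≠ a') (hs : C.A a ↔ C.A a') :
    ∃ g : X, g • a = a' ∧ g • b = b' ∧ g • c = c' := by
  obtain ⟨g, hg⟩ := C.tr_le_two a 2 le_rfl (w3 a b c) (w3 a' b' c') (C.isW_w3 h h') (nb_w3 hne)
    (C.isW_w3 k k') (nb_w3 kne) hs
  exact ⟨g, hg 0 (by omega), hg 1 (by omega), hg 2 le_rfl⟩

theorem le_Q_one (hb : 2 ≤ C.bb) {a b : V} (h : C.Adj a b) (ha : C.A a) : C.Z a ≤ C.Q b :=
  C.le_Q_walk (n := 1) (p := w3 a b b) (fun i hi => by obtain rfl : i = 0 := (by omega); exact h)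
    ha (by omega)

theorem le_Q_two (hb : 3 ≤ C.bb) {a b c : V} (h : C.Adj a b) (h' : C.Adj b c) (ha : C.A a) :
    C.Z a ≤ C.Q c :=
  C.le_Q_walk (n := 2) (p := w3 a b c) (C.isW_w3 h h') ha (by omega)

variable {p : ℕ → V}

theorem CP_end_not_A (hp : C.CP p) (ho : Odd C.bb) : ¬ C.A (p C.bb) := fun h =>
  Nat.not_even_iff_odd.2 ho ((C.CP_A hp le_rfl).1 h)

theorem even_pred (ho : Odd C.bb) : Even (C.bb - 1) := by
  obtain ⟨m, hm⟩ := ho
  exact ⟨m, by omega⟩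

theorem CP_adj_last (hp : C.CP p) (hb : 3 ≤ C.bb) : C.Adj (p C.bb) (p (C.bb - 1)) := by
  have := C.CP_adj hp (i := C.bb - 1) (by omega)
  rw [Nat.sub_add_cancel (by omega)] at this
  exact C.symm this

theorem far_A (hp : C.CP p) (ho : Odd C.bb) {ν : V} (hν : C.Adj (p C.bb) ν) : C.A ν :=
  C.A_of_not (C.symm hν) (C.CP_end_not_A hp ho)

theorem far_le_St (hp : C.CP p) (ho : Odd C.bb) {ν : V} (hν : C.Adj (p C.bb) ν) {j : ℕ}
    (h1 : 1 ≤ j) (hj : j ≤ C.bb) : C.Z ν ≤ St (p j) := by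
  have hw : C.IsW (C.bb - j + 1) (cons ν fun i => p (C.bb - i)) :=
    C.isW_cons (by simpa using C.symm hν) (IsW.mono C (C.isW_rev hp.1) (by omega))
  have := C.le_St_walk hw (by simpa using C.far_A hp ho hν) (by omega)
  simpa [show C.bb - (C.bb - j) = j by omega] using this

theorem far_le_Q (hp : C.CP p) (ho : Odd C.bb) {ν : V} (hν : C.Adj (p C.bb) ν) {j : ℕ}
    (h1 : 2 ≤ j) (hj : j ≤ C.bb) : C.Z ν ≤ C.Q (p j) := by
  have hw : C.IsW (C.bb - j + 1) (cons ν fun i => p (C.bb - i)) :=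
    C.isW_cons (by simpa using C.symm hν) (IsW.mono C (C.isW_rev hp.1) (by omega))
  have := C.le_Q_walk hw (by simpa using C.far_A hp ho hν) (by omega)
  simpa [show C.bb - (C.bb - j) = j by omega] using this

theorem cB_one_le_end (hp : C.CP p) (hb : 3 ≤ C.bb) : C.cB (p 1) ≤ C.Q (p C.bb) :=
  (C.cB_le_Z (C.symm (C.CP_adj hp (i := 1) (by omega)))).trans
    (C.CP_le_Q hp (by omega) le_rfl even_two (by omega))

/-- An element of a first `Z` outside the last kernel moves the other neighbours there. -/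
theorem moves_far (hp : C.CP p) (hb : 3 ≤ C.bb) {s : X} (hs : s ∈ C.Z (p 0)) (hsQ : s ∉ C.Q (p C.bb))
    {ν : V} (hν : C.Adj (p C.bb) ν) (hne : ν ≠ p (C.bb - 1)) :
    s • ν ≠ ν ∧ s • ν ≠ p (C.bb - 1) ∧ C.Adj (p C.bb) (s • ν) ∧ s • s • ν = ν :=
  C.moves (C.CP_adj_last hp hb) hν hne
    ⟨C.CP_le_St hp (Nat.zero_le _) le_rfl Even.zero hs,
      C.CP_le_St hp (Nat.zero_le _) (Nat.sub_le _ _) Even.zero hs⟩ hsQ

theorem inter_mem {b a a' a'' : V} (ha : C.Adj b a) (ha' : C.Adj b a') (ha'' : C.Adj b a'')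
    (hA : C.A a) (hne : a' ≠ a) {x : X} (hx : x ∈ C.Z a) (hx' : x ∈ C.Z a') : x ∈ C.Z a'' := by
  by_cases h1 : a'' = a
  · exact h1 ▸ hx
  by_cases h2 : a'' = a'
  · exact h2 ▸ hx'
  obtain ⟨g, hg, hgQ⟩ := C.exists_Ed_not_Q ha
  obtain ⟨m1, m2, m3, -⟩ := C.moves ha ha' hne hg hgQ
  have hga : g • a' = a'' := by
    rcases C.three ha ha' ha'' m3 hne h1 (Ne.symm h2) with e | e | e
    · exact absurd e m2
    · exact absurd e m1
    · exact e
  have hA' : C.A a'' := (C.A_iff_of_two (C.symm ha) ha'').1 hA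
  have e := C.mul_conj_mem (C.symm ha) hA hx (Ed_swap hg)
  have h3 : g * x * g⁻¹ ∈ C.Z a'' := hga ▸ C.smul_Z ((C.A_iff_of_two (C.symm ha) ha').1 hA) hx'
  have := mul_mem (C.cB_le_Z (C.symm ha'') e) h3
  rwa [mul_assoc, C.Z_sq hA' h3, mul_one] at this

theorem Z_not_le (hp : C.CP p) (hb : 3 ≤ C.bb) (ho : Odd C.bb) {a β c : V} (ha : C.Adj a β)
    (hA : C.A a) (hc : C.Adj β c) (hne : c ≠ a) : ¬ C.Z a ≤ C.Z c := by
  intro h
  have key : ∀ i, 2 * i + 1 ≤ C.bb → C.Z (p 0) ≤ C.Z (p (2 * i)) := by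
    intro i
    induction i with
    | zero => exact fun _ => le_rfl
    | succ i ih =>
      intro hi
      obtain ⟨g, g1, -, g3⟩ := C.pair_map ha hc hne (C.CP_adj hp (i := 2 * i) (by omega))
        (C.CP_adj hp (i := 2 * i + 1) (by omega)) (C.CP_nb hp (2 * i) (by omega))
        (iff_of_true hA ((C.CP_A hp (by omega)).2 (even_two_mul i)))
      have hA' : C.A (p (2 * i)) := (C.CP_A hp (by omega)).2 (even_two_mul i)
      refine (ih (by omega)).trans fun y hy => ?_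
      have h1 : g⁻¹ * y * g⁻¹⁻¹ ∈ C.Z a := by
        have := C.smul_Z hA' (g := g⁻¹) hy
        rwa [← g1, inv_smul_smul] at this
      have h2 := C.smul_Z ((C.A_iff_of_two ha hc).1 hA) (g := g) (h h1)
      rw [g3] at h2
      rw [show 2 * (i + 1) = 2 * i + 1 + 1 by ring]
      simpa [mul_assoc] using h2
  obtain ⟨m, hm⟩ := ho
  refine hp.2.2 ((key m (by omega)).trans ?_)
  exact C.CP_le_Q hp (by omega) le_rfl (even_two_mul m) (by omega)

/-- The common part of the `Z` at the neighbours. -/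
def YY (b : V) : Subgroup X := ⨅ w, ⨅ (_ : C.Adj b w), C.Z w

theorem mem_YY {b : V} {x : X} : x ∈ C.YY b ↔ ∀ w, C.Adj b w → x ∈ C.Z w := by
  simp only [YY, Subgroup.mem_iInf]

theorem smul_YY {b : V} (hb : ¬ C.A b) {g x : X} (hx : x ∈ C.YY b) :
    g * x * g⁻¹ ∈ C.YY (g • b) := by
  rw [mem_YY] at hx ⊢
  intro w hw
  have h' := C.smul_adj g⁻¹ hw
  rw [inv_smul_smul] at h'
  simpa using C.smul_Z (C.A_of_not (C.symm h') hb) (g := g) (hx _ h')

theorem mover_B (hp : C.CP p) (hb : 3 ≤ C.bb) (ho : Odd C.bb) {a β c : V} (ha : C.Adj a β)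
    (hA : C.A a) (hc : C.Adj β c) (hne : c ≠ a) : ∃ q ∈ C.Q β, q ∈ C.Q c ∧ q ∉ C.Q a := by
  by_contra hno
  push Not at hno
  have DN : ∀ {a' β' c' : V}, C.Adj a' β' → C.A a' → C.Adj β' c' → c' ≠ a' → ∀ q ∈ C.Q β',
      q ∈ C.Q c' → q ∈ C.Q a' := by
    intro a' β' c' ha' hA' hc' hne' q hq hq'
    obtain ⟨g, g1, g2, g3⟩ := C.pair_map ha hc hne ha' hc' hne' (iff_of_true hA hA')
    have h1 : g⁻¹ * q * g⁻¹⁻¹ ∈ C.Q β := by
      have := C.smul_Q (g := g⁻¹) hq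
      rwa [← g2, inv_smul_smul] at this
    have h2 : g⁻¹ * q * g⁻¹⁻¹ ∈ C.Q c := by
      have := C.smul_Q (g := g⁻¹) hq'
      rwa [← g3, inv_smul_smul] at this
    have h3 := C.smul_Q (g := g) (hno _ h1 h2)
    rw [g1] at h3
    simpa [mul_assoc] using h3
  clear hno hne hc hA ha a β c
  have h01 : C.Adj (p 0) (p 1) := C.CP_adj hp (by omega)
  have h12 : C.Adj (p 1) (p 2) := C.CP_adj hp (by omega)
  have h20 : p 2 ≠ p 0 := C.CP_nb hp 0 (by omega)
  have hA := hp.2.1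
  obtain ⟨s, hs, hsQ⟩ := SetLike.not_le_iff_exists.1 hp.2.2
  have hlast := C.CP_adj_last hp hb
  by_cases hC1 : ∀ ν, C.Adj (p C.bb) ν → C.Z ν ≤ C.Q (p 1)
  · obtain ⟨ν, -, hν, -, hνne, -, -⟩ := C.exists_others hlast
    obtain ⟨m1, -, m3, -⟩ := C.moves_far hp hb hs hsQ hν hνne
    refine C.Z_not_le hp hb ho (C.symm hν) (C.far_A hp ho hν) m3 m1 fun v hv => ?_
    have h1 := DN h01 hA h12 h20 v (hC1 ν hν hv) (C.far_le_Q hp ho hν le_rfl (by omega) hv)
    have h2 := C.smul_Z (C.far_A hp ho hν) (g := s) hv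
    rwa [← C.Z_comm_Q hA h1 hs, mul_inv_cancel_right] at h2
  push Not at hC1
  obtain ⟨ν, hν, hνQ⟩ := hC1
  obtain ⟨t, ht, htQ⟩ := SetLike.not_le_iff_exists.1 hνQ
  have hνA := C.far_A hp ho hν
  have hνne : ν ≠ p (C.bb - 1) := fun e => hνQ
    (e ▸ C.CP_le_Q hp (Nat.sub_le _ _) (by omega) (C.even_pred ho) (by omega))
  have htE : t ∈ (Ed (p 1) (p 2) : Subgroup X) :=
    ⟨C.far_le_St hp ho hν le_rfl (by omega) ht, C.far_le_St hp ho hν (by omega) (by omega) ht⟩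
  obtain ⟨tne, tne2, tadj, -⟩ := C.moves h12 (C.symm h01) h20.symm htE htQ
  have hγA : C.A (t • p 0) := (C.smul_A t _).2 hA
  have hY : ∀ x ∈ C.Z (p 0), x ∈ C.Z (t • p 0) → x ∈ C.YY (p 1) := fun x hx hx' =>
    C.mem_YY.2 fun w hw => C.inter_mem (C.symm h01) tadj hw hA tne hx hx'
  have hH : ∀ x ∈ C.Z (p 0), x ∈ C.Q (p C.bb) → t * x = x * t ∧ x ∈ C.YY (p 1) := by
    intro x hx hxQ
    have h1 : x ∈ C.Q (p (C.bb - 1)) :=
      C.CP_le_Q hp (Nat.zero_le _) (Nat.sub_le _ _) Even.zero (by omega) hx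
    have hc := (C.Z_comm_Q hνA (DN (C.symm hν) hνA hlast hνne.symm x hxQ h1) ht).symm
    have h2 := C.smul_Z hA (g := t) hx
    rw [hc, mul_inv_cancel_right] at h2
    exact ⟨hc, hY x hx h2⟩
  have hnot : ¬ C.Z (p 0) ≤ C.YY (p 1) := fun e =>
    C.Z_not_le hp hb ho h01 hA h12 h20 fun x hx => C.mem_YY.1 (e hx) _ h12
  have hbE : ∀ x ∈ C.Z (p 0), x ∈ (Ed (p C.bb) (p (C.bb - 1)) : Subgroup X) := fun x hx =>
    ⟨C.CP_le_St hp (Nat.zero_le _) le_rfl Even.zero hx,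
      C.CP_le_St hp (Nat.zero_le _) (Nat.sub_le _ _) Even.zero hx⟩
  have hYQ : ∀ x ∈ C.YY (p 1), x ∈ C.Q (p C.bb) := by
    intro x hx
    have hx0 := C.mem_YY.1 hx _ (C.symm h01)
    by_contra hxQ
    refine hnot fun y hy => ?_
    by_cases hyQ : y ∈ C.Q (p C.bb)
    · exact (hH y hy hyQ).2
    · have := (hH _ (mul_mem hx0 hy) (C.two_coset hlast (hbE x hx0) (hbE y hy) hxQ hyQ)).2
      simpa using mul_mem (inv_mem hx) this
  have hY2 : ∀ ρ, C.Adj (p 0) ρ → ∀ x ∈ C.Z (p 0), ∀ y ∈ C.Z (p 0), x ∉ C.YY ρ → y ∉ C.YY ρ →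
      x * y ∈ C.YY ρ := by
    intro ρ hρ x hx y hy hxY hyY
    obtain ⟨g, g1, g2⟩ := C.edge h01 hρ Iff.rfl
    have g1' : g⁻¹ • p 0 = p 0 := inv_smul_eq_iff.2 g1.symm
    have back : ∀ z, g⁻¹ * z * g⁻¹⁻¹ ∈ C.YY (p 1) → z ∈ C.YY ρ := fun z hz => by
      have := C.smul_YY (C.not_A h01 hA) (g := g) hz
      rw [g2] at this
      simpa [mul_assoc] using this
    have hx' := C.conj_Z hA g1' hx
    have hy' := C.conj_Z hA g1' hy
    refine back _ ?_
    rw [show g⁻¹ * (x * y) * g⁻¹⁻¹ = g⁻¹ * x * g⁻¹⁻¹ * (g⁻¹ * y * g⁻¹⁻¹) by group]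
    exact (hH _ (mul_mem hx' hy') (C.two_coset hlast (hbE _ hx') (hbE _ hy')
      (fun e => hxY (back _ (hH _ hx' e).2)) (fun e => hyY (back _ (hH _ hy' e).2)))).2
  obtain ⟨ρ, ρ', hρ, hρ', hρ1, hρ1', hρρ⟩ := C.exists_others h01
  set F := C.Z (p 0) ⊓ C.YY (p 1) ⊓ C.YY ρ ⊓ C.YY ρ' with hF
  have hFmem : ∀ x ∈ F, ∀ w, C.Adj (p 0) w → x ∈ C.YY w := fun x hx w hw => by
    rcases C.three h01 hρ hρ' hw hρ1 hρ1' hρρ with rfl | rfl | rfl
    · exact hx.1.1.2
    · exact hx.1.2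
    · exact hx.2
  have hFE : F ≤ Ed (p 0) (p 1) := fun x hx => C.Q_le_Ed h01 (C.Z_le_Q hA hx.1.1.1)
  haveI := C.finite_le (hFE.trans inf_le_left)
  have hn0 : St (p 0) ≤ Subgroup.normalizer (F : Set X) := fun g hg => by
    refine mem_normalizer_finite fun x hx => ?_
    have hg' : g⁻¹ • p 0 = p 0 := inv_smul_eq_iff.2 (show g • p 0 = p 0 from hg).symm
    have key : ∀ w, C.Adj (p 0) w → g * x * g⁻¹ ∈ C.YY w := fun w hw => by
      have h' := C.smul_nbr hg' hw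
      simpa using C.smul_YY (C.not_A h' hA) (g := g) (hFmem x hx _ h')
    exact ⟨⟨⟨C.conj_Z hA hg hx.1.1.1, key _ h01⟩, key _ hρ⟩, key _ hρ'⟩
  have hn1 : St (p 1) ≤ Subgroup.normalizer (F : Set X) := by
    refine C.St_le (C.symm h01) (fun e he => hn0 he.2) (g := t) ?_ htE.1 tne
    refine mem_normalizer_finite fun x hx => ?_
    rw [(hH x hx.1.1.1 (hYQ x hx.1.1.2)).1, mul_inv_cancel_right]
    exact hx
  have hbot := C.faithful h01 F hFE hn0 hn1
  haveI := C.finite_Z hA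
  haveI : Finite ↥(C.Z (p 0) ⊓ C.YY (p 1)) := C.finite_le (inf_le_left.trans (C.Z_le_St hA))
  haveI : Finite ↥(C.Z (p 0) ⊓ C.YY (p 1) ⊓ C.YY ρ) :=
    C.finite_le (inf_le_left.trans (inf_le_left.trans (C.Z_le_St hA)))
  have c1 := card_le_two_mul (H := C.YY (p 1)) (K := C.Z (p 0)) fun x hx y hy =>
    hY2 _ h01 x hx y hy
  have c2 := card_le_two_mul (H := C.YY ρ) (K := C.Z (p 0) ⊓ C.YY (p 1)) fun x hx y hy =>
    hY2 _ hρ x hx.1 y hy.1
  have c3 := card_le_two_mul (H := C.YY ρ') (K := C.Z (p 0) ⊓ C.YY (p 1) ⊓ C.YY ρ) fun x hx y hy =>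
    hY2 _ hρ' x hx.1.1 y hy.1.1
  rw [← hF, hbot, Subgroup.card_bot] at c3
  have k : Nat.card ↥(C.cB (p 1)) = 2 := by
    have h2 := C.two_le_card_cB h01 hA
    rw [C.card_Z h01 hA] at c1
    nlinarith
  have hYc : ∀ x ∈ C.YY (p 1), x ∈ C.cB (p 1) := by
    intro x hx
    by_contra hxc
    refine hnot fun y hy => ?_
    have hcY : C.cB (p 1) ≤ C.YY (p 1) := fun z hz => C.mem_YY.2 fun w hw => C.cB_le_Z (C.symm hw) hz
    by_cases hyc : y ∈ C.cB (p 1)
    · exact hcY hyc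
    · simpa using mul_mem (inv_mem hx)
        (hcY (C.Z_mul h01 hA k (C.mem_YY.1 hx _ (C.symm h01)) hy hxc hyc))
  -- the product of representatives at the three neighbours
  have hq0 : ∃ q ∈ C.Q (p 1), q ∉ C.Q (p 0) := by
    by_contra hle
    push Not at hle
    haveI := C.finite_Q (p 0)
    haveI := C.finite_Q (p 1)
    have e : C.Q (p 1) = C.Q (p 0) := eq_of_le_card hle (C.card_Q_eq h01).le
    have hn : ∀ v, St v ≤ Subgroup.normalizer (C.Q v : Set X) := fun v g hg => by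
      haveI := C.finite_Q v
      exact mem_normalizer_finite fun x hx => C.conj_Q hg hx
    have := C.faithful h01 (C.Q (p 0)) (C.Q_le_Ed h01) (hn _) (e ▸ hn (p 1))
    exact C.cB_ne_bot h01 hA (le_bot_iff.1 (this ▸ C.cB_le_Q_A h01 hA))
  obtain ⟨q, hq, hq0⟩ := hq0
  have hγ1 : C.Adj (t • p 0) (p 1) := C.symm tadj
  have hp2A : C.A (p 2) := (C.CP_A hp (by omega)).2 even_two
  obtain ⟨z, hz, hz1⟩ := (Subgroup.bot_or_exists_ne_one _).resolve_left (C.cB_ne_bot h01 hA)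
  obtain ⟨b, hb2, hb'⟩ := C.exists_Z_not_cB (C.symm h12) hp2A
  have hs' : s ∉ C.cB (p 1) := fun e => hsQ (C.cB_one_le_end hp hb e)
  set c' := t * s * t⁻¹ with hc'
  have hcZ : c' ∈ C.Z (t • p 0) := C.smul_Z hA hs
  have hc'' : c' ∉ C.cB (p 1) := fun e => hs' (by
    have := C.smul_cB (g := t⁻¹) e
    rw [inv_smul_eq_iff.2 (show t • p 1 = p 1 from htE.1).symm, hc'] at this
    simpa [mul_assoc] using this)
  have move : ∀ {o : V}, C.Adj (p 1) o → C.A o → q ∉ C.Q o → ∀ x ∈ C.Z o, x ∉ C.cB (p 1) →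
      q * x * q⁻¹ = x * z := by
    intro o ho hoA hqo x hx hxc
    have hqE : q ∈ (Ed o (p 1) : Subgroup X) := Ed_swap (C.Q_le_Ed ho hq)
    have h1 := C.mul_conj_mem (C.symm ho) hoA hx hqE
    have h2 : x * (q * x * q⁻¹) ≠ 1 := fun e => by
      have h := conj_eq_of_comm e (C.Z_sq hoA hx)
      rw [mul_one] at h
      exact hxc (C.mem_cB_of_commute (C.symm ho) hoA hx hqE hqo (mul_inv_eq_iff_eq_mul.1 h))
    exact conj_eq_of_comm (eq_of_card_two k h1 hz h2 hz1) (C.Z_sq hoA hx)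
  have qs := move (C.symm h01) hA hq0 s hs hs'
  have qc := move tadj hγA (fun e => hq0 (DN h01 hA tadj tne q hq e)) c' hcZ hc''
  have qb := move h12 hp2A (fun e => hq0 (DN h01 hA h12 h20 q hq e)) b hb2 hb'
  have hβb : b • p 1 = p 1 := (C.Z_le_Q hp2A hb2).2 _ (C.symm h12)
  have hβc : c' • p 1 = p 1 := (C.Z_le_Q hγA hcZ).2 _ hγ1
  have hzz : ∀ g : X, g • p 1 = p 1 → g * z = z * g := fun g hg => C.cB_comm hz hg
  set x := s * c' * b with hx
  have hxnot : x ∉ C.cB (p 1) := by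
    intro e
    apply hz1
    have h1 : q * x * q⁻¹ = x * z := by
      calc q * x * q⁻¹ = q * s * q⁻¹ * (q * c' * q⁻¹) * (q * b * q⁻¹) := by rw [hx]; group
        _ = s * (z * c') * (z * b) * z := by rw [qs, qc, qb]; group
        _ = s * c' * z * (b * z) * z := by rw [← hzz c' hβc, ← hzz b hβb]; group
        _ = s * c' * (z * b) * (z * z) := by group
        _ = x * z := by rw [hz.2.1, ← hzz b hβb, hx]; group
    have h2 : q * x * q⁻¹ = x := by rw [C.cB_comm e hq.1, mul_inv_cancel_right]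
    exact mul_eq_left.1 (h1.symm.trans h2)
  have hxQ2 : x ∈ C.Q (p 2) := mul_mem (mul_mem (C.le_Q_two hb h01 h12 hA hs)
    (C.le_Q_two hb hγ1 h12 hγA hcZ)) (C.Z_le_Q hp2A hb2)
  have hsc : s * c' = c' * s := (C.Z_comm_Q hA (C.le_Q_two hb hγ1 (C.symm h01) hγA hcZ) hs).symm
  have hsb : s * b = b * s := C.Z_comm_Q hp2A (C.le_Q_two hb h01 h12 hA hs) hb2
  have hcb : c' * b = b * c' := C.Z_comm_Q hp2A (C.le_Q_two hb hγ1 h12 hγA hcZ) hb2
  have hse : Commute s c' := hsc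
  have hx2 : x * x = 1 := by
    have hb3 : Commute b (s * c') := (Commute.mul_left hsb hcb).symm
    calc x * x = s * c' * (b * (s * c')) * b := by rw [hx]; group
      _ = (s * c') * (s * c') * (b * b) := by rw [hb3.eq]; group
      _ = s * (c' * s) * c' := by rw [C.Z_sq hp2A hb2]; group
      _ = (s * s) * (c' * c') := by rw [← hsc]; group
      _ = 1 := by rw [C.Z_sq hA hs, C.Z_sq hγA hcZ, one_mul]
  have hxt : t * x = x * t := by
    have h1 : t * b = b * t := C.Z_comm_Q hp2A (C.far_le_Q hp ho hν le_rfl (by omega) ht) hb2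
    obtain ⟨-, -, n3, -⟩ := C.moves_far hp hb hs hsQ hν hνne
    have hsν := C.smul_Z hνA (g := s) ht
    have h2 : t * (s * t * s⁻¹) = s * t * s⁻¹ * t :=
      (C.Z_comm_Q hνA (C.le_Q_two hb (C.symm n3) hν (C.far_A hp ho n3) hsν) ht).symm
    have he : s * c' = s * t * s⁻¹ * t := by
      rw [hc', C.Z_inv hA hs, C.Z_inv hνA ht]; group
    calc t * x = t * (s * t * s⁻¹) * t * b := by rw [hx, he]; group
      _ = s * t * s⁻¹ * t * (t * b) := by rw [h2]; group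
      _ = x * t := by rw [h1, hx, he]; group
  have hxK : x ∈ C.Z (p 2) := by
    rw [C.Z_eq_K2 hp2A]
    refine ⟨hxQ2, hx2, fun y hy => ?_⟩
    have hD : ∀ y ∈ C.Q (p 1), y ∈ C.Q (p 2) → y * x = x * y := by
      intro y hy1 hy2
      have a1 := C.Z_comm_Q hA (DN h01 hA h12 h20 y hy1 hy2) hs
      have a2 := C.Z_comm_Q hγA (DN hγ1 hγA h12 tne2.symm y hy1 hy2) hcZ
      have a3 := C.Z_comm_Q hp2A hy2 hb2
      rw [hx]
      exact (Commute.mul_right (Commute.mul_right a1 a2) a3).eq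
    by_cases hy1 : y ∈ C.Q (p 1)
    · exact hD y hy1 hy
    · have htQ2 := C.far_le_Q hp ho hν le_rfl (by omega) ht
      have h1 := hD _ (C.two_coset' h12 htQ2 hy htQ hy1) (mul_mem htQ2 hy)
      calc y * x = t⁻¹ * (t * y * x) := by group
        _ = t⁻¹ * (x * t) * y := by rw [h1]; group
        _ = x * y := by rw [← hxt]; group
  have hm := C.Z_mul (C.symm h12) hp2A k hxK hb2 hxnot hb'
  have he : c' ∈ C.Z (p 0) := by
    have h1 : x * b = s * c' := by rw [hx, mul_assoc, C.Z_sq hp2A hb2, mul_one]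
    have h2 := mul_mem hs (C.cB_le_Z h01 (h1 ▸ hm))
    rwa [← mul_assoc, C.Z_sq hA hs, one_mul] at h2
  exact hc'' (hYc c' (hY c' he hcZ))

theorem Z_inter (hp : C.CP p) (hb : 3 ≤ C.bb) (ho : Odd C.bb) {a β a' : V} (ha : C.Adj a β)
    (hA : C.A a) (ha' : C.Adj β a') (hne : a' ≠ a) {x : X} (hx : x ∈ C.Z a) (hx' : x ∈ C.Z a') :
    x ∈ C.cB β := by
  have hβ := C.not_A ha hA
  have hA' : C.A a' := (C.A_iff_of_two ha ha').1 hA
  have hYmem : ∀ y ∈ C.Z a, y ∈ C.Z a' → y ∈ C.YY β := fun y hy hy' =>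
    C.mem_YY.2 fun w hw => C.inter_mem (C.symm ha) ha' hw hA hne hy hy'
  let H : Subgroup X :=
    { carrier := {g | g • β = β ∧ ∀ y ∈ C.YY β, y * (g * y * g⁻¹) ∈ C.cB β}
      one_mem' := ⟨one_smul _ _, fun y hy => by
        simp [C.Z_sq hA (C.mem_YY.1 hy a (C.symm ha))]⟩
      mul_mem' := by
        rintro g k ⟨hg, hg'⟩ ⟨hk, hk'⟩
        refine ⟨by rw [mul_smul, hk, hg], fun y hy => ?_⟩
        have e1 := hk' y hy
        have e2 := hg' y hy
        have h3 : k * y * k⁻¹ = y * (y * (k * y * k⁻¹)) := by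
          rw [← mul_assoc, C.Z_sq hA (C.mem_YY.1 hy a (C.symm ha)), one_mul]
        have h4 : y * (g * k * y * (g * k)⁻¹) = y * (g * y * g⁻¹) * (y * (k * y * k⁻¹)) := by
          calc y * (g * k * y * (g * k)⁻¹) = y * (g * (k * y * k⁻¹) * g⁻¹) := by group
            _ = y * (g * y * g⁻¹) * (g * (y * (k * y * k⁻¹)) * g⁻¹) := by nth_rw 1 [h3]; group
            _ = _ := by rw [C.cB_comm e1 hg, mul_inv_cancel_right]
        rw [h4]
        exact mul_mem e2 e1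
      inv_mem' := by
        rintro g ⟨hg, hg'⟩
        refine ⟨inv_smul_eq_iff.2 hg.symm, fun y hy => ?_⟩
        have hy2 := C.Z_sq hA (C.mem_YY.1 hy a (C.symm ha))
        have e1 := hg' y hy
        have h3 : g * y * g⁻¹ = y * (y * (g * y * g⁻¹)) := by rw [← mul_assoc, hy2, one_mul]
        generalize y * (g * y * g⁻¹) = e at h3 e1
        have h4 : g⁻¹ * y * g⁻¹⁻¹ = y * e⁻¹ := by
          calc g⁻¹ * y * g⁻¹⁻¹ = g⁻¹ * (g * y * g⁻¹ * e⁻¹) * g := by rw [h3]; group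
            _ = y * (g⁻¹ * e⁻¹ * g) := by group
            _ = y * e⁻¹ := by
              congr 1
              rw [C.cB_comm (inv_mem e1) (inv_smul_eq_iff.2 hg.symm)]; group
        rw [h4, ← mul_assoc, hy2, one_mul]
        exact inv_mem e1 }
  have hHle : St β ≤ H := by
    have hE : ∀ o, C.Adj β o → Ed β o ≤ H := fun o ho' g hg =>
      ⟨hg.1, fun y hy => C.mul_conj_mem (C.symm ho') (C.A_of_not (C.symm ho') hβ)
        (C.mem_YY.1 hy o ho') (Ed_swap hg)⟩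
    exact C.St_le_of_two (C.symm ha) ha' hne.symm (hE a (C.symm ha)) (hE a' ha')
  have hsq : ∀ g : X, g • β = β → ∀ y ∈ C.YY β, g * g * y = y * (g * g) := by
    intro g hg y hy
    have e1 := (hHle hg).2 y hy
    have hy2 := C.Z_sq hA (C.mem_YY.1 hy a (C.symm ha))
    have h3 : g * y * g⁻¹ = y * (y * (g * y * g⁻¹)) := by rw [← mul_assoc, hy2, one_mul]
    refine mul_inv_eq_iff_eq_mul.1 ?_
    calc g * g * y * (g * g)⁻¹ = g * (g * y * g⁻¹) * g⁻¹ := by group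
      _ = g * y * g⁻¹ * (g * (y * (g * y * g⁻¹)) * g⁻¹) := by nth_rw 1 [h3]; group
      _ = g * y * g⁻¹ * (y * (g * y * g⁻¹)) := by rw [C.cB_comm e1 hg, mul_inv_cancel_right]
      _ = y * (y * (g * y * g⁻¹)) * (y * (g * y * g⁻¹)) := by nth_rw 1 [h3]
      _ = y := by rw [mul_assoc, e1.2.1, mul_one]
  obtain ⟨e1, he1, he1Q⟩ := C.exists_Ed_not_Q (C.symm ha)
  obtain ⟨e2, he2, he2Q⟩ := C.exists_Ed_not_Q ha'
  obtain ⟨m1, m2, m3, m4⟩ := C.moves (C.symm ha) ha' hne he1 he1Q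
  obtain ⟨n1, n2, n3, n4⟩ := C.moves ha' (C.symm ha) hne.symm he2 he2Q
  have hsame : e2 • a = e1 • a' := by
    rcases C.three (C.symm ha) ha' m3 n3 hne m2 m1.symm with e | e | e
    · exact absurd e n1
    · exact absurd e n2
    · exact e
  set g := e1 * e2 with hg
  have hgβ : g • β = β := by rw [hg, mul_smul, he2.1, he1.1]
  have ga : g • a = a' := by rw [hg, mul_smul, hsame, m4]
  have ga' : g • a' = e1 • a' := by rw [hg, mul_smul, he2.2]
  set d := g * g * (g * g) with hd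
  have hda : d • a = a' := by
    have gw : g • e1 • a' = a := by
      rw [hg, mul_smul, ← hsame, n4, he1.2]
    rw [hd, mul_smul (g * g), mul_smul g g, mul_smul g g, ga, ga', gw, ga]
  have hdβ : d • β = β := by simp [hd, mul_smul, hgβ]
  have hdc : ∀ y ∈ C.YY β, d * y = y * d := fun y hy => by
    have h1 : Commute (g * g) y := hsq g hgβ y hy
    exact (h1.mul_left h1).eq
  have hconj : ∀ k : X, k • β = β → ∀ y ∈ C.YY β, k * y * k⁻¹ ∈ C.YY β := fun k hk y hy => by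
    simpa [hk] using C.smul_YY hβ (g := k) hy
  have hq : ∃ q ∈ C.Q β, q ∉ C.Q a ∧ ∀ y ∈ C.YY β, q * y = y * q := by
    by_contra hno
    push Not at hno
    obtain ⟨q, hq, hqa, hqa'⟩ := C.mover_B hp hb ho (C.symm ha') hA' (C.symm ha) hne.symm
    apply hqa'
    -- go round the cycle twice
    have h4 : ∀ k, k ∈ C.Q β → k ∈ C.Q a → d * k * d⁻¹ ∈ C.Q a := by
      intro k hk hka
      have h1 : d * k * d⁻¹ * k⁻¹ ∈ C.Q β := mul_mem (C.conj_Q hdβ hk) (inv_mem hk)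
      by_contra h
      obtain ⟨y, hy, hne'⟩ := hno _ h1 fun e => h (by simpa using mul_mem e hka)
      apply hne'
      have hy' := hconj k⁻¹ (inv_smul_eq_iff.2 hk.1.symm) y hy
      have c1 := hdc y hy
      have c2 := hdc _ hy'
      calc d * k * d⁻¹ * k⁻¹ * y = d * k * d⁻¹ * ((k⁻¹ * y * k⁻¹⁻¹) * d) * d⁻¹ * k⁻¹ := by group
        _ = (d * y) * k * d⁻¹ * k⁻¹ := by rw [← c2]; group
        _ = y * (d * k * d⁻¹ * k⁻¹) := by rw [c1]; group
    -- the conjugation is onto the finite intersection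
    haveI : Finite ↥(C.Q β ⊓ C.Q a) := C.finite_le (inf_le_left.trans (C.Q_le_St β))
    have hn : d ∈ Subgroup.normalizer ((C.Q β ⊓ C.Q a : Subgroup X) : Set X) :=
      mem_normalizer_finite fun k hk => ⟨C.conj_Q hdβ hk.1, h4 k hk.1 hk.2⟩
    have hm : d⁻¹ * q * d ∈ C.Q a := by
      have := ((Subgroup.mem_normalizer_iff.1 (inv_mem hn)) q).1 ⟨hq, hqa⟩
      simpa using this.2
    have := C.smul_Q (g := d) hm
    rw [hda] at this
    simpa [mul_assoc] using this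
  obtain ⟨q, hq, hqa, hqc⟩ := hq
  exact C.mem_cB_of_commute ha hA hx (Ed_swap (C.Q_le_Ed (C.symm ha) hq)) hqa
    (hqc x (hYmem x hx hx'))

end Ctx

end CfsgLib.Goldschmidt
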