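import Cfsg.Agent.Lib.Amalgam.Goldschmidt.OddBase

/-!
Odd critical lengths at least three: the order of the centre and the two ends of a critical walk.
-/

set_option autoImplicit false
set_option linter.unusedSectionVars false
set_option linter.unusedVariables false
set_option linter.style.haveILetI false

namespace CfsgLib.Goldschmidt

variable {X : Type*} [Group X] {V : Type*} [MulAction X V]

local notation "St" => MulAction.stabilizer X

namespace Ctx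

variable (C : Ctx X V)

/-- A mover of length `bb - 2` ending in `A`. -/
def MovA : Prop := C.HasMover (C.bb - 2) True

include C

variable {p : ℕ → V}

theorem tr_of_movA (hp : C.CP p) (ho : Odd C.bb) (hm : C.MovA) : ∀ n, n ≤ C.bb - 1 → C.Tr n := by
  have h3 := C.one_le_bb hp
  obtain ⟨q, a, b, c, d⟩ := C.hasMover_mono (m := C.bb - 2) (by omega) (C.hasMover_CP_end hp)
  intro n hn
  refine C.tr_of_movers (N := C.bb - 2) (C.movers_both (P := True) hm ⟨q, a, b, ?_, d⟩) n (by omega)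
  exact c.trans (iff_of_false (C.CP_end_not_A hp ho) (not_not_intro trivial))

/-- With a mover at the `A` side, critical walks continue forwards. -/
theorem succ_CP (hp : C.CP p) (ho : Odd C.bb) (hb : 3 ≤ C.bb) (hm : C.MovA) :
    ∃ q, C.CP q ∧ ∀ i, i + 2 ≤ C.bb → q i = p (i + 2) := by
  obtain ⟨g, hg⟩ := C.tr_of_movA hp ho hm (C.bb - 2) (by omega) p (fun i => p (i + 2))
    (IsW.mono C hp.1 (by omega)) (fun i hi => C.CP_nb hp i (by omega))
    (C.isW_shift hp.1 (by omega)) (nb_shift (C.CP_nb hp) (by omega))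
    (iff_of_true hp.2.1 ((C.CP_A hp (by omega)).2 even_two))
  exact ⟨fun i => g • p i, C.CP_smul hp g, fun i hi => hg i (by omega)⟩

theorem comm_self (hp : C.CP p) (hb : 3 ≤ C.bb) (k : Nat.card ↥(C.cB (p 1)) = 2) {x : X}
    (hx : x ∈ C.Z (p 0)) (hxQ : x ∈ C.Q (p C.bb)) : x ∈ C.cB (p 1) := by
  obtain ⟨s, hs, hsQ⟩ := SetLike.not_le_iff_exists.1 hp.2.2
  by_contra hxc
  have hle := C.cB_one_le_end hp hb
  have h1 := hle (C.Z_mul (C.CP_adj hp (by omega)) hp.2.1 k hs hx (fun e => hsQ (hle e)) hxc)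
  exact hsQ (by simpa using mul_mem h1 (inv_mem hxQ))

theorem comm_far (hp : C.CP p) (hb : 3 ≤ C.bb) (ho : Odd C.bb) {ν : V} (hν : C.Adj (p C.bb) ν)
    (hνQ : ¬ C.Z ν ≤ C.Q (p 1)) {x : X} (hx : x ∈ C.Z (p 0)) (hxQ : x ∈ C.Q ν) :
    x ∈ C.cB (p 1) := by
  obtain ⟨t, ht, htQ⟩ := SetLike.not_le_iff_exists.1 hνQ
  have h12 : C.Adj (p 1) (p 2) := C.CP_adj hp (by omega)
  have h01 : C.Adj (p 0) (p 1) := C.CP_adj hp (by omega)
  obtain ⟨tne, -, tadj, -⟩ := C.moves h12 (C.symm h01) (fun e => C.CP_nb hp 0 (by omega) e.symm)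
    ⟨C.far_le_St hp ho hν le_rfl (by omega) ht, C.far_le_St hp ho hν (by omega) (by omega) ht⟩ htQ
  refine C.Z_inter hp hb ho h01 hp.2.1 tadj tne hx ?_
  have h2 := C.smul_Z hp.2.1 (g := t) hx
  rwa [← C.Z_comm_Q (C.far_A hp ho hν) hxQ ht, mul_inv_cancel_right] at h2

/-- If all far `Z`s lie in the kernel at the second vertex, the centre has order two, there is a mover
at the `A` side, and a nontrivial commutator lies in both ends. -/
theorem not_far_aux (hp : C.CP p) (hb : 3 ≤ C.bb) (ho : Odd C.bb)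
    (hC1 : ∀ ν, C.Adj (p C.bb) ν → C.Z ν ≤ C.Q (p 1)) :
    Nat.card ↥(C.cB (p 1)) = 2 ∧ C.MovA ∧
      ∃ ν, C.Adj (p C.bb) ν ∧ ∃ ν', C.Adj (p C.bb) ν' ∧ ∃ e ∈ C.cB (p 1), e ≠ 1 ∧
        ∃ v ∈ C.Z ν, ∃ v' ∈ C.Z ν', e = v' * v := by
  have h01 : C.Adj (p 0) (p 1) := C.CP_adj hp (by omega)
  have h12 : C.Adj (p 1) (p 2) := C.CP_adj hp (by omega)
  have hlast := C.CP_adj_last hp hb
  obtain ⟨s, hs, hsQ⟩ := SetLike.not_le_iff_exists.1 hp.2.2
  obtain ⟨ν, -, hν, -, hνne, -, -⟩ := C.exists_others hlast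
  have hνA := C.far_A hp ho hν
  obtain ⟨m1, m2, m3, -⟩ := C.moves_far hp hb hs hsQ hν hνne
  have hEd : ∀ v ∈ C.Z ν, v ∈ (Ed (p 0) (p 1) : Subgroup X) := fun v hv =>
    ⟨(hC1 ν hν hv).2 _ (C.symm h01), (hC1 ν hν hv).1⟩
  have hsub : C.Z ν ⊓ C.Q (p 0) ≤ C.cB (p C.bb) := by
    intro v hv
    refine C.Z_inter hp hb ho (C.symm hν) hνA m3 m1 hv.1 ?_
    have h2 := C.smul_Z hνA (g := s) hv.1
    rwa [← C.Z_comm_Q hp.2.1 hv.2 hs, mul_inv_cancel_right] at h2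
  haveI := C.finite_Z hνA
  have hidx := card_le_two_mul (H := C.Q (p 0)) (K := C.Z ν) fun x hx y hy =>
    C.two_coset h01 (hEd x hx) (hEd y hy)
  have k' := C.card_cB_two_le (C.symm hν) hνA hsub hidx
  refine ⟨by rwa [C.card_cB_eq h01 (C.symm hν) hp.2.1 hνA], ?_⟩
  obtain ⟨v, hv, hv'⟩ := C.exists_Z_not_cB (C.symm hν) hνA
  have hvQ : v ∉ C.Q (p 0) := fun e => hv' (hsub ⟨hv, e⟩)
  refine ⟨⟨fun i => p (C.bb - 2 - i), C.isW_rev (IsW.mono C hp.1 (by omega)),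
    nb_rev (fun i hi => C.CP_nb hp i (by omega)), by simpa using hp.2.1, v, fun i hi => ?_,
    by simpa using hvQ⟩, ν, hν, s • ν, m3, s * (v * s * v⁻¹), C.mul_conj_mem h01 hp.2.1 hs (hEd v hv),
    ?_, v, hv, s * v * s⁻¹, C.smul_Z hνA hv, ?_⟩
  · rcases Nat.eq_zero_or_pos (C.bb - 2 - i) with h | h
    · show v • p (C.bb - 2 - i) = p (C.bb - 2 - i)
      rw [h]; exact (hEd v hv).1
    · exact C.far_le_St hp ho hν h (by omega) hv
  · intro e
    have h := conj_eq_of_comm e (C.Z_sq hp.2.1 hs)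
    rw [mul_one, mul_inv_eq_iff_eq_mul] at h
    exact hsQ (C.cB_one_le_end hp hb (C.mem_cB_of_commute h01 hp.2.1 hs (hEd v hv) hvQ h))
  · rw [C.Z_inv hνA hv, C.Z_inv hp.2.1 hs]; group

theorem card_cB_odd (hp : C.CP p) (hb : 3 ≤ C.bb) (ho : Odd C.bb) {a b : V} (h : C.Adj a b)
    (ha : C.A a) : Nat.card ↥(C.cB b) = 2 := by
  have h01 : C.Adj (p 0) (p 1) := C.CP_adj hp (by omega)
  rw [C.card_cB_eq h h01 ha hp.2.1]
  by_contra hk
  have hlast := C.CP_adj_last hp hb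
  by_cases hC1 : ∀ ν, C.Adj (p C.bb) ν → C.Z ν ≤ C.Q (p 1)
  · exact hk (C.not_far_aux hp hb ho hC1).1
  push Not at hC1
  obtain ⟨ν, hν, hνQ⟩ := hC1
  have hνA := C.far_A hp ho hν
  have hνne : ν ≠ p (C.bb - 1) := fun e => hνQ
    (e ▸ C.CP_le_Q hp (Nat.sub_le _ _) (by omega) (C.even_pred ho) (by omega))
  obtain ⟨s, hs, hsQ⟩ := SetLike.not_le_iff_exists.1 hp.2.2
  have hA := hp.2.1
  haveI := C.finite_Z hA
  haveI := C.finite_Z hνA
  have c1 := card_le_two_mul (H := C.Q (p C.bb)) (K := C.Z (p 0)) fun x hx y hy =>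
    C.two_coset hlast ⟨C.CP_le_St hp (Nat.zero_le _) le_rfl Even.zero hx,
        C.CP_le_St hp (Nat.zero_le _) (Nat.sub_le _ _) Even.zero hx⟩
      ⟨C.CP_le_St hp (Nat.zero_le _) le_rfl Even.zero hy,
        C.CP_le_St hp (Nat.zero_le _) (Nat.sub_le _ _) Even.zero hy⟩
  obtain ⟨u, ⟨hu, huQ⟩, huc⟩ := SetLike.not_le_iff_exists.1 fun hle =>
    hk (C.card_cB_two_le h01 hA hle c1)
  have huν : u ∉ C.Q ν := fun e => huc (C.comm_far hp hb ho hν hνQ hu e)
  obtain ⟨m1, -, m3, -⟩ := C.moves_far hp hb hs hsQ hν hνne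
  have c2 := card_le_two_mul (H := C.Q (p 1)) (K := C.Z ν) fun x hx y hy =>
    C.two_coset (C.CP_adj hp (i := 1) (by omega))
      ⟨C.far_le_St hp ho hν le_rfl (by omega) hx, C.far_le_St hp ho hν (by omega) (by omega) hx⟩
      ⟨C.far_le_St hp ho hν le_rfl (by omega) hy, C.far_le_St hp ho hν (by omega) (by omega) hy⟩
  have hknu : Nat.card ↥(C.cB (p C.bb)) ≠ 2 := by rwa [C.card_cB_eq (C.symm hν) h01 hνA hA]
  obtain ⟨u', ⟨hu', hu'Q⟩, hu'c⟩ := SetLike.not_le_iff_exists.1 fun hle =>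
    hknu (C.card_cB_two_le (C.symm hν) hνA hle c2)
  have hu'0 : u' ∉ C.Q (p 0) := fun e => hu'c (by
    refine C.Z_inter hp hb ho (C.symm hν) hνA m3 m1 hu' ?_
    have h2 := C.smul_Z hνA (g := s) hu'
    rwa [← C.Z_comm_Q hA e hs, mul_inv_cancel_right] at h2)
  have huE : u ∈ (Ed ν (p C.bb) : Subgroup X) := ⟨huQ.2 ν hν, huQ.1⟩
  have hu'E : u' ∈ (Ed (p 0) (p 1) : Subgroup X) := ⟨hu'Q.2 _ (C.symm h01), hu'Q.1⟩
  have e1 := C.mul_conj_mem h01 hA hu hu'E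
  have e2 := inv_mem (C.mul_conj_mem (C.symm hν) hνA hu' huE)
  set f := u * (u' * u * u'⁻¹) with hf
  have ef : (u' * (u * u' * u⁻¹))⁻¹ = f := by
    rw [hf, C.Z_inv hA hu, C.Z_inv hνA hu']
    simp only [mul_inv_rev, C.Z_inv hA hu, C.Z_inv hνA hu']
    group
  rw [ef] at e2
  have hf1 : f ≠ 1 := fun e => by
    have h := conj_eq_of_comm e (C.Z_sq hA hu)
    rw [mul_one, mul_inv_eq_iff_eq_mul] at h
    exact huc (C.mem_cB_of_commute h01 hA hu hu'E hu'0 h)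
  by_cases h5 : C.bb = 3
  · refine hf1 (C.cB_inf (C.symm (C.CP_adj hp (i := 1) (by omega))) (C.CP_adj hp (i := 2) (by omega))
      (fun e => C.CP_nb hp 1 (by omega) e.symm) e1 ?_)
    rw [show 2 + 1 = C.bb by omega]; exact e2
  have hb5 : 5 ≤ C.bb := by obtain ⟨m, hm⟩ := ho; omega
  -- `u` moves the end of a walk of length `bb - 2` ending at `ν`
  have hm : C.MovA := by
    refine ⟨fun i => if i + 3 ≤ C.bb then p (i + 3) else ν, fun i hi => ?_, fun i hi => ?_, ?_,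
      u, fun i hi => ?_, ?_⟩
    · dsimp only
      rw [if_pos (by omega)]
      split_ifs with h
      · rw [show i + 1 + 3 = i + 3 + 1 by omega]; exact C.CP_adj hp (by omega)
      · rw [show i + 3 = C.bb by omega]; exact hν
    · dsimp only
      rw [if_pos (by omega : i + 3 ≤ C.bb)]
      split_ifs with h
      · rw [show i + 2 + 3 = i + 3 + 2 by omega]; exact C.CP_nb hp _ (by omega)
      · rw [show i + 3 = C.bb - 1 by omega]; exact hνne
    · dsimp only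
      rw [if_neg (by omega)]; exact iff_of_true hνA trivial
    · dsimp only
      split_ifs with h
      · exact C.CP_le_St hp (Nat.zero_le _) h Even.zero hu
      · exact huE.1
    · dsimp only
      rwa [if_neg (by omega)]
  obtain ⟨q, hq, hqp⟩ := C.succ_CP hp ho hb hm
  by_cases hq1 : ∀ w, C.Adj (q C.bb) w → C.Z w ≤ C.Q (q 1)
  · have := (C.not_far_aux hq hb ho hq1).1
    rw [C.card_cB_eq (C.CP_adj hq (i := 0) (by omega)) h01 hq.2.1 hA] at this
    exact hk this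
  push Not at hq1
  obtain ⟨w, hw, hwQ⟩ := hq1
  have hq0 : q 0 = p 2 := hqp 0 (by omega)
  have hqα : q (C.bb - 2) = p C.bb := by rw [hqp _ (by omega), show C.bb - 2 + 2 = C.bb by omega]
  have hf0 : f ∈ C.Z (q 0) := hq0 ▸ C.cB_le_Z (C.symm (C.CP_adj hp (i := 1) (by omega))) e1
  have hadj : C.Adj (q (C.bb - 1)) (p C.bb) := by
    have := C.CP_adj hq (i := C.bb - 2) (by omega)
    rw [show C.bb - 2 + 1 = C.bb - 1 by omega, hqα] at this
    exact C.symm this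
  have hfw : f ∈ C.Q w :=
    C.le_Q_two hb (C.symm (C.CP_adj_last hq hb)) hw ((C.CP_A hq (Nat.sub_le _ _)).2 (C.even_pred ho))
      (C.cB_le_Z hadj e2)
  have h3 := C.comm_far hq hb ho hw hwQ hf0 hfw
  rw [hqp 1 (by omega)] at h3
  exact hf1 (C.cB_inf (C.symm (C.CP_adj hp (i := 1) (by omega))) (C.CP_adj hp (i := 2) (by omega))
    (fun e => C.CP_nb hp 1 (by omega) e.symm) e1 h3)

theorem exists_far (hp : C.CP p) (hb : 3 ≤ C.bb) (ho : Odd C.bb) :
    ∃ ν, C.Adj (p C.bb) ν ∧ ¬ C.Z ν ≤ C.Q (p 1) := by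
  have h01 : C.Adj (p 0) (p 1) := C.CP_adj hp (by omega)
  by_cases h5 : C.bb = 3
  · -- reverse the last two edges
    have h12 : C.Adj (p 1) (p 2) := C.CP_adj hp (by omega)
    have h23 : C.Adj (p 2) (p 3) := C.CP_adj hp (by omega)
    have hne : p 3 ≠ p 1 := C.CP_nb hp 1 (by omega)
    have hs : C.A (p 1) ↔ C.A (p 3) := C.A_iff_of_two h12 h23
    obtain ⟨g, g1, -, g3⟩ := C.pair_map h12 h23 hne (C.symm h23) (C.symm h12) hne.symm hs
    refine ⟨g • p 0, ?_, ?_⟩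
    · rw [h5, ← g1]; exact C.smul_adj g (C.symm h01)
    · rw [← g3]
      have := hp.2.2
      rw [h5] at this
      exact C.not_le_of_smul g hp.2.1 this
  have hb5 : 5 ≤ C.bb := by obtain ⟨m, hm⟩ := ho; omega
  by_contra hno
  push Not at hno
  obtain ⟨k, hm, ν, hν, ν', hν', e, he, he1, v, hv, v', hv', hev⟩ := C.not_far_aux hp hb ho hno
  obtain ⟨q, hq, hqp⟩ := C.succ_CP hp ho hb hm
  have hq0 : q 0 = p 2 := hqp 0 (by omega)
  have hqα : q (C.bb - 2) = p C.bb := by rw [hqp _ (by omega), show C.bb - 2 + 2 = C.bb by omega]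
  have hw2 : C.IsW 2 (fun i => q (i + (C.bb - 2))) := C.isW_shift hq.1 (by omega)
  have hle : ∀ ν, C.Adj (p C.bb) ν → C.Z ν ≤ C.Q (q C.bb) := fun ν hν => by
    have := C.le_Q_walk (C.isW_cons (v := ν) (by simpa [hqα] using C.symm hν) hw2)
      (by simpa using C.far_A hp ho hν) (by omega)
    simpa [show 2 + (C.bb - 2) = C.bb by omega] using this
  have h1 := C.comm_self hq hb
    (C.card_cB_odd hp hb ho (C.CP_adj hq (i := 0) (by omega)) hq.2.1)
    (x := e) (hq0 ▸ C.cB_le_Z (C.symm (C.CP_adj hp (i := 1) (by omega))) he)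
    (hev ▸ mul_mem (hle ν' hν' hv') (hle ν hν hv))
  rw [hqp 1 (by omega)] at h1
  exact he1 (C.cB_inf (C.symm (C.CP_adj hp (i := 1) (by omega))) (C.CP_adj hp (i := 2) (by omega))
    (fun e => C.CP_nb hp 1 (by omega) e.symm) he h1)

theorem far (hp : C.CP p) (hb : 3 ≤ C.bb) (ho : Odd C.bb) {ν : V} (hν : C.Adj (p C.bb) ν)
    (hne : ν ≠ p (C.bb - 1)) : ¬ C.Z ν ≤ C.Q (p 1) := by
  obtain ⟨ν₀, hν₀, hν₀Q⟩ := C.exists_far hp hb ho
  by_cases h : ν = ν₀
  · exact h ▸ hν₀Q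
  obtain ⟨s, hs, hsQ⟩ := SetLike.not_le_iff_exists.1 hp.2.2
  have hνne : ν₀ ≠ p (C.bb - 1) := fun e => hν₀Q
    (e ▸ C.CP_le_Q hp (Nat.sub_le _ _) (by omega) (C.even_pred ho) (by omega))
  obtain ⟨m1, m2, m3, -⟩ := C.moves_far hp hb hs hsQ hν₀ hνne
  have e : s • ν₀ = ν := by
    rcases C.three (C.CP_adj_last hp hb) hν₀ hν m3 hνne hne (Ne.symm h) with e | e | e
    · exact absurd e m2
    · exact absurd e m1
    · exact e
  intro hle
  refine hν₀Q fun y hy => ?_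
  have h1 : s * y * s⁻¹ ∈ C.Q (p 1) := hle (e ▸ C.smul_Z (C.far_A hp ho hν₀) hy)
  have hs1 : s⁻¹ • p 1 = p 1 := inv_smul_eq_iff.2
    (C.CP_le_St hp (Nat.zero_le _) (by omega : 1 ≤ C.bb) Even.zero hs).symm
  simpa [mul_assoc] using C.conj_Q hs1 h1

/-- The reversed walk, continued by a far neighbour, is critical. -/
theorem rev_CP (hp : C.CP p) (hb : 3 ≤ C.bb) (ho : Odd C.bb) {ν : V} (hν : C.Adj (p C.bb) ν)
    (hne : ν ≠ p (C.bb - 1)) : C.CP (cons ν fun i => p (C.bb - i)) := by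
  obtain ⟨n, hn⟩ : ∃ n, C.bb = n + 1 := ⟨C.bb - 1, by omega⟩
  refine ⟨?_, by simpa using C.far_A hp ho hν, ?_⟩
  · conv => arg 2; rw [hn]
    exact C.isW_cons (by simpa using C.symm hν) (IsW.mono C (C.isW_rev hp.1) (by omega))
  · have := C.far hp hb ho hν hne
    rwa [hn, cons_zero, cons_succ, show n + 1 - n = 1 by omega]

theorem near (hp : C.CP p) (hb : 3 ≤ C.bb) (ho : Odd C.bb) {μ : V} (hμ : C.Adj (p 1) μ)
    (hne : μ ≠ p 2) : ¬ C.Z μ ≤ C.Q (p C.bb) := by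
  obtain ⟨ν, -, hν, -, hνne, -, -⟩ := C.exists_others (C.CP_adj_last hp hb)
  obtain ⟨n, hn⟩ : ∃ n, C.bb = n + 2 := ⟨C.bb - 2, by omega⟩
  have := C.far (C.rev_CP hp hb ho hν hνne) hb ho (ν := μ)
    (by rw [hn]; simpa [cons_succ] using hμ)
    (by rw [hn]; simpa [cons_succ, show n + 2 - n = 2 by omega] using hne)
  simpa [cons] using this

theorem CP_near (hp : C.CP p) (hb : 3 ≤ C.bb) (ho : Odd C.bb) {μ : V} (hμ : C.Adj (p 1) μ)
    (hne : μ ≠ p 2) : C.CP (cons μ fun i => p (i + 1)) := by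
  obtain ⟨n, hn⟩ : ∃ n, C.bb = n + 1 := ⟨C.bb - 1, by omega⟩
  refine ⟨?_, ?_, ?_⟩
  · conv => arg 2; rw [hn]
    exact C.isW_cons (by simpa using C.symm hμ) (C.isW_shift hp.1 (by omega))
  · simpa using (C.A_iff_of_two (C.CP_adj hp (i := 0) (by omega)) hμ).1 hp.2.1
  · have := C.near hp hb ho hμ hne
    simpa [hn] using this

end Ctx

end CfsgLib.Goldschmidt
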