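import Cfsg.Agent.Lib.Amalgam.Goldschmidt.Walk

/-!
Critical length one.
-/

set_option autoImplicit false
set_option linter.unusedSectionVars false
set_option linter.unusedVariables false
set_option linter.style.haveILetI false

namespace CfsgLib.Goldschmidt

variable {X : Type*} [Group X] {V : Type*} [MulAction X V]

local notation "St" => MulAction.stabilizer X

namespace Ctx

variable (C : Ctx X V)

include C

theorem two_coset' {a b : V} (h : C.Adj a b) {x y : X} (hx : x ∈ C.Q b) (hy : y ∈ C.Q b)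
    (hxQ : x ∉ C.Q a) (hyQ : y ∉ C.Q a) : x * y ∈ C.Q a :=
  C.two_coset h (Ed_swap (C.Q_le_Ed (C.symm h) hx)) (Ed_swap (C.Q_le_Ed (C.symm h) hy)) hxQ hyQ

theorem card_le_of_one (hb : C.bb = 1) {p : ℕ → V} (hp : C.CP p) :
    Nat.card ↥(Ed (p 0) (p 1) : Subgroup X) ≤ 2 ^ 7 := by
  have h01 : C.Adj (p 0) (p 1) := C.CP_adj hp (by omega)
  have ha := hp.2.1
  obtain ⟨z, hz, hzQ⟩ := SetLike.not_le_iff_exists.1 hp.2.2
  rw [hb] at hzQ
  generalize p 0 = a, p 1 = β at *
  have hzE : z ∈ (Ed a β : Subgroup X) := C.Q_le_Ed h01 (C.Z_le_Q ha hz)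
  have hzE' : z ∈ (Ed β a : Subgroup X) := Ed_swap hzE
  have h10 := C.symm h01
  have hβ := C.not_A h01 ha
  obtain ⟨u, w, hu, hw, hua, hwa, huw⟩ := C.exists_others h10
  have hzu : z • u = w := by
    obtain ⟨m1, m2, m3, -⟩ := C.moves h10 hu hua hzE' hzQ
    rcases C.three h10 hu hw m3 hua hwa huw with e | e | e
    · exact absurd e m2
    · exact absurd e m1
    · exact e
  -- squares of elements of the kernel at `a` are squares of common elements
  set N := Subgroup.closure {y : X | ∃ x ∈ C.Q a ⊓ C.Q β, y = x * x} with hN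
  have hsq : ∀ x ∈ C.Q a, x * x ∈ N := by
    intro x hx
    by_cases hxQ : x ∈ C.Q β
    · exact Subgroup.subset_closure ⟨x, ⟨hx, hxQ⟩, rfl⟩
    · refine Subgroup.subset_closure ⟨x * z, ⟨mul_mem hx (C.Z_le_Q ha hz),
        C.two_coset h10 (Ed_swap (C.Q_le_Ed h01 hx)) hzE' hxQ hzQ⟩, ?_⟩
      have hc := C.Z_comm_Q ha hx hz
      calc x * x = x * x * (z * z) := by rw [C.Z_sq ha hz, mul_one]
        _ = x * (x * z) * z := by group
        _ = x * (z * x) * z := by rw [hc]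
        _ = x * z * (x * z) := by group
  have hNE : N ≤ Ed a β := by
    rw [hN, Subgroup.closure_le]
    rintro _ ⟨x, hx, rfl⟩
    exact C.Q_le_Ed h01 (mul_mem hx.1 hx.1)
  have hna : St a ≤ Subgroup.normalizer (N : Set X) := by
    intro g hg
    haveI := C.finite_le (hNE.trans inf_le_left)
    refine mem_normalizer_finite fun y hy => ?_
    induction hy using Subgroup.closure_induction with
    | mem y hy =>
      obtain ⟨x, hx, rfl⟩ := hy
      rw [show g * (x * x) * g⁻¹ = g * x * g⁻¹ * (g * x * g⁻¹) by group]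
      exact hsq _ (C.conj_Q hg hx.1)
    | one => simp
    | mul x y _ _ h1 h2 => rw [show g * (x * y) * g⁻¹ = g * x * g⁻¹ * (g * y * g⁻¹) by group]
                           exact mul_mem h1 h2
    | inv x _ h1 => rw [show g * x⁻¹ * g⁻¹ = (g * x * g⁻¹)⁻¹ by group]; exact inv_mem h1
  obtain ⟨g, hga, hgβ⟩ := C.edge h01 (C.symm hu) (iff_of_true ha (C.A_of_not (C.symm hu) hβ))
  set zu := g * z * g⁻¹ with hzu'
  have hzuQ : zu ∉ C.Q β := fun e => hzQ (by rwa [← hgβ, hzu', C.smul_Q_iff] at e)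
  have hzuE : zu ∈ (Ed β u : Subgroup X) := by rw [← hgβ, ← hga]; exact C.smul_Ed hzE'
  obtain ⟨hzua, hzua', hzua3, -⟩ := C.moves hu h10 (Ne.symm hua) hzuE hzuQ
  have hnb : St β ≤ Subgroup.normalizer (N : Set X) := by
    refine C.St_le h10 (fun e he => hna he.2) (g := zu) ?_ hzuE.1 hzua
    refine Subgroup.centralizer_le_normalizer _ ?_
    rw [hN, Subgroup.centralizer_closure, Subgroup.mem_centralizer_iff]
    rintro _ ⟨x, hx, rfl⟩
    have hgfix : g⁻¹ • β = β := inv_smul_eq_iff.2 hgβ.symm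
    have hx' : g⁻¹ * x * g ∈ C.Q β := by simpa using C.conj_Q hgfix hx.2
    have hx2 : g⁻¹ * x * g * (g⁻¹ * x * g) ∈ C.Q a := by
      by_cases k : g⁻¹ * x * g ∈ C.Q a
      · exact mul_mem k k
      · exact C.two_coset' h01 hx' hx' k k
    have := C.Z_comm_Q ha hx2 hz
    calc x * x * zu = g * ((g⁻¹ * x * g * (g⁻¹ * x * g)) * z) * g⁻¹ := by rw [hzu']; group
      _ = zu * (x * x) := by rw [this, hzu']; group
  have hbot := C.faithful h01 N hNE hna hnb
  have hQZ : C.Q a = C.Z a := by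
    refine le_antisymm (fun x hx => ?_) (C.Z_le_Q ha)
    have h2 : ∀ y ∈ C.Q a, y * y = 1 := fun y hy => Subgroup.mem_bot.1 (hbot ▸ hsq y hy)
    rw [C.Z_eq_K2 ha]
    refine ⟨hx, h2 x hx, fun q hq => ?_⟩
    have e := h2 _ (mul_mem hq hx)
    rw [← inv_eq_of_mul_eq_one_right e, mul_inv_rev, inv_eq_of_mul_eq_one_right (h2 x hx),
      inv_eq_of_mul_eq_one_right (h2 q hq)]
  -- the common kernel
  set E := ((C.Q β ⊓ C.Q a) ⊓ C.Q u) ⊓ C.Q w with hE
  have hEZ : E ≤ C.Z a := fun x hx => hQZ ▸ hx.1.1.2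
  have hEn : ∀ k : X, k • β = β → ∀ x ∈ E, k * x * k⁻¹ ∈ E := by
    intro k hk x hx
    have all : ∀ v, C.Adj β v → x ∈ C.Q v := fun v hv => by
      rcases C.three h10 hu hw hv hua hwa huw with rfl | rfl | rfl
      · exact hx.1.1.2
      · exact hx.1.2
      · exact hx.2
    have hk' : k⁻¹ • β = β := inv_smul_eq_iff.2 hk.symm
    have key : ∀ v, C.Adj β v → k * x * k⁻¹ ∈ C.Q v := fun v hv => by
      simpa using C.smul_Q (g := k) (all _ (C.smul_nbr hk' hv))
    exact ⟨⟨⟨C.conj_Q hk hx.1.1.1, key a h10⟩, key u hu⟩, key w hw⟩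
  have hzuZ : zu ∈ C.Z u := hga ▸ C.smul_Z ha hz
  have hu' := C.A_of_not (C.symm hu) hβ
  have hq : ∃ q ∈ C.Q β, q ∉ C.Q a ∧ ∀ x ∈ E, q * x = x * q := by
    by_contra hno
    push Not at hno
    have hEmem : ∀ q ∈ C.Q β, (∀ x ∈ E, q * x = x * q) → q ∈ E := by
      intro q hq hc
      have key : ∀ v, C.Adj β v → q ∈ C.Q v := by
        intro v hv
        obtain ⟨k, hk, hkβ⟩ := C.edge h01 (C.symm hv) (iff_of_true ha (C.A_of_not (C.symm hv) hβ))
        have hk' : k⁻¹ • β = β := inv_smul_eq_iff.2 hkβ.symm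
        have h1 : k⁻¹ * q * k ∈ C.Q β := by simpa using C.conj_Q hk' hq
        by_contra hne
        obtain ⟨x, hx, hxc⟩ := hno _ h1 (fun e => hne (by
          have := C.smul_Q (g := k) e; rwa [hk, show k * (k⁻¹ * q * k) * k⁻¹ = q by group] at this))
        apply hxc
        have := hc _ (hEn k hkβ x hx)
        calc k⁻¹ * q * k * x = k⁻¹ * (q * (k * x * k⁻¹)) * k := by group
          _ = x * (k⁻¹ * q * k) := by rw [this]; group
      exact ⟨⟨⟨hq, key a h10⟩, key u hu⟩, key w hw⟩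
    set d := z * zu with hd
    have hdc : ∀ x ∈ E, d * x = x * d := fun x hx => by
      rw [hd, mul_assoc, ← C.Z_comm_Q hu' hx.1.2 hzuZ, ← mul_assoc, ← C.Z_comm_Q ha hx.1.1.2 hz,
        mul_assoc]
    have hdβ : d • β = β := by rw [hd, mul_smul, hzuE.1, hzE.2]
    have hd2 : d * d ∈ C.Q β := by
      refine C.charp β (d * d) (by rw [mul_smul, hdβ, hdβ]) fun x hx => ?_
      have he : d * x * d⁻¹ * x⁻¹ ∈ E := by
        refine hEmem _ (mul_mem (C.conj_Q hdβ hx) (inv_mem hx)) fun y hy => ?_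
        have hy' : x⁻¹ * y * x ∈ E := by
          simpa using hEn x⁻¹ (inv_mem hx).1 y hy
        have h1 := hdc y hy
        have h2 := hdc _ hy'
        calc d * x * d⁻¹ * x⁻¹ * y = d * x * (d⁻¹ * (x⁻¹ * y * x)) * x⁻¹ := by group
          _ = d * x * ((x⁻¹ * y * x) * d⁻¹) * x⁻¹ := by
            rw [show d⁻¹ * (x⁻¹ * y * x) = (x⁻¹ * y * x) * d⁻¹ by
              rw [inv_mul_eq_iff_eq_mul, ← mul_assoc, h2, mul_inv_cancel_right]]
          _ = (d * y) * x * d⁻¹ * x⁻¹ := by group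
          _ = y * (d * x * d⁻¹ * x⁻¹) := by rw [h1]; group
      have he2 := C.Z_sq ha (hEZ he)
      have hc := hdc _ he
      have : d * d * x * (d * d)⁻¹ = x := by
        calc d * d * x * (d * d)⁻¹ = d * (d * x * d⁻¹ * x⁻¹) * d⁻¹ * (d * x * d⁻¹ * x⁻¹) * x := by group
          _ = d * x * d⁻¹ * x⁻¹ * (d * x * d⁻¹ * x⁻¹) * x := by rw [hc, mul_inv_cancel_right]
          _ = x := by rw [he2, one_mul]
      exact mul_inv_eq_iff_eq_mul.1 this
    have e1 : zu • a = w := by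
      rcases C.three h10 hu hw hzua3 hua hwa huw with e | e | e
      · exact absurd e hzua
      · exact absurd e hzua'
      · exact e
    have e2 : z • w = u := by
      have := (C.moves h10 hu hua hzE' hzQ).2.2.2
      rwa [hzu] at this
    have e3 : d • a = u := by rw [hd, mul_smul, e1, e2]
    have e4 : d • u = w := by rw [hd, mul_smul, hzuE.2, hzu]
    have := hd2.2 a h10
    rw [mul_smul, e3, e4] at this
    exact hwa this
  obtain ⟨q, hq, hqa, hqc⟩ := hq
  have hEc : E ≤ C.cB β := fun x hx =>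
    C.mem_cB_of_commute h01 ha (hEZ hx) (Ed_swap (C.Q_le_Ed h10 hq)) hqa (hqc x hx)
  haveI := C.finite_Q β
  haveI : Finite ↥(C.Q β ⊓ C.Q a) := C.finite_le (inf_le_left.trans (C.Q_le_St β))
  haveI : Finite ↥(C.Q β ⊓ C.Q a ⊓ C.Q u) :=
    C.finite_le (inf_le_left.trans (inf_le_left.trans (C.Q_le_St β)))
  have c1 := card_le_two_mul (H := C.Q a) (K := C.Q β) fun x hx y hy => C.two_coset' h01 hx hy
  have c2 := card_le_two_mul (H := C.Q u) (K := C.Q β ⊓ C.Q a) fun x hx y hy =>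
    C.two_coset' (C.symm hu) hx.1 hy.1
  have c3 := card_le_two_mul (H := C.Q w) (K := C.Q β ⊓ C.Q a ⊓ C.Q u) fun x hx y hy =>
    C.two_coset' (C.symm hw) hx.1.1 hy.1.1
  haveI := C.finite_cB β
  have c4 : Nat.card E ≤ Nat.card ↥(C.cB β) :=
    Nat.card_le_card_of_injective _ (Subgroup.inclusion_injective hEc)
  have cQ : Nat.card ↥(C.Q β) = Nat.card ↥(C.cB β) ^ 2 := by
    rw [← C.card_Q_eq h01, hQZ, C.card_Z h01 ha]
  have hc0 : 0 < Nat.card ↥(C.cB β) := Nat.card_pos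
  have hc8 : Nat.card ↥(C.cB β) ≤ 8 := by
    rw [pow_two] at cQ
    rw [← hE] at c3
    nlinarith
  rw [C.card_Ed h01, hQZ, C.card_Z h01 ha]
  calc 2 * Nat.card ↥(C.cB β) ^ 2 ≤ 2 * 8 ^ 2 := by gcongr
    _ = 2 ^ 7 := by norm_num

end Ctx

end CfsgLib.Goldschmidt
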