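import Cfsg.Agent.Lib.Amalgam.Goldschmidt.OddEnds

/-!
Odd critical lengths: products of representatives from the three neighbours of a vertex outside `A`.
-/

set_option autoImplicit false
set_option linter.unusedSectionVars false
set_option linter.unusedVariables false
set_option linter.style.haveILetI false

namespace CfsgLib.Goldschmidt

variable {X : Type*} [Group X] {V : Type*} [MulAction X V]

local notation "St" => MulAction.stabilizer X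

theorem six {H : Subgroup X} (hH : ∀ x ∈ H, ∀ y ∈ H, x * y = y * x) {x y w x' y' w' : X}
    (hx : x ∈ H) (hy : y ∈ H) (hw : w ∈ H) (hx' : x' ∈ H) (hy' : y' ∈ H) :
    x * y * w * (x' * y' * w') = x * x' * (y * y') * (w * w') := by
  calc x * y * w * (x' * y' * w') = x * (y * w * x') * y' * w' := by group
    _ = x * (x' * (y * w)) * y' * w' := by rw [hH _ (mul_mem hy hw) _ hx']
    _ = x * x' * y * (w * y') * w' := by group
    _ = x * x' * y * (y' * w) * w' := by rw [hH _ hw _ hy']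
    _ = x * x' * (y * y') * (w * w') := by group

namespace Ctx

variable (C : Ctx X V)

include C

/-- The subgroup generated by the `Z` at the neighbours. -/
def W (b : V) : Subgroup X := ⨆ w, ⨆ (_ : C.Adj b w), C.Z w

theorem Z_le_W {b w : V} (h : C.Adj b w) : C.Z w ≤ C.W b :=
  le_trans (le_iSup (fun _ : C.Adj b w => C.Z w) h) (le_iSup (fun v => ⨆ _ : C.Adj b v, C.Z v) w)

theorem W_le_Q (hb : 2 ≤ C.bb) {b : V} (hB : ¬ C.A b) : C.W b ≤ C.Q b :=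
  iSup₂_le fun w hw => C.le_Q_one hb (C.symm hw) (C.A_of_not (C.symm hw) hB)

theorem W_le_Q_nbr (hb : 3 ≤ C.bb) {b a : V} (hB : ¬ C.A b) (ha : C.Adj b a) : C.W b ≤ C.Q a :=
  iSup₂_le fun w hw => C.le_Q_two hb (C.symm hw) ha (C.A_of_not (C.symm hw) hB)

theorem W_comm (hb : 3 ≤ C.bb) {b : V} (hB : ¬ C.A b) {x y : X} (hx : x ∈ C.W b) (hy : y ∈ C.W b) :
    x * y = y * x := by
  have h1 : C.W b ≤ Subgroup.centralizer (C.W b : Set X) := iSup₂_le fun w hw z hz => by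
    rw [Subgroup.mem_centralizer_iff]
    exact fun q hq =>
      C.Z_comm_Q (C.A_of_not (C.symm hw) hB) (C.W_le_Q_nbr hb hB hw hq) hz
  exact (Subgroup.mem_centralizer_iff.1 (h1 hy) x hx)

theorem smul_W {b : V} (hB : ¬ C.A b) {g x : X} (hx : x ∈ C.W b) :
    g * x * g⁻¹ ∈ C.W (g • b) := by
  have : (C.W b).map (MulAut.conj g).toMonoidHom ≤ C.W (g • b) := by
    rw [W, Subgroup.map_iSup]
    refine iSup_le fun w => ?_
    rw [Subgroup.map_iSup]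
    refine iSup_le fun hw => ?_
    rintro _ ⟨y, hy, rfl⟩
    exact C.Z_le_W (C.smul_adj g hw) (C.smul_Z (C.A_of_not (C.symm hw) hB) hy)
  exact this ⟨x, hx, rfl⟩

theorem conj_W {b : V} (hB : ¬ C.A b) {g x : X} (hg : g • b = b) (hx : x ∈ C.W b) :
    g * x * g⁻¹ ∈ C.W b := by simpa [hg] using C.smul_W hB (g := g) hx

/-- A product of representatives from the three neighbours. -/
def IsR (β : V) (r : X) : Prop :=
  ∃ a b c : V, ∃ x y w : X, C.Adj β a ∧ C.Adj β b ∧ C.Adj β c ∧ b ≠ a ∧ c ≠ a ∧ b ≠ c ∧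
    x ∈ C.Z a ∧ x ∉ C.cB β ∧ y ∈ C.Z b ∧ y ∉ C.cB β ∧ w ∈ C.Z c ∧ w ∉ C.cB β ∧ r = x * y * w

theorem exists_IsR {β : V} (hB : ¬ C.A β) : ∃ r, C.IsR β r := by
  obtain ⟨a, ha⟩ := C.exists_nbr β
  obtain ⟨b, c, hb, hc, hba, hca, hbc⟩ := C.exists_others ha
  obtain ⟨x, hx, hx'⟩ := C.exists_Z_not_cB (C.symm ha) (C.A_of_not (C.symm ha) hB)
  obtain ⟨y, hy, hy'⟩ := C.exists_Z_not_cB (C.symm hb) (C.A_of_not (C.symm hb) hB)
  obtain ⟨w, hw, hw'⟩ := C.exists_Z_not_cB (C.symm hc) (C.A_of_not (C.symm hc) hB)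
  exact ⟨_, a, b, c, x, y, w, ha, hb, hc, hba, hca, hbc, hx, hx', hy, hy', hw, hw', rfl⟩

theorem smul_IsR {β : V} (hB : ¬ C.A β) {r g : X} (h : C.IsR β r) : C.IsR (g • β) (g * r * g⁻¹) := by
  obtain ⟨a, b, c, x, y, w, ha, hb, hc, hba, hca, hbc, hx, hx', hy, hy', hw, hw', rfl⟩ := h
  have key : ∀ {o : V} {u : X}, C.Adj β o → u ∈ C.Z o → u ∉ C.cB β →
      g * u * g⁻¹ ∈ C.Z (g • o) ∧ g * u * g⁻¹ ∉ C.cB (g • β) := by
    intro o u ho hu hu'
    refine ⟨C.smul_Z (C.A_of_not (C.symm ho) hB) hu, fun e => hu' ?_⟩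
    simpa [mul_assoc] using C.smul_cB (g := g⁻¹) e
  exact ⟨g • a, g • b, g • c, _, _, _, C.smul_adj g ha, C.smul_adj g hb, C.smul_adj g hc,
    fun e => hba (MulAction.injective g e), fun e => hca (MulAction.injective g e),
    fun e => hbc (MulAction.injective g e), (key ha hx hx').1, (key ha hx hx').2, (key hb hy hy').1,
    (key hb hy hy').2, (key hc hw hw').1, (key hc hw hw').2, by group⟩

theorem IsR_mem_W {β : V} {r : X} (h : C.IsR β r) : r ∈ C.W β := by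
  obtain ⟨a, b, c, x, y, w, ha, hb, hc, -, -, -, hx, -, hy, -, hw, -, rfl⟩ := h
  exact mul_mem (mul_mem (C.Z_le_W ha hx) (C.Z_le_W hb hy)) (C.Z_le_W hc hw)

theorem IsR_ordered (h3 : 3 ≤ C.bb) {β : V} (hB : ¬ C.A β) {r : X} (h : C.IsR β r) {a b c : V}
    (ha : C.Adj β a) (hb : C.Adj β b) (hc : C.Adj β c) (hba : b ≠ a) (hca : c ≠ a) (hbc : b ≠ c) :
    ∃ x y w : X, x ∈ C.Z a ∧ x ∉ C.cB β ∧ y ∈ C.Z b ∧ y ∉ C.cB β ∧ w ∈ C.Z c ∧ w ∉ C.cB β ∧
      r = x * y * w := by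
  obtain ⟨a', b', c', x, y, w, ha', hb', hc', hba', hca', hbc', hx, hx', hy, hy', hw, hw', rfl⟩ := h
  have cxy := C.W_comm h3 hB (C.Z_le_W ha' hx) (C.Z_le_W hb' hy)
  have cxw := C.W_comm h3 hB (C.Z_le_W ha' hx) (C.Z_le_W hc' hw)
  have cyw := C.W_comm h3 hB (C.Z_le_W hb' hy) (C.Z_le_W hc' hw)
  rcases C.three ha' hb' hc' ha hba' hca' hbc' with rfl | rfl | rfl <;>
    rcases C.three ha' hb' hc' hb hba' hca' hbc' with rfl | rfl | rfl <;>
      rcases C.three ha' hb' hc' hc hba' hca' hbc' with rfl | rfl | rfl <;>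
        first
          | exact absurd rfl hba
          | exact absurd rfl hca
          | exact absurd rfl hbc
          | exact ⟨x, y, w, hx, hx', hy, hy', hw, hw', rfl⟩
          | exact ⟨x, w, y, hx, hx', hw, hw', hy, hy', by rw [mul_assoc, cyw, ← mul_assoc]⟩
          | exact ⟨y, x, w, hy, hy', hx, hx', hw, hw', by rw [cxy]⟩
          | exact ⟨y, w, x, hy, hy', hw, hw', hx, hx', by
              rw [mul_assoc y w, ← cxw, ← mul_assoc, cxy]⟩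
          | exact ⟨w, x, y, hw, hw', hx, hx', hy, hy', by rw [← cxw, mul_assoc x w, ← cyw, ← mul_assoc]⟩
          | exact ⟨w, y, x, hw, hw', hy, hy', hx, hx', by
              rw [← cyw, mul_assoc y w, ← cxw, ← mul_assoc, cxy]⟩

variable {p : ℕ → V}

theorem IsR_mul (hp : C.CP p) (h3 : 3 ≤ C.bb) (ho : Odd C.bb) {β : V} (hB : ¬ C.A β) {r r' : X}
    (h : C.IsR β r) (h' : C.IsR β r') : r * r' ∈ C.cB β := by
  obtain ⟨a, b, c, x, y, w, ha, hb, hc, hba, hca, hbc, hx, hx', hy, hy', hw, hw', rfl⟩ := h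
  obtain ⟨u, v, k, hu, hu', hv, hv', hk, hk', rfl⟩ := C.IsR_ordered h3 hB h' ha hb hc hba hca hbc
  rw [six (fun _ hx _ hy => C.W_comm h3 hB hx hy) (C.Z_le_W ha hx) (C.Z_le_W hb hy) (C.Z_le_W hc hw)
    (C.Z_le_W ha hu) (C.Z_le_W hb hv)]
  have key : ∀ {o : V} {i j : X}, C.Adj β o → i ∈ C.Z o → j ∈ C.Z o → i ∉ C.cB β → j ∉ C.cB β →
      i * j ∈ C.cB β := fun ho' hi hj hi' hj' =>
    C.Z_mul (C.symm ho') (C.A_of_not (C.symm ho') hB)
      (C.card_cB_odd hp h3 ho (C.symm ho') (C.A_of_not (C.symm ho') hB)) hi hj hi' hj'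
  exact mul_mem (mul_mem (key ha hx hu hx' hu') (key hb hy hv hy' hv')) (key hc hw hk hw' hk')

theorem IsR_sq (h3 : 3 ≤ C.bb) {β : V} (hB : ¬ C.A β) {r : X} (h : C.IsR β r) : r * r = 1 := by
  obtain ⟨a, b, c, x, y, w, ha, hb, hc, hba, hca, hbc, hx, -, hy, -, hw, -, rfl⟩ := h
  rw [six (fun _ hx _ hy => C.W_comm h3 hB hx hy) (C.Z_le_W ha hx) (C.Z_le_W hb hy) (C.Z_le_W hc hw)
    (C.Z_le_W ha hx) (C.Z_le_W hb hy), C.Z_sq (C.A_of_not (C.symm ha) hB) hx,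
    C.Z_sq (C.A_of_not (C.symm hb) hB) hy, C.Z_sq (C.A_of_not (C.symm hc) hB) hw, one_mul, one_mul]

theorem IsR_conj (hp : C.CP p) (h3 : 3 ≤ C.bb) (ho : Odd C.bb) {β : V} (hB : ¬ C.A β) {r g : X}
    (h : C.IsR β r) (hg : g • β = β) : ∃ e ∈ C.cB β, g * r * g⁻¹ = r * e := by
  have h' := C.smul_IsR hB (g := g) h
  rw [hg] at h'
  exact ⟨_, C.IsR_mul hp h3 ho hB h h', by rw [← mul_assoc, C.IsR_sq h3 hB h, one_mul]⟩

/-- The products of representatives are central. -/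
def Dim : Prop := ∃ β, ¬ C.A β ∧ ∃ r, C.IsR β r ∧ r ∈ C.cB β

theorem Dim_mem (hp : C.CP p) (h3 : 3 ≤ C.bb) (ho : Odd C.bb) (hd : C.Dim) {β : V} (hB : ¬ C.A β)
    {r : X} (h : C.IsR β r) : r ∈ C.cB β := by
  obtain ⟨β₀, hB₀, r₀, h₀, hc₀⟩ := hd
  obtain ⟨a₀, ha₀⟩ := C.exists_nbr β₀
  obtain ⟨a, ha⟩ := C.exists_nbr β
  obtain ⟨g, g1, -⟩ := C.edge ha₀ ha (iff_of_false hB₀ hB)
  have h1 := C.smul_IsR hB₀ (g := g) h₀
  have h2 := C.smul_cB (g := g) hc₀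
  rw [g1] at h1 h2
  have := mul_mem (C.IsR_mul hp h3 ho hB h h1) h2
  rwa [mul_assoc, C.IsR_sq h3 hB h1, mul_one] at this

theorem R_absurd (hp : C.CP p) (h3 : 3 ≤ C.bb) (ho : Odd C.bb) (hd : ¬ C.Dim) {a μ μ' : V}
    (hA : C.A a) (hμ : C.Adj a μ) (hμ' : C.Adj a μ') (hne : μ ≠ μ') {r r' : X} (h : C.IsR μ r)
    (h' : C.IsR μ' r') (hrr : r * r' ∈ C.Z a) : False := by
  have hB := C.not_A hμ hA
  have hB' := C.not_A hμ' hA
  have hr'μ : r' • μ = μ := by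
    have : C.W μ' ≤ St μ := iSup₂_le fun w hw =>
      C.le_St_walk (n := 3) (p := cons w (w3 μ' a μ))
        (C.isW_cons (C.symm hw) (C.isW_w3 (C.symm hμ') hμ))
        (C.A_of_not (C.symm hw) hB') (by omega)
    exact this (C.IsR_mem_W h')
  have hrQ : r ∈ C.Q a := C.W_le_Q_nbr h3 hB (C.symm hμ) (C.IsR_mem_W h)
  have hrK : r ∈ C.Z a := by
    rw [C.Z_eq_K2 hA]
    refine ⟨hrQ, C.IsR_sq h3 hB h, fun q hq => ?_⟩
    obtain ⟨e, he, hqr⟩ := C.IsR_conj hp h3 ho hB h (hq.2 μ hμ)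
    obtain ⟨e', he', hqr'⟩ := C.IsR_conj hp h3 ho hB' h' (hq.2 μ' hμ')
    have hfix : q * (r * r') * q⁻¹ = r * r' := by
      rw [C.Z_comm_Q hA hq hrr, mul_inv_cancel_right]
    have hprod : r * r' * (e * e') = r * r' := by
      calc r * r' * (e * e') = r * (r' * e) * e' := by group
        _ = r * (e * r') * e' := by rw [C.cB_comm he hr'μ]
        _ = (q * r * q⁻¹) * (q * r' * q⁻¹) := by rw [hqr, hqr']; group
        _ = r * r' := by rw [← hfix]; group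
    have hee : e = e'⁻¹ := eq_inv_of_mul_eq_one_left (mul_eq_left.1 hprod)
    have he1 := C.cB_inf hμ hμ' hne he (hee ▸ inv_mem he')
    rw [he1, mul_one, mul_inv_eq_iff_eq_mul] at hqr
    exact hqr
  obtain ⟨u, w, hu, hw, hua, hwa, huw⟩ := C.exists_others (C.symm hμ)
  obtain ⟨x, y, k, hx, hx', hy, hy', hk, hk', rfl⟩ :=
    C.IsR_ordered h3 hB h (C.symm hμ) hu hw hua hwa huw
  have hyk : y * k ∈ C.Z a := by
    have := mul_mem (inv_mem hx) hrK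
    rwa [← mul_assoc, ← mul_assoc, inv_mul_cancel, one_mul] at this
  by_cases hc : y * k ∈ C.cB μ
  · have hk0 : k ∈ C.Z u := by
      have := mul_mem (inv_mem hy) (C.cB_le_Z (C.symm hu) hc)
      rwa [← mul_assoc, inv_mul_cancel, one_mul] at this
    exact hk' (C.Z_inter hp h3 ho (C.symm hu) (C.A_of_not (C.symm hu) hB) hw huw.symm hk0 hk)
  · refine hd ⟨μ, hB, _, h, ?_⟩
    have := C.Z_mul hμ hA (C.card_cB_odd hp h3 ho hμ hA) hx hyk hx' hc
    rwa [← mul_assoc] at this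

theorem IsR_ends (hp : C.CP p) (hb : 3 ≤ C.bb) (ho : Odd C.bb) {ν : V} (hν : C.Adj (p C.bb) ν)
    {s t : X} (hs : s ∈ C.Z (p 0)) (hsQ : s ∉ C.Q (p C.bb)) (ht : t ∈ C.Z ν) (htQ : t ∉ C.Q (p 1)) :
    s * (t * s * t⁻¹) = s * t * s⁻¹ * t ∧
      (∀ b ∈ C.Z (p 2), b ∉ C.cB (p 1) → C.IsR (p 1) (s * (t * s * t⁻¹) * b)) ∧
        ∀ b ∈ C.Z (p (C.bb - 1)), b ∉ C.cB (p C.bb) →
          C.IsR (p C.bb) (s * t * s⁻¹ * t * b) := by
  have h01 : C.Adj (p 0) (p 1) := C.CP_adj hp (by omega)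
  have h12 : C.Adj (p 1) (p 2) := C.CP_adj hp (by omega)
  have hνA := C.far_A hp ho hν
  have hlast := C.CP_adj_last hp hb
  have hνne : ν ≠ p (C.bb - 1) := fun e => htQ
    (C.CP_le_Q hp (Nat.sub_le _ _) (by omega) (C.even_pred ho) (by omega) (e ▸ ht))
  obtain ⟨tne, tne2, tadj, -⟩ := C.moves h12 (C.symm h01) (fun e => C.CP_nb hp 0 (by omega) e.symm)
    ⟨C.far_le_St hp ho hν le_rfl (by omega) ht, C.far_le_St hp ho hν (by omega) (by omega) ht⟩ htQ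
  obtain ⟨m1, m2, m3, -⟩ := C.moves_far hp hb hs hsQ hν hνne
  have hs' : s ∉ C.cB (p 1) := fun e => hsQ (C.cB_one_le_end hp hb e)
  have ht' : t ∉ C.cB (p C.bb) := fun e => htQ
    (C.CP_le_Q hp (Nat.sub_le _ _) (by omega) (C.even_pred ho) (by omega)
      (C.cB_le_Z (C.symm hlast) e))
  have ts : ∀ {g x : X} {b : V}, g • b = b → x ∉ C.cB b → g * x * g⁻¹ ∉ C.cB b := by
    intro g x b hg hx e
    refine hx ?_
    have := C.smul_cB (g := g⁻¹) e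
    rw [inv_smul_eq_iff.2 hg.symm] at this
    simpa [mul_assoc] using this
  refine ⟨?_, fun b hb2 hb' => ?_, fun b hb2 hb' => ?_⟩
  · rw [C.Z_inv hp.2.1 hs, C.Z_inv hνA ht]; group
  · exact ⟨p 0, t • p 0, p 2, s, t * s * t⁻¹, b, C.symm h01, tadj, h12, tne, C.CP_nb hp 0 (by omega),
      tne2, hs, hs', C.smul_Z hp.2.1 hs,
      ts (C.far_le_St hp ho hν le_rfl (by omega) ht) hs', hb2, hb', rfl⟩
  · exact ⟨s • ν, ν, p (C.bb - 1), s * t * s⁻¹, t, b, m3, hν, hlast, m1.symm, Ne.symm m2, hνne,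
      C.smul_Z hνA ht, ts (C.CP_le_St hp (Nat.zero_le _) le_rfl Even.zero hs) ht', ht, ht', hb2, hb',
      rfl⟩

theorem three_impossible_not_Dim (hp : C.CP p) (h3 : C.bb = 3) (hd : ¬ C.Dim) : False := by
  have hb : 3 ≤ C.bb := h3.ge
  have ho : Odd C.bb := h3 ▸ ⟨1, rfl⟩
  obtain ⟨s, hs, hsQ⟩ := SetLike.not_le_iff_exists.1 hp.2.2
  obtain ⟨ν, hν, hνQ⟩ := C.exists_far hp hb ho
  obtain ⟨t, ht, htQ⟩ := SetLike.not_le_iff_exists.1 hνQ
  obtain ⟨e12, r1, r3⟩ := C.IsR_ends hp hb ho hν hs hsQ ht htQ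
  have h12 : C.Adj (p 1) (p 2) := C.CP_adj hp (by omega)
  have h23 : C.Adj (p 2) (p 3) := C.CP_adj hp (by omega)
  have hA2 : C.A (p 2) := (C.CP_A hp (by omega)).2 even_two
  obtain ⟨b, hb2, hb'⟩ := C.exists_Z_not_cB (C.symm h12) hA2
  obtain ⟨b', hb2', hb''⟩ := C.exists_Z_not_cB h23 hA2
  have i1 := r1 b hb2 hb'
  have i3 := r3 b' (by rwa [show C.bb - 1 = 2 by omega]) (by rwa [h3])
  rw [h3] at i3
  refine C.R_absurd hp hb ho hd hA2 (C.symm h12) h23 (fun e => C.CP_nb hp 1 (by omega) e.symm) i1 i3 ?_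
  rw [← e12]
  have hB := C.not_A (C.symm h12) hA2
  have hev : s * (t * s * t⁻¹) ∈ C.W (p 1) :=
    mul_mem (C.Z_le_W (C.symm (C.CP_adj hp (i := 0) (by omega))) hs) <|
      C.conj_W hB (C.far_le_St hp ho hν le_rfl (by omega) ht)
        (C.Z_le_W (C.symm (C.CP_adj hp (i := 0) (by omega))) hs)
  have hee := C.IsR_sq hb hB i1
  have hc := C.W_comm hb hB hev (C.Z_le_W h12 hb2)
  generalize s * (t * s * t⁻¹) = e at *
  have h1 : e * b * (e * b') = (e * e) * (b * b') := by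
    calc e * b * (e * b') = e * (b * e) * b' := by group
      _ = (e * e) * (b * b') := by rw [← hc]; group
  rw [h1]
  have he2 : e * e = 1 := by
    have : e * b * (e * b) = (e * e) * (b * b) := by
      calc e * b * (e * b) = e * (b * e) * b := by group
        _ = (e * e) * (b * b) := by rw [← hc]; group
    rwa [hee, C.Z_sq hA2 hb2, mul_one, eq_comm] at this
  rw [he2, one_mul]
  exact mul_mem hb2 hb2'

end Ctx

end CfsgLib.Goldschmidt
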