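import Cfsg.Agent.Lib.Amalgam.Goldschmidt.Even

/-!
Critical length two.
-/

set_option autoImplicit false
set_option linter.unusedSectionVars false
set_option linter.unusedVariables false
set_option linter.style.haveILetI false

namespace CfsgLib.Goldschmidt

variable {X : Type*} [Group X] {V : Type*} [MulAction X V]

local notation "St" => MulAction.stabilizer X

theorem triple {a b c z : X} (ha : a * a = 1) (hb : b * b = 1) (hc : c * c = 1) (hz : z * z = 1)
    (hzb : z * b = b * z) (hzc : z * c = c * z) (hba : b * a = a * b * z) (hca : c * a = a * c * z)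
    (hcb : c * b = b * c * z) :
    a * b * c * a = a * (a * b * c) ∧ a * b * c * b = b * (a * b * c) ∧
      a * b * c * c = c * (a * b * c) ∧ a * b * c * (a * b * c) = z := by
  have h1 : a * b * c * a = b * c :=
    calc a * b * c * a = a * (b * a) * c * z := by rw [mul_assoc (a * b), hca]; group
      _ = a * a * b * (z * c) * z := by rw [hba]; group
      _ = b * c * (z * z) := by rw [ha, hzc]; group
      _ = b * c := by rw [hz, mul_one]
  have h2 : a * b * c * b = a * c * z :=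
    calc a * b * c * b = a * (b * b) * c * z := by rw [mul_assoc (a * b), hcb]; group
      _ = a * c * z := by rw [hb, mul_one]
  have h2' : b * (a * b * c) = a * c * z :=
    calc b * (a * b * c) = b * a * b * c := by group
      _ = a * b * (z * b) * c := by rw [hba]; group
      _ = a * (b * b) * (z * c) := by rw [hzb]; group
      _ = a * c * z := by rw [hb, hzc]; group
  have h3' : c * (a * b * c) = a * b :=
    calc c * (a * b * c) = c * a * b * c := by group
      _ = a * c * (z * b) * c := by rw [hca]; group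
      _ = a * (c * b) * (z * c) := by rw [hzb]; group
      _ = a * b * c * (z * z) * c := by rw [hcb]; group
      _ = a * b := by rw [hz, mul_one, mul_assoc, hc, mul_one]
  have h1' : a * (a * b * c) = b * c := by rw [← mul_assoc, ← mul_assoc, ha, one_mul]
  refine ⟨h1.trans h1'.symm, h2.trans h2'.symm, by rw [h3', mul_assoc, hc, mul_one], ?_⟩
  calc a * b * c * (a * b * c) = a * b * c * a * b * c := by group
    _ = a * (a * b * c * b) * c := by rw [h1.trans h1'.symm]; group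
    _ = a * a * c * (z * c) := by rw [h2]; group
    _ = c * c * z := by rw [ha, hzc]; group
    _ = z := by rw [hc, one_mul]

namespace Ctx

variable (C : Ctx X V)

include C

theorem crit_two {p : ℕ → V} (hp : C.CP p) (hb : C.bb = 2) {a β c : V} (ha : C.Adj a β)
    (hA : C.A a) (hc : C.Adj β c) (hne : c ≠ a) : ¬ C.Z a ≤ C.Q c := by
  set q : ℕ → V := fun i => if i = 0 then a else if i = 1 then β else c with hq
  have hw : C.IsW 2 q := fun i hi => by
    rcases (by omega : i = 0 ∨ i = 1) with rfl | rfl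
    · simpa [hq] using ha
    · simpa [hq] using hc
  have hn : NB 2 q := fun i hi => by
    obtain rfl : i = 0 := (by omega)
    simpa [hq] using hne
  obtain ⟨g, hg⟩ := C.tr_le_two a 2 le_rfl p q (IsW.mono C hp.1 (by omega))
    (fun i hi => C.CP_nb hp i (by omega)) hw hn (iff_of_true hp.2.1 (by simpa [hq] using hA))
  have := (C.CP_of_map hp g (q := q) (by rw [hb]; exact hg)).2.2
  rw [hb] at this
  simpa [hq] using this

theorem inter_two {p : ℕ → V} (hp : C.CP p) (hb : C.bb = 2) {a β c : V} (ha : C.Adj a β)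
    (hA : C.A a) (hc : C.Adj β c) (hne : c ≠ a) {x : X} (hx : x ∈ C.Z a) (hxc : x ∈ C.Q c) :
    x ∈ C.cB β := by
  have hcA : C.A c := (C.A_iff_of_two ha hc).1 hA
  obtain ⟨t, ht, htQ⟩ :=
    SetLike.not_le_iff_exists.1 (C.crit_two hp hb (C.symm hc) hcA (C.symm ha) hne.symm)
  refine C.mem_cB_of_commute ha hA hx ⟨?_, (C.Z_le_Q hcA ht).2 β (C.symm hc)⟩ htQ
    (C.Z_comm_Q hcA hxc ht).symm
  show t • a = a
  exact C.le_St_walk (n := 2) (p := fun i => if i = 0 then c else if i = 1 then β else a)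
    (fun i hi => by
      rcases (by omega : i = 0 ∨ i = 1) with rfl | rfl
      · simpa using C.symm hc
      · simpa using C.symm ha)
    (by simpa using hcA) (by omega) (by simpa using ht)

theorem exists_r {p : ℕ → V} (hp : C.CP p) (hb : C.bb = 2) {a β : V} (ha : C.Adj a β)
    (hA : C.A a) :
    ∃ r ∈ C.CC β, r * r ∈ C.cB β ∧ r * r ≠ 1 ∧ (∀ u ∈ C.CC β, u * r = r * u) ∧
      ∀ g ∈ C.Q a, g * r * g⁻¹ * r⁻¹ ∈ C.cB β := by
  have he : Even C.bb := hb ▸ even_two
  have h10 := C.symm ha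
  obtain ⟨u, w, hu, hw, hua, hwa, huw⟩ := C.exists_others h10
  have hβ := C.not_A ha hA
  have huA := C.A_of_not (C.symm hu) hβ
  have hwA := C.A_of_not (C.symm hw) hβ
  have k := C.card_cB_even hp he ha hA
  obtain ⟨za, hza, hza'⟩ := C.exists_Z_not_cB ha hA
  obtain ⟨zb, hzb, hzb'⟩ := C.exists_Z_not_cB (C.symm hu) huA
  obtain ⟨zc, hzc, hzc'⟩ := C.exists_Z_not_cB (C.symm hw) hwA
  obtain ⟨z, hz, hz1⟩ := (Subgroup.bot_or_exists_ne_one _).resolve_left (C.cB_ne_bot ha hA)
  have inSt : ∀ o, C.Adj β o → C.A o → ∀ x ∈ C.Z o, x • β = β := fun o ho hoA x hx =>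
    (C.Z_le_Q hoA hx).2 β (C.symm ho)
  have comm : ∀ {o o' : V}, C.Adj β o → C.Adj β o' → o' ≠ o → C.A o → C.A o' → ∀ x ∈ C.Z o,
      x ∉ C.cB β → ∀ y ∈ C.Z o', y ∉ C.cB β → y * x = x * y * z := by
    intro o o' ho ho' hne hoA ho'A x hx hx' y hy hy'
    have hyE : y ∈ (Ed o β : Subgroup X) := by
      refine ⟨?_, inSt o' ho' ho'A y hy⟩
      show y • o = o
      exact C.le_St_walk (n := 2) (p := fun i => if i = 0 then o' else if i = 1 then β else o)
        (fun i hi => by
          rcases (by omega : i = 0 ∨ i = 1) with rfl | rfl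
          · simpa using C.symm ho'
          · simpa using ho)
        (by simpa using ho'A) (by omega) (by simpa using hy)
    have hyQ : y ∉ C.Q o := fun e => hy' (C.inter_two hp hb (C.symm ho') ho'A ho hne.symm hy e)
    have h1 := C.mul_conj_mem (C.symm ho) hoA hx hyE
    have h2 : x * (y * x * y⁻¹) ≠ 1 := fun e => by
      have h := conj_eq_of_comm e (C.Z_sq hoA hx)
      rw [mul_one] at h
      exact hx' (C.mem_cB_of_commute (C.symm ho) hoA hx hyE hyQ (mul_inv_eq_iff_eq_mul.1 h))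
    have h3 := conj_eq_of_comm (eq_of_card_two k h1 hz h2 hz1) (C.Z_sq hoA hx)
    rw [mul_inv_eq_iff_eq_mul.1 h3, mul_assoc, ← C.cB_comm hz (inSt o' ho' ho'A y hy), ← mul_assoc]
  have zc_ : ∀ {o : V}, C.Adj β o → C.A o → ∀ x ∈ C.Z o, z * x = x * z := fun ho hoA x hx =>
    (C.cB_comm hz (inSt _ ho hoA x hx)).symm
  obtain ⟨ca, cb, cc, csq⟩ := triple (C.Z_sq hA hza) (C.Z_sq huA hzb) (C.Z_sq hwA hzc)
    hz.2.1 (zc_ hu huA _ hzb) (zc_ hw hwA _ hzc) (comm h10 hu hua hA huA _ hza hza' _ hzb hzb')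
    (comm h10 hw hwa hA hwA _ hza hza' _ hzc hzc')
    (comm hu hw huw.symm huA hwA _ hzb hzb' _ hzc hzc')
  set r := za * zb * zc with hr
  have fixes : ∀ o, C.Adj β o → ∀ x, (x = za ∨ x = zb ∨ x = zc) → x • o = o := by
    intro o ho x hx
    have key : ∀ o', C.Adj β o' → C.A o' → x ∈ C.Z o' → x • o = o := fun o' ho' hA' hx =>
      C.le_St_walk (n := 2) (p := fun i => if i = 0 then o' else if i = 1 then β else o)
        (fun i hi => by
          rcases (by omega : i = 0 ∨ i = 1) with rfl | rfl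
          · simpa using C.symm ho'
          · simpa using ho)
        (by simpa using hA') (by omega) (by simpa using hx)
    rcases hx with rfl | rfl | rfl
    · exact key a h10 hA hza
    · exact key u hu huA hzb
    · exact key w hw hwA hzc
  have hrβ : r • β = β := by
    rw [hr, mul_smul, mul_smul, inSt w hw hwA _ hzc, inSt u hu huA _ hzb, inSt a h10 hA _ hza]
  have hrQ : r ∈ C.Q β := ⟨hrβ, fun o ho => by
    rw [hr, mul_smul, mul_smul, fixes o ho _ (Or.inr (Or.inr rfl)), fixes o ho _ (Or.inr (Or.inl rfl)),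
      fixes o ho _ (Or.inl rfl)]⟩
  have commZ : ∀ {o : V}, C.Adj β o → C.A o → ∀ y ∈ C.Z o, y ∉ C.cB β → r * y = y * r →
      r ∈ C.Q o := by
    intro o ho hoA y hy hy' hc
    refine C.mem_Q_of_commute hoA (hrQ.2 o ho) fun x hx => ?_
    by_cases hx' : x ∈ C.cB β
    · exact C.cB_comm hx' hrβ
    · have hm := C.Z_mul (C.symm ho) hoA (C.card_cB_even hp he (C.symm ho) hoA) hy hx hy' hx'
      calc r * x = r * y * (y * x) := by rw [mul_assoc r, ← mul_assoc y y, C.Z_sq hoA hy, one_mul]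
        _ = y * (r * (y * x)) := by rw [hc, mul_assoc]
        _ = y * (y * x) * r := by rw [C.cB_comm hm hrβ, ← mul_assoc]
        _ = x * r := by rw [← mul_assoc y y, C.Z_sq hoA hy, one_mul]
  have hrC : r ∈ C.CC β := C.mem_CC.2 ⟨hrQ, fun o ho => by
    rcases C.three h10 hu hw ho hua hwa huw with rfl | rfl | rfl
    · exact commZ ho hA za hza hza' ca
    · exact commZ ho huA zb hzb hzb' cb
    · exact commZ ho hwA zc hzc hzc' cc⟩
  refine ⟨r, hrC, ?_, ?_, fun g hg => ?_, fun g hg => ?_⟩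
  · rw [csq]; exact hz
  · rw [csq]; exact hz1
  · have ga := C.Z_comm_Q hA (C.CC_le_nbr h10 hg) hza
    have gb := C.Z_comm_Q huA (C.CC_le_nbr hu hg) hzb
    have gc := C.Z_comm_Q hwA (C.CC_le_nbr hw hg) hzc
    calc g * (za * zb * zc) = g * za * zb * zc := by group
      _ = za * (g * zb) * zc := by rw [ga]; group
      _ = za * zb * (g * zc) := by rw [gb]; group
      _ = za * zb * zc * g := by rw [gc]; group
  · have hgβ : g • β = β := hg.2 β ha
    have himg : ∀ {o : V}, C.Adj β o → C.A o → ∀ x ∈ C.Z o, x ∉ C.cB β → ∀ {o' : V}, C.A o' → C.Adj β o' →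
        g • o = o' → ∀ y ∈ C.Z o', y ∉ C.cB β → ∃ e ∈ C.cB β, g * x * g⁻¹ = y * e := by
      intro o ho hoA x hx hx' o' hA' ho' hgo y hy hy'
      have h1 : g * x * g⁻¹ ∈ C.Z o' := hgo ▸ C.smul_Z hoA hx
      have h2 : g * x * g⁻¹ ∉ C.cB β := fun e => hx' (by
        have := C.smul_cB (g := g⁻¹) e
        rw [inv_smul_eq_iff.2 hgβ.symm] at this
        simpa [mul_assoc] using this)
      exact ⟨_, C.Z_mul (C.symm ho') hA' (C.card_cB_even hp he (C.symm ho') hA') hy h1 hy' h2,
        by rw [← mul_assoc, C.Z_sq hA' hy, one_mul]⟩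
    have hga : g * za * g⁻¹ = za := by rw [C.Z_comm_Q hA hg hza, mul_inv_cancel_right]
    have hw_ : ∃ e ∈ C.cB β, g * r * g⁻¹ = r * e := by
      by_cases hgu : g • u = u
      · have hgw : g • w = w :=
          (C.mem_Q_of_fix h10 hu hua hgβ hg.1 hgu).2 w hw
        obtain ⟨e1, he1, eb⟩ := himg hu huA zb hzb hzb' huA hu hgu zb hzb hzb'
        obtain ⟨e2, he2, ec⟩ := himg hw hwA zc hzc hzc' hwA hw hgw zc hzc hzc'
        refine ⟨e1 * e2, mul_mem he1 he2, ?_⟩
        calc g * (za * zb * zc) * g⁻¹ = g * za * g⁻¹ * (g * zb * g⁻¹) * (g * zc * g⁻¹) := by group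
          _ = za * zb * (e1 * zc) * e2 := by rw [hga, eb, ec]; group
          _ = za * zb * zc * (e1 * e2) := by
            rw [← C.cB_comm he1 (inSt w hw hwA _ hzc)]; group
      · obtain ⟨m1, m2, m3, m4⟩ :=
          C.moves h10 hu hua ⟨hgβ, hg.1⟩ fun e => hgu (e.2 u hu)
        have hgu' : g • u = w := by
          rcases C.three h10 hu hw m3 hua hwa huw with e | e | e
          · exact absurd e m2
          · exact absurd e m1
          · exact e
        rw [hgu'] at m4
        obtain ⟨e1, he1, eb⟩ := himg hu huA zb hzb hzb' hwA hw hgu' zc hzc hzc'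
        obtain ⟨e2, he2, ec⟩ := himg hw hwA zc hzc hzc' huA hu m4 zb hzb hzb'
        refine ⟨z * (e1 * e2), mul_mem hz (mul_mem he1 he2), ?_⟩
        calc g * (za * zb * zc) * g⁻¹ = g * za * g⁻¹ * (g * zb * g⁻¹) * (g * zc * g⁻¹) := by group
          _ = za * zc * (e1 * zb) * e2 := by rw [hga, eb, ec]; group
          _ = za * (zc * zb) * (e1 * e2) := by rw [← C.cB_comm he1 (inSt u hu huA _ hzb)]; group
          _ = za * zb * zc * (z * (e1 * e2)) := by
            rw [comm hu hw huw.symm huA hwA _ hzb hzb' _ hzc hzc']; group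
    obtain ⟨e, he', hre⟩ := hw_
    rw [hre, C.cB_comm he' hrβ, mul_inv_cancel_right]
    exact he'

theorem card_le_of_two (hb : C.bb = 2) {p : ℕ → V} (hp : C.CP p) :
    Nat.card ↥(Ed (p 0) (p 1) : Subgroup X) ≤ 2 ^ 7 := by
  have he : Even C.bb := hb ▸ even_two
  have h01 : C.Adj (p 0) (p 1) := C.CP_adj hp (by omega)
  have hA := hp.2.1
  generalize p 0 = α, p 1 = β at *
  have h10 := C.symm h01
  have hβ := C.not_A h01 hA
  obtain ⟨γ, δ, hγ, hδ, hγβ, -, -⟩ := C.exists_others h01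
  obtain ⟨o, o', ho, ho', hoα, -, -⟩ := C.exists_others (C.symm hγ)
  obtain ⟨r, hr, hr2, hr1, hrc, hrconj⟩ := C.exists_r hp hb h01 hA
  obtain ⟨s, hs, hs2, hs1, hsc, hsconj⟩ := C.exists_r hp hb hγ hA
  -- each is outside the kernel at the other vertex
  have notQ : ∀ {β γ o : V}, C.Adj α β → C.Adj α γ → β ≠ γ → C.Adj γ o → o ≠ α → ∀ {r : X},
      r ∈ C.Q β → r * r ∈ C.cB β → r * r ≠ 1 → r ∉ C.Q γ := by
    intro β γ o hβ hγ hne ho hoα r hrQ h2 h1 e
    have hro : r * r ∈ C.Q o := by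
      by_cases k : r ∈ C.Q o
      · exact mul_mem k k
      · exact C.two_coset' (C.symm ho) e e k k
    exact h1 (C.cB_inf hβ hγ hne h2 (C.inter_two hp hb hγ hA ho hoα (C.cB_le_Z hβ h2) hro))
  obtain ⟨ou, ow, hou, -, houα, -, -⟩ := C.exists_others h10
  have hrγ : r ∉ C.Q γ := notQ h01 hγ hγβ.symm ho hoα (C.CC_le_Q _ hr) hr2 hr1
  have hsβ : s ∉ C.Q β := notQ hγ h01 hγβ hou houα (C.CC_le_Q _ hs) hs2 hs1
  have hsα : s ∈ C.Q α := C.CC_le_nbr (C.symm hγ) hs
  have hrα : r ∈ C.Q α := C.CC_le_nbr h10 hr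
  have hrs : s * r = r * s := by
    have e1 := hrconj s hsα
    have e2 := inv_mem (hsconj r hrα)
    rw [show (r * s * r⁻¹ * s⁻¹)⁻¹ = s * r * s⁻¹ * r⁻¹ by group] at e2
    have h1 := C.cB_inf h01 hγ hγβ.symm e1 e2
    calc s * r = s * r * s⁻¹ * r⁻¹ * (r * s) := by group
      _ = r * s := by rw [h1, one_mul]
  set K := C.CC β ⊓ C.CC γ with hK
  -- the common part is the same at all three neighbours
  obtain ⟨t, ht, ht'⟩ := C.exists_Z_not_cB (C.symm hou) (C.A_of_not (C.symm hou) hβ)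
  have houA := C.A_of_not (C.symm hou) hβ
  have htE : t ∈ (Ed α β : Subgroup X) := by
    refine ⟨?_, (C.Z_le_Q houA ht).2 β (C.symm hou)⟩
    show t • α = α
    exact C.le_St_walk (n := 2) (p := fun i => if i = 0 then ou else if i = 1 then β else α)
      (fun i hi => by
        rcases (by omega : i = 0 ∨ i = 1) with rfl | rfl
        · simpa using C.symm hou
        · simpa using h10)
      (by simpa using houA) (by omega) (by simpa using ht)
  have htQ : t ∉ C.Q α := fun e => ht' (C.inter_two hp hb (C.symm hou) houA h10 houα.symm ht e)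
  obtain ⟨m1, m2, m3, -⟩ := C.moves h01 hγ hγβ htE htQ
  have hall : ∀ u ∈ K, ∀ v, C.Adj α v → u ∈ C.CC v := by
    intro u hu v hv
    rcases C.three h01 hγ m3 hv hγβ m2 m1.symm with rfl | rfl | rfl
    · exact hu.1
    · exact hu.2
    · have := C.smul_CC (g := t) hu.2
      rwa [← C.Z_comm_Q houA (C.CC_le_nbr hou hu.1) ht, mul_inv_cancel_right] at this
  have hKE : K ≤ Ed α β := fun u hu => C.Q_le_Ed h01 (C.CC_le_nbr h10 hu.1)
  haveI := C.finite_le (hKE.trans inf_le_left)
  have hnα : St α ≤ Subgroup.normalizer (K : Set X) := fun g hg => by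
    refine mem_normalizer_finite fun u hu => ?_
    have hg' : g⁻¹ • α = α := inv_smul_eq_iff.2 (show g • α = α from hg).symm
    have hconj : ∀ v, C.Adj α v → g * u * g⁻¹ ∈ C.CC v := fun v hv => by
      simpa using C.smul_CC (g := g) (hall u hu _ (C.smul_nbr hg' hv))
    exact ⟨hconj β h01, hconj γ hγ⟩
  -- an element moving `γ`'s neighbours centralises the common part at `β`
  have hdec : ∀ u ∈ C.CC β ⊓ C.Q γ, u ∈ C.Q o → u ∈ C.CC γ := by
    rintro u ⟨hu, huγ⟩ huo
    refine C.mem_CC.2 ⟨huγ, fun v hv => ?_⟩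
    by_cases hvα : v = α
    · exact hvα ▸ C.CC_le_nbr h10 hu
    by_cases hvo : v = o
    · exact hvo ▸ huo
    obtain ⟨n1, n2, n3, -⟩ :=
      C.moves (C.symm hγ) ho hoα ⟨hrα.2 γ hγ, hrα.1⟩ hrγ
    rcases C.three (C.symm hγ) ho hv n3 hoα hvα (Ne.symm hvo) with e | e | e
    · exact absurd e n2
    · exact absurd e n1
    · rw [← e]
      have := C.smul_Q (g := r) huo
      rwa [← hrc u hu, mul_inv_cancel_right] at this
  have hz : r * r ∈ C.CC β ⊓ C.Q γ := ⟨mul_mem hr hr,
    C.le_Q_walk (n := 1) (p := fun i => if i = 0 then α else γ)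
      (fun i hi => by obtain rfl : i = 0 := (by omega); simpa using hγ)
      (by simpa using hA) (by omega) (by simpa using C.cB_le_Z h01 hr2)⟩
  have hzo : r * r ∉ C.Q o := fun e =>
    hr1 (C.cB_inf h01 hγ hγβ.symm hr2 (C.inter_two hp hb hγ hA ho hoα (C.cB_le_Z h01 hr2) e))
  have hsC : ∀ u ∈ C.CC β, s * u = u * s := by
    have hsK : ∀ u ∈ C.CC β ⊓ C.Q γ, u ∈ C.Q o → s * u = u * s := fun u hu huo =>
      (hsc u (hdec u hu huo)).symm
    have hsz : s * (r * r) = r * r * s := by rw [← mul_assoc, hrs, mul_assoc, hrs, mul_assoc]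
    have step : ∀ u ∈ C.CC β ⊓ C.Q γ, s * u = u * s := by
      intro u hu
      by_cases huo : u ∈ C.Q o
      · exact hsK u hu huo
      · have h1 := hsK _ (mul_mem hz hu) (C.two_coset' (C.symm ho) hz.2 hu.2 hzo huo)
        calc s * u = (r * r)⁻¹ * (r * r * s) * u := by group
          _ = (r * r)⁻¹ * (s * (r * r * u)) := by rw [← hsz]; group
          _ = u * s := by rw [h1]; group
    intro u hu
    by_cases huγ : u ∈ C.Q γ
    · exact step u ⟨hu, huγ⟩
    · have hγE : ∀ x ∈ C.CC β, x ∈ (Ed γ α : Subgroup X) := fun x hx =>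
        ⟨(C.CC_le_nbr h10 hx).2 γ hγ, (C.CC_le_nbr h10 hx).1⟩
      have h1 := step _ ⟨mul_mem hr hu, C.two_coset (C.symm hγ) (hγE r hr) (hγE u hu) hrγ huγ⟩
      calc s * u = r⁻¹ * (r * s) * u := by group
        _ = r⁻¹ * (s * (r * u)) := by rw [← hrs]; group
        _ = u * s := by rw [h1]; group
  obtain ⟨g, hgα, hgβ⟩ := C.edge h01 (C.symm hou) (iff_of_true hA houA)
  set h := g * s * g⁻¹ with hh
  have hhE : h ∈ (Ed β ou : Subgroup X) := by
    rw [← hgα, ← hgβ]
    exact C.smul_Ed ⟨hsα.2 β h01, hsα.1⟩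
  have hhQ : h ∉ C.Q β := fun e => hsβ (by rwa [← hgβ, hh, C.smul_Q_iff] at e)
  have hhα : h • α ≠ α := (C.moves hou h10 houα.symm hhE hhQ).1
  have hhC : ∀ u ∈ K, h * u = u * h := fun u hu => by
    have hg' : g⁻¹ • β = β := inv_smul_eq_iff.2 hgβ.symm
    have h1 := hsC _ (C.conj_CC hg' hu.1)
    calc h * u = g * (s * (g⁻¹ * u * g⁻¹⁻¹)) * g⁻¹ := by rw [hh]; group
      _ = u * h := by rw [h1, hh]; group
  have hnβ : St β ≤ Subgroup.normalizer (K : Set X) := by
    refine C.St_le h10 (fun e he => hnα he.2) (g := h) ?_ hhE.1 hhα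
    refine mem_normalizer_finite fun u hu => ?_
    rw [hhC u hu, mul_inv_cancel_right]
    exact hu
  have hbot := C.faithful h01 K hKE hnα hnβ
  haveI := C.finite_CC β
  haveI : Finite ↥(C.CC β ⊓ C.Q γ) :=
    Finite.of_injective _ (Subgroup.inclusion_injective (inf_le_left : C.CC β ⊓ C.Q γ ≤ C.CC β))
  have c1 := card_le_two_mul (H := C.Q γ) (K := C.CC β) fun x hx y hy =>
    C.two_coset (C.symm hγ) ⟨(C.CC_le_nbr h10 hx).2 γ hγ, (C.CC_le_nbr h10 hx).1⟩
      ⟨(C.CC_le_nbr h10 hy).2 γ hγ, (C.CC_le_nbr h10 hy).1⟩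
  have c2 := card_le_two_mul (H := C.Q o) (K := C.CC β ⊓ C.Q γ) fun x hx y hy =>
    C.two_coset' (C.symm ho) hx.2 hy.2
  have hb' : C.CC β ⊓ C.Q γ ⊓ C.Q o = ⊥ :=
    le_bot_iff.1 fun u hu => hbot ▸ (⟨hu.1.1, hdec u hu.1 hu.2⟩ : u ∈ K)
  rw [hb', Subgroup.card_bot] at c2
  obtain ⟨oa, ob, hoa, hob, hoa', hob', hab⟩ := C.exists_others h10
  have c3 := C.card_Q_le h10 hoa hob hoa' hob' hab
  rw [C.card_Ed h01, C.card_Q_eq h01]
  omega

end Ctx

end CfsgLib.Goldschmidt
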