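import Cfsg.Agent.Lib.Amalgam.Goldschmidt.Center

/-!
Walks, the critical length, movers and transitivity on non-backtracking walks.
-/

set_option autoImplicit false
set_option linter.unusedSectionVars false
set_option linter.unusedVariables false
set_option linter.style.haveILetI false

namespace CfsgLib.Goldschmidt

variable {X : Type*} [Group X] {V : Type*} [MulAction X V]

local notation "St" => MulAction.stabilizer X

/-- Prepend a vertex. -/
def cons (v : V) (p : ℕ → V) : ℕ → V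
  | 0 => v
  | i + 1 => p i

@[simp] theorem cons_zero (v : V) (p : ℕ → V) : cons v p 0 = v := rfl

@[simp] theorem cons_succ (v : V) (p : ℕ → V) (i : ℕ) : cons v p (i + 1) = p i := rfl

namespace Ctx

variable (C : Ctx X V)

/-- A walk of length `n`. -/
def IsW (n : ℕ) (p : ℕ → V) : Prop := ∀ i, i < n → C.Adj (p i) (p (i + 1))

/-- No backtracking. -/
def NB (n : ℕ) (p : ℕ → V) : Prop := ∀ i, i + 2 ≤ n → p (i + 2) ≠ p i

/-- Some `Z` is moved at distance `n`. -/
def crit (n : ℕ) : Prop := ∃ p : ℕ → V, C.IsW n p ∧ C.A (p 0) ∧ ¬ C.Z (p 0) ≤ C.Q (p n)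

/-- The critical length. -/
noncomputable def bb : ℕ := sInf {n | C.crit n}

/-- A critical walk. -/
def CP (p : ℕ → V) : Prop := C.IsW C.bb p ∧ C.A (p 0) ∧ ¬ C.Z (p 0) ≤ C.Q (p C.bb)

/-- An element fixing a non-backtracking walk of length `n` whose last vertex has the given side, moving
a neighbour of that vertex. -/
def HasMover (n : ℕ) (s : Prop) : Prop :=
  ∃ p : ℕ → V, C.IsW n p ∧ NB n p ∧ (C.A (p n) ↔ s) ∧ ∃ h : X, (∀ i, i ≤ n → h • p i = p i) ∧ h ∉ C.Q (p n)

/-- Transitivity on non-backtracking walks of length `n` of each starting side. -/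
def Tr (n : ℕ) : Prop :=
  ∀ p q : ℕ → V, C.IsW n p → NB n p → C.IsW n q → NB n q → (C.A (p 0) ↔ C.A (q 0)) →
    ∃ g : X, ∀ i, i ≤ n → g • p i = q i

include C

theorem IsW.mono {m n : ℕ} {p : ℕ → V} (h : C.IsW n p) (hm : m ≤ n) : C.IsW m p :=
  fun i hi => h i (lt_of_lt_of_le hi hm)

theorem isW_shift {m n k : ℕ} {p : ℕ → V} (h : C.IsW n p) (hm : m + k ≤ n) :
    C.IsW m (fun i => p (i + k)) := fun i hi => by
  have := h (i + k) (by omega)
  rwa [show i + k + 1 = i + 1 + k by omega] at this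

theorem isW_rev {n : ℕ} {p : ℕ → V} (h : C.IsW n p) : C.IsW n (fun i => p (n - i)) := fun i hi => by
  have := h (n - (i + 1)) (by omega)
  rw [show n - (i + 1) + 1 = n - i by omega] at this
  exact C.symm this

theorem isW_cons {n : ℕ} {p : ℕ → V} {v : V} (hv : C.Adj v (p 0)) (h : C.IsW n p) :
    C.IsW (n + 1) (cons v p) := fun i hi => by
  cases i with
  | zero => exact hv
  | succ i => exact h i (by omega)

omit C in
theorem nb_shift {m n k : ℕ} {p : ℕ → V} (h : NB n p) (hm : m + k ≤ n) : NB m (fun i => p (i + k)) :=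
  fun i hi => by
    have := h (i + k) (by omega)
    rwa [show i + k + 2 = i + 2 + k by omega] at this

omit C in
theorem nb_rev {n : ℕ} {p : ℕ → V} (h : NB n p) : NB n (fun i => p (n - i)) := fun i hi e => by
  have := h (n - (i + 2)) (by omega)
  rw [show n - (i + 2) + 2 = n - i by omega] at this
  exact this e.symm

omit C in
theorem nb_cons {n : ℕ} {p : ℕ → V} {v : V} (hv : 1 ≤ n → p 1 ≠ v) (h : NB n p) :
    NB (n + 1) (cons v p) := fun i hi => by
  cases i with
  | zero => exact hv (by omega)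
  | succ i => exact h i (by omega)

theorem isW_smul {n : ℕ} {p : ℕ → V} (g : X) (h : C.IsW n p) : C.IsW n (fun i => g • p i) :=
  fun i hi => C.smul_adj g (h i hi)

theorem A_iff {n : ℕ} {p : ℕ → V} (h : C.IsW n p) :
    ∀ i, i ≤ n → (C.A (p i) ↔ (C.A (p 0) ↔ Even i)) := by
  intro i
  induction i with
  | zero => intro; simp
  | succ i ih =>
    intro hi
    have h1 := ih (by omega)
    have h2 := C.side (h i (by omega))
    have h3 : Even (i + 1) ↔ ¬ Even i := Nat.even_add_one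
    tauto

theorem A_start_iff {n : ℕ} {p q : ℕ → V} (hp : C.IsW n p) (hq : C.IsW n q)
    (he : C.A (p n) ↔ C.A (q n)) : C.A (p 0) ↔ C.A (q 0) := by
  have h1 := C.A_iff hp n le_rfl
  have h2 := C.A_iff hq n le_rfl
  tauto

theorem exists_crit {a : V} (ha : C.A a) : ∃ n, C.crit n := by
  by_contra hno
  obtain ⟨b, hb⟩ := C.exists_nbr a
  let R : V → Prop := fun x => ∃ n p, C.IsW n p ∧ p 0 = a ∧ p n = x
  have hZ : ∀ x, R x → C.Z a ≤ C.Q x := by
    rintro x ⟨n, p, hp, rfl, rfl⟩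
    exact by_contra fun h => hno ⟨n, p, hp, ha, h⟩
  have hRa : R a := ⟨0, fun _ => a, fun i hi => absurd hi (by omega), rfl, rfl⟩
  have hRb : R b := ⟨1, fun i => if i = 0 then a else b,
    fun i hi => by obtain rfl : i = 0 := (by omega); simpa using hb, by simp, by simp⟩
  have hRa' : ∀ g : X, g • a = a → ∀ x, R x → R (g • x) := by
    rintro g hg x ⟨n, p, hp, h0, rfl⟩
    exact ⟨n, fun i => g • p i, C.isW_smul g hp, by simp [h0, hg], rfl⟩
  have hRb' : ∀ g : X, g • b = b → ∀ x, R x → R (g • x) := by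
    rintro g hg x ⟨n, p, hp, h0, rfl⟩
    have hab : C.Adj a b := hb
    have hgb : C.Adj b (g • a) := C.smul_nbr hg (C.symm hab)
    refine ⟨n + 1 + 1, cons a (cons b (fun i => g • p i)),
      C.isW_cons hab (C.isW_cons ?_ (C.isW_smul g hp)), rfl, rfl⟩
    simpa [h0] using hgb
  let N : Subgroup X := ⨅ x : {x // R x}, C.Q x.1
  have hN : N ≤ Ed a b := (iInf_le (fun x : {x // R x} => C.Q x.1) ⟨a, hRa⟩).trans (C.Q_le_Ed hb)
  have hnorm : ∀ c : V, (∀ g : X, g • c = c → ∀ x, R x → R (g • x)) →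
      St c ≤ Subgroup.normalizer (N : Set X) := by
    intro c hc g hg
    haveI := C.finite_le (hN.trans inf_le_left)
    refine mem_normalizer_finite fun y hy => ?_
    rw [Subgroup.mem_iInf] at hy ⊢
    rintro ⟨x, hx⟩
    have hg' : g⁻¹ • c = c := inv_smul_eq_iff.2 (show g • c = c from hg).symm
    have := C.smul_Q (g := g) (hy ⟨g⁻¹ • x, hc _ hg' x hx⟩)
    simpa using this
  have hbot := C.faithful hb N hN (hnorm a hRa') (hnorm b hRb')
  obtain ⟨z, hz, hz1⟩ := (Subgroup.bot_or_exists_ne_one _).resolve_left (C.cB_ne_bot hb ha)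
  have : z ∈ N := Subgroup.mem_iInf.2 fun x => hZ x.1 x.2 (C.cB_le_Z hb hz)
  rw [hbot] at this
  exact hz1 (Subgroup.mem_bot.1 this)

theorem exists_A (v : V) : ∃ a, C.A a := by
  obtain ⟨w, hw⟩ := C.exists_nbr v
  by_cases h : C.A v
  · exact ⟨v, h⟩
  · exact ⟨w, C.A_of_not (C.symm hw) h⟩

theorem exists_CP (v : V) : ∃ p, C.CP p := by
  obtain ⟨a, ha⟩ := C.exists_A v
  exact Nat.sInf_mem (C.exists_crit ha)

theorem le_Q_walk {n : ℕ} {p : ℕ → V} (hp : C.IsW n p) (ha : C.A (p 0)) (hn : n < C.bb) :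
    C.Z (p 0) ≤ C.Q (p n) :=
  by_contra fun h => absurd (Nat.sInf_le (s := {n | C.crit n}) ⟨p, hp, ha, h⟩) (Nat.not_le.2 hn)

theorem le_St_walk {n : ℕ} {p : ℕ → V} (hp : C.IsW n p) (ha : C.A (p 0)) (hn : n ≤ C.bb) :
    C.Z (p 0) ≤ St (p n) := by
  cases n with
  | zero => exact C.Z_le_St ha
  | succ n =>
    intro x hx
    exact (C.le_Q_walk (IsW.mono C hp (Nat.le_succ n)) ha (by omega) hx).2 _ (hp n (by omega))

variable {p : ℕ → V}

theorem one_le_bb (hp : C.CP p) : 1 ≤ C.bb := by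
  rcases Nat.eq_zero_or_pos C.bb with h | h
  · exact absurd (C.Z_le_Q hp.2.1) (by simpa [h] using hp.2.2)
  · exact h

theorem CP_adj (hp : C.CP p) {i : ℕ} (hi : i < C.bb) : C.Adj (p i) (p (i + 1)) := hp.1 i hi

theorem CP_A (hp : C.CP p) {i : ℕ} (hi : i ≤ C.bb) : C.A (p i) ↔ Even i := by
  have := C.A_iff hp.1 i hi; have := hp.2.1; tauto

theorem CP_nb (hp : C.CP p) : NB C.bb p := by
  intro i hi e
  have hw : C.IsW (C.bb - 2) (fun j => if j ≤ i then p j else p (j + 2)) := by
    intro j hj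
    simp only
    rcases Nat.lt_trichotomy j i with h | h | h
    · rw [if_pos (by omega : j ≤ i), if_pos (by omega : j + 1 ≤ i)]; exact hp.1 j (by omega)
    · subst h
      rw [if_pos le_rfl, if_neg (by omega), ← e]
      exact hp.1 (j + 2) (by omega)
    · rw [if_neg (by omega), if_neg (by omega)]; exact hp.1 (j + 2) (by omega)
  have h1 := C.le_Q_walk hw (by simpa using hp.2.1) (by omega)
  simp only [Nat.zero_le, if_true] at h1
  refine hp.2.2 ?_
  by_cases hb : C.bb - 2 ≤ i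
  · rw [if_pos hb] at h1
    obtain rfl : i = C.bb - 2 := by omega
    rw [show C.bb - 2 + 2 = C.bb by omega] at e
    rw [e]; exact h1
  · rw [if_neg hb, show C.bb - 2 + 2 = C.bb by omega] at h1; exact h1

theorem CP_le_Q (hp : C.CP p) {i j : ℕ} (hi : i ≤ C.bb) (hj : j ≤ C.bb) (hA : Even i)
    (hd : j - i < C.bb ∧ i - j < C.bb) : C.Z (p i) ≤ C.Q (p j) := by
  have ha := (C.CP_A hp hi).2 hA
  rcases le_total i j with h | h
  · have := C.le_Q_walk (C.isW_shift hp.1 (m := j - i) (k := i) (by omega)) (by simpa using ha) hd.1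
    simpa [Nat.sub_add_cancel h] using this
  · have hw := C.isW_rev (C.isW_shift hp.1 (m := i - j) (k := j) (by omega))
    have := C.le_Q_walk hw (by simpa [Nat.sub_add_cancel h] using ha) hd.2
    simpa [Nat.sub_add_cancel h] using this

theorem CP_le_St (hp : C.CP p) {i j : ℕ} (hi : i ≤ C.bb) (hj : j ≤ C.bb) (hA : Even i) :
    C.Z (p i) ≤ St (p j) := by
  have ha := (C.CP_A hp hi).2 hA
  rcases le_total i j with h | h
  · have := C.le_St_walk (C.isW_shift hp.1 (m := j - i) (k := i) (by omega)) (by simpa using ha)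
      (by omega)
    simpa [Nat.sub_add_cancel h] using this
  · have hw := C.isW_rev (C.isW_shift hp.1 (m := i - j) (k := j) (by omega))
    have := C.le_St_walk hw (by simpa [Nat.sub_add_cancel h] using ha) (by omega)
    simpa [Nat.sub_add_cancel h] using this

theorem hasMover_mono {m n : ℕ} {s : Prop} (hm : m ≤ n) (h : C.HasMover n s) : C.HasMover m s := by
  obtain ⟨p, hp, hnb, hs, g, hg, hgQ⟩ := h
  refine ⟨fun i => p (i + (n - m)), C.isW_shift hp (by omega), nb_shift hnb (by omega), ?_, g,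
    fun i hi => hg _ (by omega), ?_⟩
  · simpa [Nat.add_sub_cancel' hm] using hs
  · simpa [Nat.add_sub_cancel' hm] using hgQ

theorem hasMover_CP_end (hp : C.CP p) : C.HasMover C.bb (C.A (p C.bb)) := by
  obtain ⟨s, hs, hsQ⟩ := SetLike.not_le_iff_exists.1 hp.2.2
  exact ⟨p, hp.1, C.CP_nb hp, Iff.rfl, s,
    fun i hi => C.CP_le_St hp (Nat.zero_le _) hi Even.zero hs, hsQ⟩

theorem tr_zero : C.Tr 0 := by
  intro p q _ _ _ _ hs
  obtain ⟨u, hu⟩ := C.exists_nbr (p 0)
  obtain ⟨w, hw⟩ := C.exists_nbr (q 0)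
  obtain ⟨g, hg, -⟩ := C.edge hu hw hs
  exact ⟨g, fun i hi => by obtain rfl : i = 0 := (by omega); exact hg⟩

theorem tr_one : C.Tr 1 := by
  intro p q hp _ hq _ hs
  obtain ⟨g, hg, hg'⟩ := C.edge (hp 0 one_pos) (hq 0 one_pos) hs
  exact ⟨g, fun i hi => by rcases (by omega : i = 0 ∨ i = 1) with rfl | rfl <;> assumption⟩

theorem tr_succ {n : ℕ} (hn : 1 ≤ n) (hm : ∀ s : Prop, C.HasMover n s) (ht : C.Tr n) :
    C.Tr (n + 1) := by
  intro p q hp hpnb hq hqnb hs
  obtain ⟨g, hg⟩ := ht p q (IsW.mono C hp n.le_succ) (fun i hi => hpnb i (by omega))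
    (IsW.mono C hq n.le_succ) (fun i hi => hqnb i (by omega)) hs
  by_cases hlast : g • p (n + 1) = q (n + 1)
  · refine ⟨g, fun i hi => ?_⟩
    rcases (by omega : i ≤ n ∨ i = n + 1) with h | rfl
    · exact hg i h
    · exact hlast
  obtain ⟨w, hw, hwnb, hws, h, hh, hhQ⟩ := hm (C.A (q n))
  obtain ⟨k, hk⟩ := ht w q hw hwnb (IsW.mono C hq n.le_succ) (fun i hi => hqnb i (by omega))
    (C.A_start_iff hw (IsW.mono C hq n.le_succ) hws)
  have hfix : ∀ i, i ≤ n → (k * h * k⁻¹) • q i = q i := fun i hi => by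
    rw [← hk i hi, mul_smul, mul_smul, inv_smul_smul, hh i hi]
  have hQ : k * h * k⁻¹ ∉ C.Q (q n) := fun e => hhQ (by rwa [← hk n le_rfl, C.smul_Q_iff] at e)
  have hprev : C.Adj (q n) (q (n - 1)) := by
    have := hq (n - 1) (by omega)
    rw [Nat.sub_add_cancel hn] at this
    exact C.symm this
  have hgprev : g • p (n - 1) = q (n - 1) := hg _ (by omega)
  have hu : C.Adj (q n) (g • p (n + 1)) := by
    have := C.smul_adj g (hp n (by omega))
    rwa [hg n le_rfl] at this
  have hu1 : g • p (n + 1) ≠ q (n - 1) := fun e => by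
    rw [← hgprev] at e
    have := hpnb (n - 1) (by omega)
    rw [show n - 1 + 2 = n + 1 by omega] at this
    exact this (MulAction.injective g e)
  have hq1 : q (n + 1) ≠ q (n - 1) := by
    have := hqnb (n - 1) (by omega)
    rwa [show n - 1 + 2 = n + 1 by omega] at this
  obtain ⟨m1, m2, m3, -⟩ := C.moves hprev hu hu1 ⟨hfix n le_rfl, hfix _ (by omega)⟩ hQ
  refine ⟨k * h * k⁻¹ * g, fun i hi => ?_⟩
  rcases (by omega : i ≤ n ∨ i = n + 1) with hi' | rfl
  · rw [mul_smul, hg i hi', hfix i hi']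
  · rw [mul_smul]
    rcases C.three hprev hu (hq n (by omega)) m3 hu1 hq1 hlast with e | e | e
    · exact absurd e m2
    · exact absurd e m1
    · exact e

theorem tr_of_movers {N : ℕ} (hm : ∀ s : Prop, C.HasMover N s) : ∀ n, n ≤ N + 1 → C.Tr n := by
  intro n
  induction n with
  | zero => exact fun _ => C.tr_zero
  | succ n ih =>
    intro hn
    rcases Nat.eq_zero_or_pos n with rfl | h1
    · exact C.tr_one
    · exact C.tr_succ h1 (fun s => C.hasMover_mono (by omega) (hm s)) (ih (by omega))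

theorem movers_both {n : ℕ} {P : Prop} (h1 : C.HasMover n P) (h2 : C.HasMover n (¬ P)) :
    ∀ s : Prop, C.HasMover n s := by
  intro s
  by_cases hP : P <;> by_cases hs : s
  all_goals
    first
      | (obtain ⟨p, a, b, c, d⟩ := h1; exact ⟨p, a, b, by tauto, d⟩)
      | (obtain ⟨p, a, b, c, d⟩ := h2; exact ⟨p, a, b, by tauto, d⟩)

end Ctx

end CfsgLib.Goldschmidt
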